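import Mathlib
import Cfsg.Agent.Lib.FischerMTypes.Aut22.Clique
import Cfsg.Agent.Lib.FischerMTypes.Syl22.Bases

/-!
Type M(22): the sixes inside a base form a triple system; cliques extend to bases and bases are
conjugate.
-/

set_option autoImplicit false
set_option linter.style.haveILetI false
set_option linter.unusedSectionVars false

namespace Cfsg.Agent.Lib.FischerMTypes90

open Cfsg.Agent.Lib.FischerMTypes.Basic Cfsg.Agent.Lib.FischerMTypes.Primitive
  Cfsg.Agent.Lib.FischerMTypes.Aut22 Cfsg.Agent.Lib.FischerMTypes.Syl22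
open Cfsg.Agent.Lib.FischerMTypes.TraceCounts (Sys)

variable {Q : Type*} [Group Q] [Finite Q] {E : Set Q}
variable {F : Type} [Field F] [Fintype F]
variable (S : Sys E F)

include S in
theorem base_system {B : Set Q} (hB : IsBase E B) [Fintype B] [DecidableEq B] :
    TripleSystem (blks E B) := by
  have htri : ∀ {p q r : B}, p ≠ q → p ≠ r → q ≠ r → Tri E (p : Q) q r := fun n1 n2 n3 =>
    hB.tri (Subtype.coe_prop _) (Subtype.coe_prop _) (Subtype.coe_prop _) (Subtype.coe_ne_coe.mpr n1)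
      (Subtype.coe_ne_coe.mpr n2) (Subtype.coe_ne_coe.mpr n3)
  refine ⟨?_, ?_, ?_, ?_⟩
  · rw [← Nat.card_eq_fintype_card, Nat.card_coe_set_eq, hB.card]
  · intro H hH
    obtain ⟨p, q, r, n1, n2, n3, rfl⟩ := mem_blks.mp hH
    rw [← Finset.card_map (Function.Embedding.subtype _), ← Set.ncard_coe_finset]
    rw [show ((blk E p q r).map (Function.Embedding.subtype _) : Set Q) = six E (p : Q) q r from ?_,
      ncard_six S (htri n1 n2 n3)]
    ext y
    simp only [Finset.coe_map, Set.mem_image, Finset.mem_coe, mem_blk, Function.Embedding.subtype_apply]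
    exact ⟨fun ⟨z, hz, e⟩ => e ▸ hz, fun hy => ⟨⟨y, hB.closed S p.2 q.2 r.2 hy⟩, hy, rfl⟩⟩
  · intro p q r n1 n2 n3
    exact ⟨_, mem_blks.mpr ⟨p, q, r, n1, n2, n3, rfl⟩, mem_blk.mpr ((htri n1 n2 n3).mem_six (Or.inl rfl)),
      mem_blk.mpr ((htri n1 n2 n3).mem_six (Or.inr (Or.inl rfl))),
      mem_blk.mpr ((htri n1 n2 n3).mem_six (Or.inr (Or.inr rfl)))⟩
  · intro H hH K hK x y z m1 m2 m3 hx hy hz hx' hy' hz'
    obtain ⟨p, q, r, n1, n2, n3, rfl⟩ := mem_blks.mp hH
    obtain ⟨p', q', r', k1, k2, k3, rfl⟩ := mem_blks.mp hK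
    ext t
    rw [mem_blk, mem_blk, ← six_eq S (htri n1 n2 n3) (mem_blk.mp hx) (mem_blk.mp hy) (mem_blk.mp hz)
      (Subtype.coe_ne_coe.mpr m1) (Subtype.coe_ne_coe.mpr m2) (Subtype.coe_ne_coe.mpr m3),
      ← six_eq S (htri k1 k2 k3) (mem_blk.mp hx') (mem_blk.mp hy') (mem_blk.mp hz')
      (Subtype.coe_ne_coe.mpr m1) (Subtype.coe_ne_coe.mpr m2) (Subtype.coe_ne_coe.mpr m3)]

include S in
/-- two sixes of a base through a point share exactly one further point -/
theorem six_second {B : Set Q} (hB : IsBase E B) {e p q p' q' : Q} (he : e ∈ B) (hp : p ∈ B) (hq : q ∈ B)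
    (hp' : p' ∈ B) (hq' : q' ∈ B) (h : Tri E e p q) (h' : Tri E e p' q') (hne : six E e p q ≠ six E e p' q') :
    ∃ m, m ∈ six E e p q ∧ m ∈ six E e p' q' ∧ m ≠ e ∧
      ∀ x, x ∈ six E e p q → x ∈ six E e p' q' → x = e ∨ x = m := by
  classical
  let := Fintype.ofFinite B
  have T := base_system S hB
  set H := blk E (⟨e, he⟩ : B) ⟨p, hp⟩ ⟨q, hq⟩
  set K := blk E (⟨e, he⟩ : B) ⟨p', hp'⟩ ⟨q', hq'⟩
  have hH : H ∈ blks E B := mem_blks.mpr ⟨_, _, _, fun e => h.nab (congrArg Subtype.val e),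
    fun e => h.nac (congrArg Subtype.val e), fun e => h.nbc (congrArg Subtype.val e), rfl⟩
  have hK : K ∈ blks E B := mem_blks.mpr ⟨_, _, _, fun e => h'.nab (congrArg Subtype.val e),
    fun e => h'.nac (congrArg Subtype.val e), fun e => h'.nbc (congrArg Subtype.val e), rfl⟩
  have hHK : H ≠ K := fun hh => hne (by
    ext x
    constructor
    · intro hx
      have h1 : (⟨x, hB.closed S he hp hq hx⟩ : B) ∈ H := mem_blk.mpr hx
      rw [hh] at h1
      exact mem_blk.mp h1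
    · intro hx
      have h1 : (⟨x, hB.closed S he hp' hq' hx⟩ : B) ∈ K := mem_blk.mpr hx
      rw [← hh] at h1
      exact mem_blk.mp h1)
  have he0 : (⟨e, he⟩ : B) ∈ H := mem_blk.mpr (h.mem_six (Or.inl rfl))
  have he1 : (⟨e, he⟩ : B) ∈ K := mem_blk.mpr (h'.mem_six (Or.inl rfl))
  have h2 := T.inter_two hH hK hHK he0 he1
  have hein : (⟨e, he⟩ : B) ∈ H ∩ K := Finset.mem_inter.mpr ⟨he0, he1⟩
  have h1 : ((H ∩ K).erase ⟨e, he⟩).card = 1 := by rw [Finset.card_erase_of_mem hein, h2]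
  obtain ⟨⟨m, hmB⟩, hm⟩ := Finset.card_eq_one.mp h1
  have hm' := Finset.mem_erase.mp (hm ▸ Finset.mem_singleton_self (⟨m, hmB⟩ : B))
  refine ⟨m, mem_blk.mp (Finset.mem_inter.mp hm'.2).1, mem_blk.mp (Finset.mem_inter.mp hm'.2).2,
    fun hh => hm'.1 (Subtype.ext hh), fun x hx hx' => ?_⟩
  by_cases hxe : x = e
  · exact Or.inl hxe
  · refine Or.inr ?_
    have hxm : (⟨x, hB.closed S he hp hq hx⟩ : B) ∈ (H ∩ K).erase ⟨e, he⟩ :=
      Finset.mem_erase.mpr ⟨fun hh => hxe (congrArg Subtype.val hh), Finset.mem_inter.mpr ⟨mem_blk.mpr hx, mem_blk.mpr hx'⟩⟩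
    rw [hm, Finset.mem_singleton] at hxm
    exact congrArg Subtype.val hxm

include S in
/-- pairwise commuting transpositions lie in the base of a Sylow subgroup -/
theorem clique_sylow {X : Set Q} (hX : X ⊆ E) (hc : ∀ x ∈ X, ∀ y ∈ X, Commute x y) :
    ∃ T : Sylow 2 Q, X ⊆ {x | x ∈ E ∧ x ∈ (T : Subgroup Q)} := by
  have hab : ∀ g ∈ Subgroup.closure X, ∀ y ∈ X, Commute g y := fun g hg y hy =>
    (FischerMTypes.Levels.commute_closure (fun s hs => hc y hy s hs) g hg).symm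
  have hp : IsPGroup 2 ↥(Subgroup.closure X) := fun g => ⟨1, Subtype.ext (by
    show (g : Q) ^ (2 ^ 1) = 1
    rw [pow_one, sq]
    obtain ⟨g, hg⟩ := g
    show g * g = 1
    induction hg using Subgroup.closure_induction with
    | mem y hy => exact mul_self S.hD.1 (hX hy)
    | one => simp
    | mul u v hu hv hu2 hv2 =>
      have huv : Commute v u := (FischerMTypes.Levels.commute_closure
        (fun s hs => hab v hv s hs) u hu)
      rw [huv.mul_mul_mul_comm, hu2, hv2, one_mul]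
    | inv u _ hu2 => rw [← mul_inv_rev, hu2, inv_one])⟩
  obtain ⟨T, hT⟩ := hp.exists_le_sylow
  exact ⟨T, fun x hx => ⟨hX hx, hT (Subgroup.subset_closure hx)⟩⟩

include S in
theorem exists_base_of_clique {X : Set Q} (hX : X ⊆ E) (hc : ∀ x ∈ X, ∀ y ∈ X, Commute x y) :
    ∃ B, IsBase E B ∧ X ⊆ B := by
  obtain ⟨T, hT⟩ := clique_sylow S hX hc
  exact ⟨_, sylow_base S T, hT⟩

include S in
theorem exists_base : ∃ B, IsBase E B := ⟨_, sylow_base S (default : Sylow 2 Q)⟩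

include S in
/-- bases are conjugate -/
theorem bases_conj {B B' : Set Q} (hB : IsBase E B) (hB' : IsBase E B') :
    ∃ g : Q, ∀ x ∈ B, g * x * g⁻¹ ∈ B' := by
  obtain ⟨T, hT⟩ := clique_sylow S hB.sub hB.clique
  obtain ⟨T', hT'⟩ := clique_sylow S hB'.sub hB'.clique
  have heq : B' = {x | x ∈ E ∧ x ∈ (T' : Subgroup Q)} :=
    Set.eq_of_subset_of_ncard_le hT' (by rw [(sylow_base S T').card, hB'.card]) (Set.toFinite _)
  obtain ⟨g, hg⟩ := MulAction.exists_smul_eq Q T T'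
  refine ⟨g, fun x hx => ?_⟩
  rw [heq, ← hg]
  exact ⟨S.hD.2.1 g x (hB.sub hx), Subgroup.smul_mem_pointwise_smul _ (MulAut.conj g) _ (hT hx).2⟩

end Cfsg.Agent.Lib.FischerMTypes90
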