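import Mathlib
import Cfsg.Agent.Lib.FischerMTypes.Free.Six
import Cfsg.Agent.Lib.FischerMTypes.Shorten
import Cfsg.Agent.Lib.FischerMTypes.InvolutionsM23
import Cfsg.Agent.Lib.UnitaryFour.Lifting

/-!
Extensions of a group of type M(22) by a central subgroup of exponent two: lifts of commuting
transpositions commute, lifts of transpositions square to one (there is a relation of odd length
among pairwise commuting transpositions), and so every involution lifts to an involution.
-/

set_option autoImplicit false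
set_option linter.style.haveILetI false
set_option linter.unusedSectionVars false

namespace Cfsg.Agent.Lib.FischerMTypes90.CoverLifts

open Cfsg.Agent.Lib.FischerMTypes.Basic Cfsg.Agent.Lib.FischerMTypes.Primitive
  Cfsg.Agent.Lib.FischerMTypes.Aut22 Cfsg.Agent.Lib.FischerMTypes.Thirteen
open Cfsg.Agent.Lib.FischerMTypes.Levels Cfsg.Agent.Lib.FischerMTypes.Lines
open Cfsg.Agent.Lib.FischerMTypes.Step
open Cfsg.Agent.Lib.FischerMTypes.TraceCounts (Sys)
open scoped commutatorElement

variable {Q : Type*} [Group Q] [Finite Q] {E : Set Q}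
variable {F : Type} [Field F] [Fintype F]

/-- the parity lemma for a list of pairwise commuting elements with one central square -/
theorem prod_sq_pow {M : Type*} [Monoid M] {z : M} :
    ∀ l : List M, (∀ a ∈ l, a * a = z) → (∀ a ∈ l, ∀ b ∈ l, Commute a b) →
      l.prod * l.prod = z ^ l.length := by
  intro l
  induction l with
  | nil => simp
  | cons a l ih =>
    intro h1 h2
    have hc : Commute a l.prod := Commute.list_prod_right _ _ (fun b hb =>
      h2 a List.mem_cons_self b (List.mem_cons_of_mem _ hb))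
    rw [List.prod_cons, hc.symm.mul_mul_mul_comm, h1 a List.mem_cons_self,
      ih (fun x hx => h1 x (List.mem_cons_of_mem _ hx))
        (fun x hx y hy => h2 x (List.mem_cons_of_mem _ hx) y (List.mem_cons_of_mem _ hy)),
      List.length_cons, pow_succ']

variable (S : Sys E F)

include S in
/-- a relation of odd length among pairwise commuting transpositions -/
theorem odd_relation : ∃ l : List Q, (∀ x ∈ l, x ∈ E) ∧ (∀ x ∈ l, ∀ y ∈ l, Commute x y) ∧
    Odd l.length ∧ l.prod = 1 := by
  obtain ⟨a, ha, -⟩ := S.hprim.2.1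
  obtain ⟨b, hb, -⟩ := Cfsg.Agent.Lib.FischerMTypes.QuasiM22.exists_perp_noncomm S ha
  obtain ⟨c, hc, hcb, hbc⟩ := (S.lines a ha).second b hb
  have htri : Tri E a b c := ⟨ha, hb.1, hc.1, Ne.symm hb.2.1, Ne.symm hc.2.1, Ne.symm hcb, hb.2.2, hc.2.2, hbc⟩
  obtain ⟨d, hd, hd6⟩ : ∃ d ∈ cl3 E a b c, d ∉ six E a b c := by
    refine Set.exists_mem_notMem_of_ncard_lt_ncard (s := six E a b c) (t := cl3 E a b c) ?_ (Set.toFinite _)
    rw [ncard_six S htri, ncard_cl3 S htri]
    norm_num
  have hne : ∀ z, z = a ∨ z = b ∨ z = c → d ≠ z := fun z hz e => hd6 (e ▸ htri.mem_six hz)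
  obtain ⟨hdE, cad, cbd, ccd⟩ := hd
  obtain ⟨l, hl3, hlE, hlc, hlall, hlp⟩ := FischerMTypes.Shorten.shorten S ha hb hc
    (show d ∈ perp E a from ⟨hdE, hne a (Or.inl rfl), cad⟩) (Ne.symm hcb) (Ne.symm (hne b (Or.inr (Or.inl rfl))))
    (Ne.symm (hne c (Or.inr (Or.inr rfl)))) hbc cbd ccd
  have hfour : ∀ x ∈ l, ∀ y ∈ [a, b, c, d], Commute y x := by
    intro x hx y hy
    simp only [List.mem_cons, List.not_mem_nil, or_false] at hy
    rcases hy with h | h | h | h <;> rw [h]
    · exact hlall x hx a ha (Commute.refl _) hb.2.2 hc.2.2 cad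
    · exact hlall x hx b hb.1 hb.2.2.symm (Commute.refl _) hbc cbd
    · exact hlall x hx c hc.1 hc.2.2.symm hbc.symm (Commute.refl _) ccd
    · exact hlall x hx d hdE cad.symm cbd.symm ccd.symm (Commute.refl _)
  rcases Nat.even_or_odd l.length with heven | hodd
  swap
  · refine ⟨[a, b, c, d] ++ l, ?_, ?_, ?_, ?_⟩
    · intro x hx
      rcases List.mem_append.mp hx with h | h
      · simp only [List.mem_cons, List.not_mem_nil, or_false] at h
        rcases h with h | h | h | h <;> rw [h]
        exacts [ha, hb.1, hc.1, hdE]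
      · exact hlE x h
    · intro x hx y hy
      rcases List.mem_append.mp hx with h | h <;> rcases List.mem_append.mp hy with h' | h'
      · simp only [List.mem_cons, List.not_mem_nil, or_false] at h h'
        rcases h with h | h | h | h <;> rcases h' with h' | h' | h' | h' <;> rw [h, h'] <;>
          first
          | exact Commute.refl _
          | assumption
          | exact Commute.symm (by assumption)
          | exact hb.2.2
          | exact hb.2.2.symm
          | exact hc.2.2
          | exact hc.2.2.symm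
      · exact hfour y h' x h
      · exact (hfour x h y h').symm
      · exact hlc x h y h'
    · rw [List.length_append]
      exact Even.add_odd ⟨2, rfl⟩ hodd
    · rw [List.prod_append, hlp]
      simp only [List.prod_cons, List.prod_nil, mul_one, mul_assoc]
      have := UnitaryFour.Lifting.prod_mul_self_eq_one l (fun x hx => mul_self S.hD.1 (hlE x hx)) hlc
      simpa only [hlp, mul_assoc] using this
  exfalso
  have hdd : d * d = 1 := mul_self S.hD.1 hdE
  have h3 : IsProd E 3 (a * b * c) :=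
    ⟨[a, b, c], by simp [htri.nab, htri.nac, htri.nbc], rfl, by simp [ha, hb.1, hc.1], by
      simp [hb.2.2, hb.2.2.symm, hc.2.2, hc.2.2.symm, hbc, hbc.symm], by simp [mul_assoc]⟩
  have hnot : ∀ z ∈ E, a * b * c ≠ z := fun z hz h => by
    have := FischerMTypes.InvolutionsM22.m_unique S (by norm_num) le_rfl le_rfl (by norm_num) h3
      (show IsProd E 1 (a * b * c) from ⟨[z], List.nodup_singleton z, rfl, by simp [hz], by simp, by simp [h]⟩)
    norm_num at this
  have habc : a * b * c = l.prod * d := by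
    rw [hlp, show a * (b * c * d) * d = a * b * c * (d * d) by group, hdd, mul_one]
  match l, heven, hl3 with
  | [], _, _ =>
    rw [List.prod_nil, one_mul] at habc
    exact hnot d hdE habc
  | [x, y], _, _ =>
    simp only [List.prod_cons, List.prod_nil, mul_one] at habc
    have hx := hlE x (by simp)
    have hy := hlE y (by simp)
    have cdx : Commute d x := hfour x (by simp) d (by simp)
    have cdy : Commute d y := hfour y (by simp) d (by simp)
    have cxy : Commute x y := hlc x (by simp) y (by simp)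
    have nxy : x ≠ y := by
      intro h
      rw [← h, mul_self S.hD.1 hx, one_mul] at habc
      exact hnot d hdE habc
    have ndx : d ≠ x := by
      intro h
      rw [← h, cdy.eq, mul_assoc y, hdd, mul_one] at habc
      exact hnot y hy habc
    have ndy : d ≠ y := by
      intro h
      rw [← h, mul_assoc x, hdd, mul_one] at habc
      exact hnot x hx habc
    have hT : Tri E d x y := ⟨hdE, hx, hy, ndx, ndy, nxy, cdx, cdy, cxy⟩
    have hcl : cl3 E d x y = cl3 E a b c := by
      rw [← tfix_prod S hT, ← tfix_prod S htri, ← mul_assoc a, habc, (cdx.mul_right cdy).eq]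
    refine hd6 ⟨⟨hdE, cad, cbd, ccd⟩, fun z hz => ?_⟩
    rw [← hcl] at hz
    exact hz.2.1
  | [x], h, _ => simp at h
  | x :: y :: z :: w :: _, _, h => simp only [List.length_cons] at h; omega
  | [x, y, z], h, _ => exact absurd h (by decide : ¬ Even 3)

variable {C : Type*} [Group C] (π : C →* Q)

include S in
/-- whatever centralises a transposition lifts to the centraliser of its lifts -/
theorem lift_commute_of_commute (hπ : Function.Surjective π) (hker : ∀ x : C, π x = 1 → ∀ y, x * y = y * x)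
    {A B : C} (hA : π A ∈ E) (hAB : Commute (π A) (π B)) : Commute A B := by
  set H := Subgroup.closure (perp E (π A)) with hH
  have hBH : π B ∈ H := FischerMTypes.Threes.mem_closure_of_commute S hA hAB.symm
  have hcen : ∀ h ∈ H, Commute (π A) h := fun h hh =>
    (commute_closure (u := π A) (fun s hs => hs.2.2) h hh)
  have hperf : ⁅H, H⁆ = H := by
    rw [← Subgroup.map_subtype_commutator, Cfsg.Agent.Lib.FischerMTypes.QuasiM22.perfect S hA, ← MonoidHom.range_eq_map, Subgroup.range_subtype]
  have hle : ⁅H, H⁆ ≤ (Subgroup.centralizer ({A} : Set C)).map π := by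
    rw [Subgroup.commutator_le]
    intro h hh k hk
    obtain ⟨B₁, rfl⟩ := hπ h
    obtain ⟨B₂, rfl⟩ := hπ k
    have key : ∀ Y : C, π Y ∈ H → ∃ z : C, (∀ y, z * y = y * z) ∧ A * Y * A⁻¹ = Y * z := by
      intro Y hY
      refine ⟨Y⁻¹ * (A * Y * A⁻¹), hker _ ?_, by group⟩
      rw [map_mul, map_mul, map_mul, map_inv, map_inv, (hcen _ hY).eq, mul_inv_cancel_right, inv_mul_cancel]
    obtain ⟨z₁, hz₁, e₁⟩ := key B₁ hh
    obtain ⟨z₂, hz₂, e₂⟩ := key B₂ hk
    refine ⟨⁅B₁, B₂⁆, ?_, map_commutatorElement π B₁ B₂⟩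
    show ⁅B₁, B₂⁆ ∈ Subgroup.centralizer ({A} : Set C)
    rw [Subgroup.mem_centralizer_singleton_iff]
    have e : A * ⁅B₁, B₂⁆ * A⁻¹ = ⁅B₁ * z₁, B₂ * z₂⁆ := by
      rw [conjugate_commutatorElement, e₁, e₂]
    have c₁ : ∀ y, y * z₁ = z₁ * y := fun y => (hz₁ y).symm
    have c₂ : ∀ y, y * z₂ = z₂ * y := fun y => (hz₂ y).symm
    have e' : ⁅B₁ * z₁, B₂ * z₂⁆ = ⁅B₁, B₂⁆ := by
      simp only [commutatorElement_def, mul_inv_rev]
      calc B₁ * z₁ * (B₂ * z₂) * (z₁⁻¹ * B₁⁻¹) * (z₂⁻¹ * B₂⁻¹)
          = B₁ * (z₁ * (B₂ * z₂)) * (z₁⁻¹ * B₁⁻¹) * (z₂⁻¹ * B₂⁻¹) := by group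
        _ = B₁ * B₂ * (z₂ * B₁⁻¹) * (z₂⁻¹ * B₂⁻¹) := by rw [hz₁]; group
        _ = B₁ * B₂ * B₁⁻¹ * B₂⁻¹ := by rw [hz₂]; group
    rw [e'] at e
    exact (mul_inv_eq_iff_eq_mul.mp e).symm
  obtain ⟨B', hB', hB'e⟩ := hle (hperf.symm ▸ hBH)
  have hz := hker (B'⁻¹ * B) (by rw [map_mul, map_inv, hB'e, inv_mul_cancel])
  have h1 : Commute A B' := (Subgroup.mem_centralizer_singleton_iff.mp hB').symm
  have h2 : Commute A (B'⁻¹ * B) := (hz A).symm
  simpa using h1.mul_right h2

include S in
/-- lifts of commuting transpositions commute -/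
theorem lifts_commute (hπ : Function.Surjective π) (hker : ∀ x : C, π x = 1 → ∀ y, x * y = y * x)
    {A B : C} (hA : π A ∈ E) (_hB : π B ∈ E) (hAB : Commute (π A) (π B)) : Commute A B :=
  lift_commute_of_commute S π hπ hker hA hAB

include S in
/-- lifts of transpositions square to one -/
theorem lifts_sq (hπ : Function.Surjective π)
    (hker : ∀ x : C, π x = 1 → x * x = 1 ∧ ∀ y, x * y = y * x) {A : C} (hA : π A ∈ E) : A * A = 1 := by
  have hz1 : π (A * A) = 1 := by rw [map_mul, mul_self S.hD.1 hA]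
  obtain ⟨hzz, hzc⟩ := hker _ hz1
  have uniform : ∀ B : C, π B ∈ E → B * B = A * A := by
    intro B hB
    obtain ⟨g, hg⟩ := S.hprim.1 (π A) hA (π B) hB
    obtain ⟨G, rfl⟩ := hπ g
    obtain ⟨h1, h2⟩ := hker ((G * A * G⁻¹)⁻¹ * B) (by
      rw [map_mul, map_inv, map_mul, map_mul, map_inv, hg, inv_mul_cancel])
    generalize ha : (G * A * G⁻¹)⁻¹ * B = t at h1 h2
    obtain rfl : B = G * A * G⁻¹ * t := by rw [← ha]; group
    rw [(show Commute t (G * A * G⁻¹) from h2 _).mul_mul_mul_comm, h1, mul_one]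
    calc G * A * G⁻¹ * (G * A * G⁻¹) = G * (A * A) * G⁻¹ := by group
      _ = A * A := by rw [← hzc G, mul_inv_cancel_right]
  obtain ⟨l, hlE, hlc, hodd, hlp⟩ := odd_relation S
  choose L hL using hπ
  have key := prod_sq_pow (z := A * A) (l.map L)
    (fun B hB => by
      obtain ⟨x, hx, rfl⟩ := List.mem_map.mp hB
      exact uniform _ ((hL x).symm ▸ hlE x hx))
    (fun B hB B' hB' => by
      obtain ⟨x, hx, rfl⟩ := List.mem_map.mp hB
      obtain ⟨x', hx', rfl⟩ := List.mem_map.mp hB'
      exact lifts_commute S π (fun y => ⟨L y, hL y⟩) (fun y hy => (hker y hy).2)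
        ((hL x).symm ▸ hlE x hx) ((hL x').symm ▸ hlE x' hx') (by rw [hL, hL]; exact hlc x hx x' hx'))
  have hP : π (l.map L).prod = 1 := by
    rw [map_list_prod, List.map_map, show (π ∘ L) = id from funext hL, List.map_id, hlp]
  rw [(hker _ hP).1, List.length_map] at key
  obtain ⟨k, hk⟩ := hodd
  rw [hk, pow_succ, pow_mul, sq, hzz, one_pow, one_mul] at key
  exact key.symm

include S in
/-- every involution lifts to an involution -/
theorem exists_lift_sq_one (hπ : Function.Surjective π)
    (hker : ∀ x : C, π x = 1 → x * x = 1 ∧ ∀ y, x * y = y * x) (x : Q) (hx : x * x = 1) :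
    ∃ y : C, y * y = 1 ∧ π y = x := by
  obtain ⟨l, ⟨-, hlE, hlc⟩, -, hlp⟩ := FischerMTypes.InvolutionsM23.split_M22 S x hx
  choose L hL using hπ
  refine ⟨(l.map L).prod, UnitaryFour.Lifting.prod_mul_self_eq_one _ ?_ ?_, ?_⟩
  · intro B hB
    obtain ⟨y, hy, rfl⟩ := List.mem_map.mp hB
    exact lifts_sq S π (fun y => ⟨L y, hL y⟩) hker ((hL y).symm ▸ hlE y hy)
  · intro B hB B' hB'
    obtain ⟨y, hy, rfl⟩ := List.mem_map.mp hB
    obtain ⟨y', hy', rfl⟩ := List.mem_map.mp hB'
    exact lifts_commute S π (fun y => ⟨L y, hL y⟩) (fun y hy => (hker y hy).2)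
      ((hL y).symm ▸ hlE y hy) ((hL y').symm ▸ hlE y' hy') (by rw [hL, hL]; exact hlc y hy y' hy')
  · rw [map_list_prod, List.map_map, show (π ∘ L) = id from funext hL, List.map_id, hlp]

end Cfsg.Agent.Lib.FischerMTypes90.CoverLifts
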