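import Mathlib
import Cfsg.Agent.Lib.FischerMTypes90.CoverLifts

/-!
A double cover of a group of type M(22): an equivariant choice of lifts of the transpositions.
-/

set_option autoImplicit false
set_option linter.style.haveILetI false
set_option linter.unusedSectionVars false

namespace Cfsg.Agent.Lib.FischerMTypes90

open Cfsg.Agent.Lib.FischerMTypes.Basic Cfsg.Agent.Lib.FischerMTypes.Primitive
  Cfsg.Agent.Lib.FischerMTypes.Aut22
open Cfsg.Agent.Lib.FischerMTypes.TraceCounts (Sys)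
open Cfsg.Agent.Lib.FischerMTypes.Threes (six_map triple_move)

variable {Q : Type*} [Group Q] [Finite Q] {E : Set Q}
variable {F : Type} [Field F] [Fintype F]
variable {C : Type*} [Group C] {π : C →* Q}

/-- a central extension with kernel `{1, z}` of order two -/
structure Cover (π : C →* Q) (z : C) : Prop where
  surj : Function.Surjective π
  ker : ∀ x : C, π x = 1 → x = 1 ∨ x = z
  one : π z = 1
  sq : z * z = 1
  ne : z ≠ 1
  central : ∀ y : C, z * y = y * z

namespace Cover

variable {z : C} (hC : Cover π z)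

include hC in
theorem hker : ∀ x : C, π x = 1 → x * x = 1 ∧ ∀ y, x * y = y * x := by
  intro x hx
  rcases hC.ker x hx with rfl | rfl
  · simp
  · exact ⟨hC.sq, hC.central⟩

include hC in
theorem eq_or (X Y : C) (h : π Y = π X) : Y = X ∨ Y = z * X := by
  rcases hC.ker (Y * X⁻¹) (by rw [map_mul, map_inv, h, mul_inv_cancel]) with e | e
  · exact Or.inl (mul_inv_eq_one.mp e)
  · exact Or.inr (mul_inv_eq_iff_eq_mul.mp e)

end Cover

/-- an equivariant choice of lifts of the transpositions -/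
structure Sect (E : Set Q) (π : C →* Q) (L : Q → C) : Prop where
  proj : ∀ e ∈ E, π (L e) = e
  sq : ∀ e ∈ E, L e * L e = 1
  comm : ∀ e ∈ E, ∀ f ∈ E, Commute e f → Commute (L e) (L f)
  conj : ∀ e ∈ E, ∀ Y : C, Y * L e * Y⁻¹ = L (π Y * e * (π Y)⁻¹)

variable (S : Sys E F) {z : C} (hC : Cover π z)

include S hC in
theorem exists_sect {A₀ : C} (hA₀ : π A₀ ∈ E) : ∃ L : Q → C, Sect E π L ∧ L (π A₀) = A₀ := by
  classical
  have hcen : ∀ x : C, π x = 1 → ∀ y, x * y = y * x := fun x hx => (hC.hker x hx).2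
  have key : ∀ Y Y' : C, π Y * π A₀ * (π Y)⁻¹ = π Y' * π A₀ * (π Y')⁻¹ → Y * A₀ * Y⁻¹ = Y' * A₀ * Y'⁻¹ := by
    intro Y Y' h
    have hc : Commute (π A₀) (π (Y'⁻¹ * Y)) := by
      rw [map_mul, map_inv]
      show π A₀ * ((π Y')⁻¹ * π Y) = (π Y')⁻¹ * π Y * π A₀
      calc π A₀ * ((π Y')⁻¹ * π Y) = (π Y')⁻¹ * (π Y' * π A₀ * (π Y')⁻¹) * π Y := by group
        _ = (π Y')⁻¹ * (π Y * π A₀ * (π Y)⁻¹) * π Y := by rw [h]
        _ = _ := by group
    have h2 := CoverLifts.lift_commute_of_commute S π hC.surj hcen hA₀ hc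
    calc Y * A₀ * Y⁻¹ = Y' * ((Y'⁻¹ * Y) * A₀) * Y⁻¹ := by group
      _ = Y' * (A₀ * (Y'⁻¹ * Y)) * Y⁻¹ := by rw [h2.eq]
      _ = _ := by group
  have hex : ∀ e ∈ E, ∃ Y : C, π Y * π A₀ * (π Y)⁻¹ = e := by
    intro e he
    obtain ⟨g, hg⟩ := S.hprim.1 (π A₀) hA₀ e he
    obtain ⟨Y, rfl⟩ := hC.surj g
    exact ⟨Y, hg⟩
  let L : Q → C := fun e => if h : ∃ Y : C, π Y * π A₀ * (π Y)⁻¹ = e then h.choose * A₀ * h.choose⁻¹ else 1
  have hL : ∀ Y : C, L (π Y * π A₀ * (π Y)⁻¹) = Y * A₀ * Y⁻¹ := by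
    intro Y
    have h : ∃ Y' : C, π Y' * π A₀ * (π Y')⁻¹ = π Y * π A₀ * (π Y)⁻¹ := ⟨Y, rfl⟩
    simp only [L, dif_pos h]
    exact key _ _ h.choose_spec
  refine ⟨L, ⟨?_, ?_, ?_, ?_⟩, by simpa using hL 1⟩
  · intro e he
    obtain ⟨Y, rfl⟩ := hex e he
    rw [hL, map_mul, map_mul, map_inv]
  · intro e he
    obtain ⟨Y, rfl⟩ := hex e he
    rw [hL, show Y * A₀ * Y⁻¹ * (Y * A₀ * Y⁻¹) = Y * (A₀ * A₀) * Y⁻¹ by group,
      CoverLifts.lifts_sq S π hC.surj hC.hker hA₀]
    simp
  · intro e he f hf hef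
    obtain ⟨Y, rfl⟩ := hex e he
    obtain ⟨Y', rfl⟩ := hex f hf
    rw [hL, hL]
    refine CoverLifts.lifts_commute S π hC.surj hcen ?_ ?_ ?_ <;>
      simp only [map_mul, map_inv] <;> assumption
  · intro e he Y'
    obtain ⟨Y, rfl⟩ := hex e he
    rw [hL, show π Y' * (π Y * π A₀ * (π Y)⁻¹) * (π Y')⁻¹ = π (Y' * Y) * π A₀ * (π (Y' * Y))⁻¹ by
      rw [map_mul]; group, hL]
    group

variable {L : Q → C} (hL : Sect E π L)

include hC hL in
/-- the other class of lifts -/
theorem Sect.shift : Sect E π (fun e => z * L e) := by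
  refine ⟨fun e he => by rw [map_mul, hC.one, one_mul, hL.proj e he], fun e he => ?_, fun e he f hf h => ?_,
    fun e he Y => ?_⟩
  · rw [(show Commute (L e) z from (hC.central _).symm).mul_mul_mul_comm, hC.sq, one_mul, hL.sq e he]
  · have hz : ∀ y, Commute z y := hC.central
    exact ((hz z).mul_right (hz _)).mul_left ((hz _).symm.mul_right (hL.comm e he f hf h))
  · show Y * (z * L e) * Y⁻¹ = z * _
    rw [← hL.conj e he Y, ← mul_assoc Y z, ← hC.central Y]
    group

include hL in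
theorem Sect.map_prod {l : List Q} (hl : ∀ x ∈ l, x ∈ E) : π (l.map L).prod = l.prod := by
  rw [map_list_prod, List.map_map]
  conv_rhs => rw [← List.map_id l]
  exact congrArg List.prod (List.map_congr_left fun x hx => hL.proj x (hl x hx))

include hL in
theorem Sect.conj_prod (Y : C) : ∀ {l : List Q}, (∀ x ∈ l, x ∈ E) →
    Y * (l.map L).prod * Y⁻¹ = ((l.map fun x => π Y * x * (π Y)⁻¹).map L).prod
  | [], _ => by simp
  | a :: l, h => by
    simp only [List.map_cons, List.prod_cons]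
    rw [← hL.conj a (h a (by simp)) Y, ← Sect.conj_prod Y fun x hx => h x (List.mem_cons_of_mem _ hx)]
    group

include hL in
theorem Sect.perm_prod {l l' : List Q} (hp : l.Perm l') (hl : ∀ x ∈ l, x ∈ E)
    (hc : ∀ x ∈ l, ∀ y ∈ l, Commute x y) : (l.map L).prod = (l'.map L).prod :=
  (hp.map L).prod_eq' (List.Pairwise.imp_of_mem (fun {a b} ha hb _ => by
    obtain ⟨x, hx, rfl⟩ := List.mem_map.mp ha
    obtain ⟨y, hy, rfl⟩ := List.mem_map.mp hb
    exact hL.comm x (hl x hx) y (hl y hy) (hc x hx y hy))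
    (List.pairwise_of_forall (R := fun _ _ => True) (fun _ _ => trivial)))

/-- the six lifts over every six multiply to one -/
def Flat (E : Set Q) (L : Q → C) : Prop :=
  ∀ a b c : Q, Tri E a b c → ∀ l : List Q, l.Nodup → (∀ x, x ∈ l ↔ x ∈ six E a b c) → (l.map L).prod = 1

include hC hL in
theorem Flat.shift (hflat : Flat E L) (hsix : ∀ a b c : Q, Tri E a b c → (six E a b c).ncard = 6) :
    Flat E (fun e => z * L e) := by
  intro a b c h l hnd hm
  have hlen : l.length = 6 := by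
    classical
    rw [← hsix a b c h, ← List.toFinset_card_of_nodup hnd, ← Set.ncard_coe_finset]
    congr 1
    ext x
    simp [hm x]
  have key : ∀ m : List Q, (m.map fun e => z * L e).prod = z ^ m.length * (m.map L).prod := by
    intro m
    induction m with
    | nil => simp
    | cons y m ih =>
      simp only [List.map_cons, List.prod_cons, List.length_cons, pow_succ', ih]
      calc z * L y * (z ^ m.length * (m.map L).prod) = z * (L y * z ^ m.length) * (m.map L).prod := by group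
        _ = z * (z ^ m.length * L y) * (m.map L).prod := by
          rw [((show Commute z (L y) from hC.central _).pow_left _).eq]
        _ = _ := by group
  rw [key, hflat a b c h l hnd hm, hlen, mul_one, show 6 = 2 * 3 from rfl, pow_mul, sq, hC.sq, one_pow]

include S hC hL in
/-- one trivial six makes all of them trivial -/
theorem flat_of_one {a b c : Q} (h : Tri E a b c) {l : List Q} (hnd : l.Nodup)
    (hm : ∀ x, x ∈ l ↔ x ∈ six E a b c) (h1 : (l.map L).prod = 1) : Flat E L := by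
  intro a' b' c' h' l' hnd' hm'
  obtain ⟨g, rfl, rfl, rfl⟩ := triple_move S h h'
  obtain ⟨Y, rfl⟩ := hC.surj g
  have hE : ∀ x ∈ l, x ∈ E := fun x hx => ((hm x).mp hx).1.1
  have hinj : Function.Injective fun x => π Y * x * (π Y)⁻¹ := fun x y hxy => by simpa using hxy
  have hperm : (l.map fun x => π Y * x * (π Y)⁻¹).Perm l' := by
    refine (List.perm_ext_iff_of_nodup (hnd.map hinj) hnd').mpr fun x => ?_
    rw [hm', List.mem_map]
    constructor
    · rintro ⟨y, hy, rfl⟩
      exact six_map S.hD ((hm y).mp hy)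
    · intro hx
      refine ⟨(π Y)⁻¹ * x * π Y, (hm _).mpr ?_, by group⟩
      have := six_map S.hD (g := (π Y)⁻¹) hx
      simpa [mul_assoc] using this
  rw [← hL.perm_prod hperm (fun x hx => ?_) (fun x hx y hy => ?_), ← hL.conj_prod Y hE, h1]
  · simp
  · have := ((hm' x).mp (hperm.subset hx))
    exact this.1.1
  · exact ((hm' x).mp (hperm.subset hx)).2 y ((hm' y).mp (hperm.subset hy)).1

end Cfsg.Agent.Lib.FischerMTypes90
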