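import Mathlib
import Cfsg.Agent.Lib.FischerMTypes90.Sect
import Cfsg.Agent.Lib.FischerMTypes90.Bases
import Cfsg.Agent.Lib.FischerMTypes.Syl22.Final

/-!
A double cover of a group of type M(22) in which the six lifts over a six multiply to one: for one
of the two classes of lifts, the lifts over a base generate a complement.
-/

set_option autoImplicit false
set_option linter.style.haveILetI false
set_option linter.unusedSectionVars false

namespace Cfsg.Agent.Lib.FischerMTypes90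

open Cfsg.Agent.Lib.FischerMTypes.Basic Cfsg.Agent.Lib.FischerMTypes.Primitive
  Cfsg.Agent.Lib.FischerMTypes.Aut22 Cfsg.Agent.Lib.FischerMTypes.Syl22
open Cfsg.Agent.Lib.FischerMTypes.TraceCounts (Sys)

variable {Q : Type*} [Group Q] [Finite Q] {E : Set Q}
variable {F : Type} [Field F] [Fintype F]
variable {C : Type*} [Group C] [Finite C] {π : C →* Q} {z : C}
variable (S : Sys E F) (hC : Cover π z) {L : Q → C} (hL : Sect E π L)

include S in
/-- twelve points of a base, closed up under sixes -/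
theorem closure_twelve {B : Set Q} (hB : IsBase E B) : ∃ g : Fin 12 → Q, (∀ i, g i ∈ B) ∧
    (∃ a b c : Q, Tri E a b c ∧ [g 2, g 3, g 5, g 6, g 8, g 9].Nodup ∧
      ∀ x, x ∈ [g 2, g 3, g 5, g 6, g 8, g 9] ↔ x ∈ six E a b c) ∧
    ∀ K : Q → Prop, (∀ i, K (g i)) →
      (∀ a b c x : Q, a ∈ B → b ∈ B → c ∈ B → Tri E a b c → x ∈ six E a b c →
        (∀ y ∈ six E a b c, y ≠ x → K y) → K x) → ∀ x ∈ B, K x := by
  classical
  obtain ⟨a, ha⟩ : B.Nonempty := Set.nonempty_of_ncard_ne_zero (by rw [hB.card]; norm_num)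
  obtain ⟨b, c, e, hb, hc, he, n1, n2, n3, he'⟩ := hB.exists_fourth S ha
  have hH : Tri E a b c := hB.tri ha hb hc n1 n2 n3
  set H := six E a b c with hHdef
  have hHB : H ⊆ B := hB.closed S ha hb hc
  obtain ⟨P, hP, hPn⟩ := Set.exists_mem_notMem_of_ncard_lt_ncard (s := insert e H) (t := B)
    (by have := Set.ncard_insert_le e H; rw [ncard_six S hH] at this; rw [hB.card]; omega) (Set.toFinite _)
  simp only [Set.mem_insert_iff, not_or] at hPn
  -- the six through `e`, `P` and a further point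
  let M : Q → Set Q := fun x => six E e P x
  have htri : ∀ {x}, x ∈ B → x ≠ e → x ≠ P → Tri E e P x := fun hx h1 h2 =>
    hB.tri he hP hx (Ne.symm hPn.1) (Ne.symm h1) (Ne.symm h2)
  have hneH : ∀ {x}, x ∈ H → x ≠ e ∧ x ≠ P := fun hx => ⟨fun h => he' (h ▸ hx), fun h => hPn.2 (h ▸ hx)⟩
  have hMeP : ∀ {x}, x ∈ B → x ≠ e → x ≠ P → e ∈ M x ∧ P ∈ M x ∧ x ∈ M x := fun hx h1 h2 =>
    ⟨(htri hx h1 h2).mem_six (Or.inl rfl), (htri hx h1 h2).mem_six (Or.inr (Or.inl rfl)),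
      (htri hx h1 h2).mem_six (Or.inr (Or.inr rfl))⟩
  have hMsame : ∀ {x y}, x ∈ B → x ≠ e → x ≠ P → y ∈ M x → y ≠ e → y ≠ P → M y = M x := fun hx h1 h2 hy h3 h4 =>
    six_eq S (htri hx h1 h2) (hMeP hx h1 h2).1 (hMeP hx h1 h2).2.1 hy (Ne.symm hPn.1) (Ne.symm h3) (Ne.symm h4)
  have hpartner : ∀ {x}, x ∈ H → ∃ x', x' ∈ H ∧ x' ∈ M x ∧ x' ≠ x ∧ ∀ y ∈ H, y ∈ M x → y = x ∨ y = x' := by
    intro x hx
    obtain ⟨h1, h2⟩ := hneH hx
    obtain ⟨p, hp, hpx⟩ := Set.exists_ne_of_one_lt_ncard (by rw [ncard_six S hH]; norm_num : 1 < H.ncard) x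
    obtain ⟨q, hq, hqn⟩ := Set.exists_mem_notMem_of_ncard_lt_ncard (s := ({x, p} : Set Q)) (t := H)
      (by rw [Set.ncard_pair (Ne.symm hpx), ncard_six S hH]; norm_num) (Set.toFinite _)
    simp only [Set.mem_insert_iff, Set.mem_singleton_iff, not_or] at hqn
    have hx' := hHB hx
    have hHx : six E x p q = H := six_eq S hH hx hp hq (Ne.symm hpx) (Ne.symm hqn.1) (Ne.symm hqn.2)
    have hMx : six E x e P = M x := six_eq S (htri hx' h1 h2) (hMeP hx' h1 h2).2.2 (hMeP hx' h1 h2).1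
      (hMeP hx' h1 h2).2.1 h1 h2 (Ne.symm hPn.1)
    obtain ⟨m, hm1, hm2, hmx, hu⟩ := six_second S hB hx' (hHB hp) (hHB hq) he hP
      (hB.tri hx' (hHB hp) (hHB hq) (Ne.symm hpx) (Ne.symm hqn.1) (Ne.symm hqn.2))
      (hB.tri hx' he hP h1 h2 (Ne.symm hPn.1))
      (fun h => he' (show e ∈ H from hHx ▸ h ▸ (hMx ▸ (hMeP hx' h1 h2).1 : e ∈ six E x e P)))
    rw [hHx] at hm1 hu
    rw [hMx] at hm2 hu
    exact ⟨m, hm1, hm2, hmx, hu⟩
  -- three disjoint pairs
  obtain ⟨a', ha', ha'M, ha'a, hua⟩ := hpartner (x := a) (hH.mem_six (Or.inl rfl))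
  obtain ⟨h, hh, hhn⟩ := Set.exists_mem_notMem_of_ncard_lt_ncard (s := ({a, a'} : Set Q)) (t := H)
    (by rw [Set.ncard_pair (Ne.symm ha'a), ncard_six S hH]; norm_num) (Set.toFinite _)
  simp only [Set.mem_insert_iff, Set.mem_singleton_iff, not_or] at hhn
  obtain ⟨h', hh', hh'M, hh'h, huh⟩ := hpartner hh
  obtain ⟨k, hk, hkn⟩ := Set.exists_mem_notMem_of_ncard_lt_ncard (s := ({a, a', h, h'} : Set Q)) (t := H) (by
    have := (Set.ncard_insert_le a ({a', h, h'} : Set Q)).trans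
      (Nat.succ_le_succ ((Set.ncard_insert_le a' ({h, h'} : Set Q)).trans (Nat.succ_le_succ (Set.ncard_pair (Ne.symm hh'h)).le)))
    rw [ncard_six S hH]; omega) (Set.toFinite _)
  simp only [Set.mem_insert_iff, Set.mem_singleton_iff, not_or] at hkn
  obtain ⟨k', hk', hk'M, hk'k, huk⟩ := hpartner hk
  have haH : a ∈ H := hH.mem_six (Or.inl rfl)
  have hdiff : ∀ {x y}, x ∈ H → y ∈ H → y ∉ M x → ∀ z ∈ M x, z ∈ M y → z = e ∨ z = P := by
    intro x y hx hy hn z hzx hzy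
    by_contra hc
    push Not at hc
    obtain ⟨h1, h2⟩ := hneH hx
    obtain ⟨h3, h4⟩ := hneH hy
    refine hn ?_
    rw [← hMsame (hHB hx) h1 h2 hzx hc.1 hc.2, hMsame (hHB hy) h3 h4 hzy hc.1 hc.2]
    exact (hMeP (hHB hy) h3 h4).2.2
  have hhna : h ∉ M a := fun hm => by rcases hua h hh hm with r | r <;> [exact hhn.1 r; exact hhn.2 r]
  have hkna : k ∉ M a := fun hm => by rcases hua k hk hm with r | r <;> [exact hkn.1 r; exact hkn.2.1 r]
  have hknh : k ∉ M h := fun hm => by rcases huh k hk hm with r | r <;> [exact hkn.2.2.1 r; exact hkn.2.2.2 r]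
  have hthird : ∀ {x x'}, x ∈ H → x' ∈ H → x' ∈ M x → x' ≠ x →
      ∃ w ∈ M x, w ≠ e ∧ w ≠ P ∧ w ≠ x ∧ w ≠ x' := by
    intro x x' hx hx' hm hne
    obtain ⟨h1, h2⟩ := hneH hx
    obtain ⟨w, hw, hwn⟩ := Set.exists_mem_notMem_of_ncard_lt_ncard (s := ({e, P, x, x'} : Set Q)) (t := M x) (by
      have := (Set.ncard_insert_le e ({P, x, x'} : Set Q)).trans
        (Nat.succ_le_succ ((Set.ncard_insert_le P ({x, x'} : Set Q)).trans (Nat.succ_le_succ (Set.ncard_pair (Ne.symm hne)).le)))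
      rw [ncard_six S (htri (hHB hx) h1 h2)]; omega) (Set.toFinite _)
    simp only [Set.mem_insert_iff, Set.mem_singleton_iff, not_or] at hwn
    exact ⟨w, hw, hwn⟩
  obtain ⟨x₁, hx₁, n11, n12, n13, n14⟩ := hthird haH ha' ha'M ha'a
  obtain ⟨x₂, hx₂, n21, n22, n23, n24⟩ := hthird hh hh' hh'M hh'h
  obtain ⟨x₃, hx₃, n31, n32, n33, n34⟩ := hthird hk hk' hk'M hk'k
  have hMc : ∀ {x}, x ∈ H → (M x).ncard = 6 ∧ M x ⊆ B := fun hx =>
    ⟨ncard_six S (htri (hHB hx) (hneH hx).1 (hneH hx).2), hB.closed S he hP (hHB hx)⟩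
  set U := M a ∪ M h ∪ M k with hU
  have hUc : U.ncard ≤ 18 := by
    show (M a ∪ M h ∪ M k).ncard ≤ 18
    have := Set.ncard_union_le (M a ∪ M h) (M k)
    have := Set.ncard_union_le (M a) (M h)
    have := (hMc haH).1
    have := (hMc hh).1
    have := (hMc hk).1
    omega
  obtain ⟨p, hp, hpU⟩ := Set.exists_mem_notMem_of_ncard_lt_ncard (s := U) (t := B) (by rw [hB.card]; omega)
    (Set.toFinite _)
  refine ⟨![e, P, a, a', x₁, h, h', x₂, k, k', x₃, p], ?_, ⟨a, b, c, hH, ?_, ?_⟩, ?_⟩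
  · intro i
    fin_cases i <;> simp [he, hP, hp, ha, hHB ha', hHB hh, hHB hh', hHB hk, hHB hk', (hMc haH).2 hx₁,
      (hMc hh).2 hx₂, (hMc hk).2 hx₃]
  · simp only [Matrix.cons_val, List.nodup_cons, List.mem_cons, List.not_mem_nil, or_false, not_or,
      List.nodup_nil, and_true, not_false_eq_true]
    have q : ∀ {x y z}, x ∈ H → y ∈ H → z ∈ H → y ∉ M x → z ∈ M x → z ∈ M y → False := fun hx hy hz hn h1 h2 => by
      rcases hdiff hx hy hn _ h1 h2 with r | r
      exacts [(hneH hz).1 r, (hneH hz).2 r]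
    have sa := (hMeP (hHB haH) (hneH haH).1 (hneH haH).2).2.2
    have sh := (hMeP (hHB hh) (hneH hh).1 (hneH hh).2).2.2
    exact ⟨⟨Ne.symm ha'a, Ne.symm hhn.1, fun r => q haH hh haH hhna sa (r ▸ hh'M), Ne.symm hkn.1, fun r => q haH hk haH hkna sa (r ▸ hk'M)⟩,
      ⟨Ne.symm hhn.2, fun r => q haH hh ha' hhna ha'M (r ▸ hh'M), Ne.symm hkn.2.1,
        fun r => q haH hk ha' hkna ha'M (r ▸ hk'M)⟩,
      ⟨Ne.symm hh'h, Ne.symm hkn.2.2.1, fun r => q hh hk hh hknh sh (r ▸ hk'M)⟩,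
      ⟨Ne.symm hkn.2.2.2, fun r => q hh hk hh' hknh hh'M (r ▸ hk'M)⟩, Ne.symm hk'k⟩
  · intro x
    simp only [Matrix.cons_val, List.mem_cons, List.not_mem_nil, or_false]
    constructor
    · rintro (r | r | r | r | r | r) <;> rw [r]
      exacts [haH, ha', hh, hh', hk, hk']
    · intro hx
      by_contra hc
      simp only [not_or] at hc
      obtain ⟨x', hx', hx'M, hx'x, hux⟩ := hpartner hx
      have hsub : ({x, a, a', h, h', k, k'} : Set Q) ⊆ H := by
        rintro y (r | r | r | r | r | r | r) <;> rw [r]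
        exacts [hx, haH, ha', hh, hh', hk, hk']
      have := Set.ncard_le_ncard hsub (Set.toFinite _)
      rw [ncard_six S hH] at this
      have hnd : [x, a, a', h, h', k, k'].Nodup := by
        simp only [List.nodup_cons, List.mem_cons, List.not_mem_nil, or_false, not_or, List.nodup_nil, and_true,
          not_false_eq_true]
        have q : ∀ {x y z}, x ∈ H → y ∈ H → z ∈ H → y ∉ M x → z ∈ M x → z ∈ M y → False :=
          fun hx hy hz hn h1 h2 => by
            rcases hdiff hx hy hn _ h1 h2 with r | r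
            exacts [(hneH hz).1 r, (hneH hz).2 r]
        have sa := (hMeP (hHB haH) (hneH haH).1 (hneH haH).2).2.2
        have sh := (hMeP (hHB hh) (hneH hh).1 (hneH hh).2).2.2
        exact ⟨hc, ⟨Ne.symm ha'a, Ne.symm hhn.1, fun r => q haH hh haH hhna sa (r ▸ hh'M), Ne.symm hkn.1,
            fun r => q haH hk haH hkna sa (r ▸ hk'M)⟩,
          ⟨Ne.symm hhn.2, fun r => q haH hh ha' hhna ha'M (r ▸ hh'M), Ne.symm hkn.2.1,
            fun r => q haH hk ha' hkna ha'M (r ▸ hk'M)⟩,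
          ⟨Ne.symm hh'h, Ne.symm hkn.2.2.1, fun r => q hh hk hh hknh sh (r ▸ hk'M)⟩,
          ⟨Ne.symm hkn.2.2.2, fun r => q hh hk hh' hknh hh'M (r ▸ hk'M)⟩, Ne.symm hk'k⟩
      have h7 : ({x, a, a', h, h', k, k'} : Set Q).ncard = 7 := by
        rw [show ({x, a, a', h, h', k, k'} : Set Q) = ([x, a, a', h, h', k, k'].toFinset : Set Q) by
          simp only [List.coe_toFinset]; ext y; simp, Set.ncard_coe_finset, List.toFinset_card_of_nodup hnd]
        rfl
      omega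
  intro K hg hstep
  have kg : K e ∧ K P ∧ K a ∧ K a' ∧ K x₁ ∧ K h ∧ K h' ∧ K x₂ ∧ K k ∧ K k' ∧ K x₃ ∧ K p :=
    ⟨hg 0, hg 1, hg 2, hg 3, hg 4, hg 5, hg 6, hg 7, hg 8, hg 9, hg 10, hg 11⟩
  obtain ⟨ke, kP, ka, ka', k1, kh, kh', k2, kk, kk', k3, kp⟩ := kg
  have hline : ∀ {x x' w}, x ∈ H → x' ∈ H → x' ∈ M x → x' ≠ x → w ∈ M x → w ≠ e → w ≠ P → w ≠ x → w ≠ x' →
      K x → K x' → K w → ∀ y ∈ M x, K y := by
    intro x x' w hx hx' hm hne hw w1 w2 w3 w4 kx kx' kw y hy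
    obtain ⟨h1, h2⟩ := hneH hx
    by_cases hy5 : y = e ∨ y = P ∨ y = x ∨ y = x' ∨ y = w
    · rcases hy5 with r | r | r | r | r <;> rw [r] <;> assumption
    simp only [not_or] at hy5
    refine hstep e P x y he hP (hHB hx) (htri (hHB hx) h1 h2) hy fun t ht hty => ?_
    by_contra hkt
    have hsub : ({t, y, e, P, x, x', w} : Set Q) ⊆ M x := by
      rintro u (r | r | r | r | r | r | r) <;> rw [r]
      exacts [ht, hy, (hMeP (hHB hx) h1 h2).1, (hMeP (hHB hx) h1 h2).2.1, (hMeP (hHB hx) h1 h2).2.2, hm, hw]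
    have := Set.ncard_le_ncard hsub (Set.toFinite _)
    rw [(hMc hx).1] at this
    have hnd : [t, y, e, P, x, x', w].Nodup := by
      simp only [List.nodup_cons, List.mem_cons, List.not_mem_nil, or_false, not_or, List.nodup_nil, and_true,
        not_false_eq_true]
      exact ⟨⟨hty, fun r => hkt (r ▸ ke), fun r => hkt (r ▸ kP), fun r => hkt (r ▸ kx), fun r => hkt (r ▸ kx'),
        fun r => hkt (r ▸ kw)⟩, hy5, ⟨Ne.symm hPn.1, Ne.symm h1, Ne.symm (hneH hx').1, Ne.symm w1⟩,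
        ⟨Ne.symm h2, Ne.symm (hneH hx').2, Ne.symm w2⟩, ⟨Ne.symm hne, Ne.symm w3⟩, Ne.symm w4⟩
    have h7 : ({t, y, e, P, x, x', w} : Set Q).ncard = 7 := by
      rw [show ({t, y, e, P, x, x', w} : Set Q) = ([t, y, e, P, x, x', w].toFinset : Set Q) by
        simp only [List.coe_toFinset]; ext u; simp, Set.ncard_coe_finset, List.toFinset_card_of_nodup hnd]
      rfl
    omega
  have kU : ∀ y ∈ U, K y := by
    rintro y ((hy | hy) | hy)
    exacts [hline haH ha' ha'M ha'a hx₁ n11 n12 n13 n14 ka ka' k1 y hy,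
      hline hh hh' hh'M hh'h hx₂ n21 n22 n23 n24 kh kh' k2 y hy,
      hline hk hk' hk'M hk'k hx₃ n31 n32 n33 n34 kk kk' k3 y hy]
  have heU : e ∈ U := Or.inl (Or.inl (hMeP (hHB haH) (hneH haH).1 (hneH haH).2).1)
  have hPU : P ∈ U := Or.inl (Or.inl (hMeP (hHB haH) (hneH haH).1 (hneH haH).2).2.1)
  have hext : ∀ q x, q ∈ B → x ∈ B → q ∉ U → x ∉ U → q ≠ x → P ∉ six E e q x → K q → K x := by
    intro q x hq hx hqU hxU hqx hPn' kq
    have hqe : q ≠ e := fun r => hqU (r ▸ heU)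
    have hxe : x ≠ e := fun r => hxU (r ▸ heU)
    have T := hB.tri he hq hx (Ne.symm hqe) (Ne.symm hxe) hqx
    have hm : ∀ {y}, y ∈ H → ∃ m, m ∈ six E e q x ∧ m ∈ M y ∧ m ≠ e ∧ m ≠ P := by
      intro y hy
      obtain ⟨m, hm1, hm2, hme, -⟩ := six_second S hB he hq hx hP (hHB hy) T
        (htri (hHB hy) (hneH hy).1 (hneH hy).2) (fun r => by
          refine hPn' ?_
          rw [r]
          exact (hMeP (hHB hy) (hneH hy).1 (hneH hy).2).2.1)
      exact ⟨m, hm1, hm2, hme, fun r => hPn' (r ▸ hm1)⟩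
    obtain ⟨m₁, a1, b1, c1, d1⟩ := hm haH
    obtain ⟨m₂, a2, b2, c2, d2⟩ := hm hh
    obtain ⟨m₃, a3, b3, c3, d3⟩ := hm hk
    have u1 : m₁ ∈ U := Or.inl (Or.inl b1)
    have u2 : m₂ ∈ U := Or.inl (Or.inr b2)
    have u3 : m₃ ∈ U := Or.inr b3
    refine hstep e q x x he hq hx T (T.mem_six (Or.inr (Or.inr rfl))) fun t ht htx => ?_
    by_contra hkt
    have hsub : ({t, x, e, q, m₁, m₂, m₃} : Set Q) ⊆ six E e q x := by
      rintro u (r | r | r | r | r | r | r) <;> rw [r]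
      exacts [ht, T.mem_six (Or.inr (Or.inr rfl)), T.mem_six (Or.inl rfl), T.mem_six (Or.inr (Or.inl rfl)), a1, a2, a3]
    have := Set.ncard_le_ncard hsub (Set.toFinite _)
    rw [ncard_six S T] at this
    have hnd : [t, x, e, q, m₁, m₂, m₃].Nodup := by
      simp only [List.nodup_cons, List.mem_cons, List.not_mem_nil, or_false, not_or, List.nodup_nil, and_true,
        not_false_eq_true]
      refine ⟨⟨htx, fun r => hkt (r ▸ ke), fun r => hkt (r ▸ kq), fun r => hkt (r ▸ kU _ u1),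
          fun r => hkt (r ▸ kU _ u2), fun r => hkt (r ▸ kU _ u3)⟩,
        ⟨hxe, Ne.symm hqx, fun r => hxU (r ▸ u1), fun r => hxU (r ▸ u2), fun r => hxU (r ▸ u3)⟩,
        ⟨Ne.symm hqe, Ne.symm c1, Ne.symm c2, Ne.symm c3⟩,
        ⟨fun r => hqU (r ▸ u1), fun r => hqU (r ▸ u2), fun r => hqU (r ▸ u3)⟩, ⟨?_, ?_⟩, ?_⟩
      · intro r
        rcases hdiff haH hh hhna m₁ b1 (r ▸ b2) with r | r
        exacts [c1 r, d1 r]
      · intro r
        rcases hdiff haH hk hkna m₁ b1 (r ▸ b3) with r | r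
        exacts [c1 r, d1 r]
      · intro r
        rcases hdiff hh hk hknh m₂ b2 (r ▸ b3) with r | r
        exacts [c2 r, d2 r]
    have h7 : ({t, x, e, q, m₁, m₂, m₃} : Set Q).ncard = 7 := by
      rw [show ({t, x, e, q, m₁, m₂, m₃} : Set Q) = ([t, x, e, q, m₁, m₂, m₃].toFinset : Set Q) by
        simp only [List.coe_toFinset]; ext u; simp, Set.ncard_coe_finset, List.toFinset_card_of_nodup hnd]
      rfl
    omega
  intro x hx
  by_cases hxU : x ∈ U
  · exact kU x hxU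
  have hpe : p ≠ e := fun r => hpU (r ▸ heU)
  have hpP : p ≠ P := fun r => hpU (r ▸ hPU)
  have hsame : ∀ {q y}, q ∈ B → y ∈ B → q ∉ U → y ∉ U → q ≠ y → P ∈ six E e q y → M y = M q := by
    intro q y hq hy hqU hyU hqy hP'
    have hqe : q ≠ e := fun r => hqU (r ▸ heU)
    have hqP : q ≠ P := fun r => hqU (r ▸ hPU)
    have hye : y ≠ e := fun r => hyU (r ▸ heU)
    have hyP : y ≠ P := fun r => hyU (r ▸ hPU)
    have T := hB.tri he hq hy (Ne.symm hqe) (Ne.symm hye) hqy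
    show six E e P y = six E e P q
    rw [six_eq S T (T.mem_six (Or.inl rfl)) hP' (T.mem_six (Or.inr (Or.inr rfl))) (Ne.symm hPn.1) (Ne.symm hye) (Ne.symm hyP),
      six_eq S T (T.mem_six (Or.inl rfl)) hP' (T.mem_six (Or.inr (Or.inl rfl))) (Ne.symm hPn.1) (Ne.symm hqe) (Ne.symm hqP)]
  by_cases hxp : x = p
  · rw [hxp]; exact kp
  by_cases hP' : P ∈ six E e p x
  swap
  · exact hext p x hp hx hpU hxU (Ne.symm hxp) hP' kp
  obtain ⟨y, hy, hyn⟩ := Set.exists_mem_notMem_of_ncard_lt_ncard (s := M a ∪ M h ∪ M k ∪ (M p \ {e, P})) (t := B) (by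
    have h1 : (M p \ {e, P}).ncard ≤ 4 := by
      have := Set.ncard_sdiff_add_ncard_of_subset
        (show ({e, P} : Set Q) ⊆ M p by rintro u (r | r) <;> rw [r]; exacts [(hMeP hp hpe hpP).1, (hMeP hp hpe hpP).2.1])
        (Set.toFinite _)
      rw [Set.ncard_pair (Ne.symm hPn.1), ncard_six S (htri hp hpe hpP)] at this
      omega
    have h2 : U.ncard ≤ 14 := by
      have hx' : ({e, P} : Set Q) ⊆ M h ∧ ({e, P} : Set Q) ⊆ M k := by
        constructor <;> rintro u (r | r) <;> rw [r]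
        exacts [(hMeP (hHB hh) (hneH hh).1 (hneH hh).2).1, (hMeP (hHB hh) (hneH hh).1 (hneH hh).2).2.1,
          (hMeP (hHB hk) (hneH hk).1 (hneH hk).2).1, (hMeP (hHB hk) (hneH hk).1 (hneH hk).2).2.1]
      have a1 := Set.ncard_union_add_ncard_inter (M a) (M h) (Set.toFinite _) (Set.toFinite _)
      have a2 := Set.ncard_union_add_ncard_inter (M a ∪ M h) (M k) (Set.toFinite _) (Set.toFinite _)
      have a3 : 2 ≤ (M a ∩ M h).ncard := (Set.ncard_pair (Ne.symm hPn.1)).ge.trans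
        (Set.ncard_le_ncard (Set.subset_inter (by
          rintro u (r | r) <;> rw [r]
          exacts [(hMeP (hHB haH) (hneH haH).1 (hneH haH).2).1, (hMeP (hHB haH) (hneH haH).1 (hneH haH).2).2.1]) hx'.1)
          (Set.toFinite _))
      have a4 : 2 ≤ ((M a ∪ M h) ∩ M k).ncard := (Set.ncard_pair (Ne.symm hPn.1)).ge.trans
        (Set.ncard_le_ncard (Set.subset_inter (hx'.1.trans Set.subset_union_right) hx'.2) (Set.toFinite _))
      have := (hMc haH).1
      have := (hMc hh).1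
      have := (hMc hk).1
      simp only [hU]
      omega
    have := Set.ncard_union_le (M a ∪ M h ∪ M k) (M p \ {e, P})
    have h2' : (M a ∪ M h ∪ M k).ncard ≤ 14 := h2
    rw [hB.card]
    omega) (Set.toFinite _)
  simp only [Set.mem_union, not_or] at hyn
  have hyU : y ∉ U := fun r => by rcases r with (r | r) | r <;> [exact hyn.1.1.1 r; exact hyn.1.1.2 r; exact hyn.1.2 r]
  have hye : y ≠ e := fun r => hyU (r ▸ heU)
  have hyP : y ≠ P := fun r => hyU (r ▸ hPU)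
  have hyMp : y ∉ M p := fun r => hyn.2 ⟨r, by simp [hye, hyP]⟩
  have hxe : x ≠ e := fun r => hxU (r ▸ heU)
  have hxP : x ≠ P := fun r => hxU (r ▸ hPU)
  have hyp : y ≠ p := fun r => hyMp (r ▸ (hMeP hp hpe hpP).2.2)
  have hyx : y ≠ x := fun r => hyMp (by
    rw [r, ← hsame hp hx hpU hxU (Ne.symm hxp) hP']
    exact (hMeP hx hxe hxP).2.2)
  have ky : K y := hext p y hp hy hpU hyU (Ne.symm hyp) (fun r => hyMp (by
    rw [← hsame hp hy hpU hyU (Ne.symm hyp) r]
    exact (hMeP hy hye hyP).2.2)) kp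
  refine hext y x hy hx hyU hxU hyx (fun r => hyMp ?_) ky
  rw [← hsame hp hx hpU hxU (Ne.symm hxp) hP', hsame hy hx hyU hxU hyx r]
  exact (hMeP hy hye hyP).2.2

end Cfsg.Agent.Lib.FischerMTypes90
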