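import Mathlib
import Cfsg.Agent.Lib.FischerMTypes90.BaseSplit

/-!
A double cover of a group of type M(22) in which the six lifts over a six multiply to one: for one
of the two classes of lifts, no base lifts to a subgroup containing the centre.
-/

set_option autoImplicit false
set_option linter.style.haveILetI false
set_option linter.unusedSectionVars false

namespace Cfsg.Agent.Lib.FischerMTypes90

open Cfsg.Agent.Lib.FischerMTypes.Basic Cfsg.Agent.Lib.FischerMTypes.Primitive
  Cfsg.Agent.Lib.FischerMTypes.Aut22 Cfsg.Agent.Lib.FischerMTypes.Syl22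
open Cfsg.Agent.Lib.FischerMTypes.TraceCounts (Sys)

variable {Q : Type*} [Group Q] [Finite Q] {E : Set Q}
variable {F : Type} [Field F] [Fintype F]
variable {C : Type*} [Group C] [Finite C] {π : C →* Q} {z : C}
variable (S : Sys E F) (hC : Cover π z) {L : Q → C} (hL : Sect E π L)

include hL in
theorem closure_lifts_comm {X : Set Q} (hX : X ⊆ E) (hc : ∀ x ∈ X, ∀ y ∈ X, Commute x y) :
    ∀ u ∈ Subgroup.closure (L '' X), ∀ v ∈ Subgroup.closure (L '' X), Commute u v := fun u hu =>
  FischerMTypes.Levels.commute_closure fun s hs =>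
    (FischerMTypes.Levels.commute_closure (fun t ht => by
      obtain ⟨x, hx, rfl⟩ := hs
      obtain ⟨y, hy, rfl⟩ := ht
      exact hL.comm x (hX hx) y (hX hy) (hc x hx y hy)) u hu).symm

set_option maxHeartbeats 800000 in
include S hC hL in
/-- the lifts over a base avoid the centre once one odd relation lifts to a relation -/
theorem not_mem_closure (hflat : Flat E L) {B : Set Q} (hB : IsBase E B) {l : List Q}
    (hl : ∀ x ∈ l, x ∈ B) (hodd : Odd l.length) (h1 : (l.map L).prod = 1) :
    z ∉ Subgroup.closure (L '' B) := by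
  classical
  set A := Subgroup.closure (L '' B) with hA
  letI : CommGroup ↥A := { (inferInstance : Group ↥A) with
    mul_comm := fun u v => Subtype.ext (closure_lifts_comm hL hB.sub hB.clique u u.2 v v.2).eq }
  obtain ⟨g, hg, ⟨a, b, c, habc, hnd, hmem⟩, hclo⟩ := closure_twelve S hB
  let lft : ∀ x ∈ B, ↥A := fun x hx => ⟨L x, Subgroup.subset_closure ⟨x, hx, rfl⟩⟩
  let γ : Fin 12 → ↥A := fun i => lft (g i) (hg i)
  have hγ : ∀ i, γ i * γ i = 1 := fun i => Subtype.ext (hL.sq _ (hB.sub (hg i)))
  let Φ : Multiplicative (Fin 12 → ZMod 2) →* ↥A :=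
    { toFun := fun v => ∏ i, γ i ^ (v.toAdd i).val
      map_one' := by simp
      map_mul' := fun u v => by
        rw [← Finset.prod_mul_distrib]
        refine Finset.prod_congr rfl fun i _ => ?_
        rw [← pow_add, toAdd_mul, Pi.add_apply, ZMod.val_add,
          ← pow_eq_pow_mod _ (by rw [sq, hγ i] : γ i ^ 2 = 1)] }
  let par : (Fin 12 → ZMod 2) → ZMod 2 := fun v => ∑ i, v i
  let K : Q → Prop := fun x => ∃ hx : x ∈ B, ∃ v : Fin 12 → ZMod 2, par v = 1 ∧
    Φ (Multiplicative.ofAdd v) = lft x hx
  have hKg : ∀ i, K (g i) := fun i => ⟨hg i, Pi.single i 1, by simp [par], by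
    show ∏ j, γ j ^ ((Pi.single i (1 : ZMod 2) : Fin 12 → ZMod 2) j).val = γ i
    rw [Finset.prod_eq_single i (fun j _ hj => by simp [Pi.single_eq_of_ne hj]) (by simp), Pi.single_eq_same]
    exact pow_one _⟩
  have hval : ∀ (T : List Q) (hT : ∀ x ∈ T, x ∈ B) (w : Q → Fin 12 → ZMod 2),
      (∀ x (hx : x ∈ T), par (w x) = 1 ∧ Φ (Multiplicative.ofAdd (w x)) = lft x (hT x hx)) →
      ((Φ (Multiplicative.ofAdd (T.map w).sum) : ↥A) : C) = (T.map L).prod ∧
        par (T.map w).sum = (T.length : ZMod 2) := by
    intro T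
    induction T with
    | nil => intro _ w _; simp [par]
    | cons y T ih =>
      intro hT w hw
      obtain ⟨i1, i2⟩ := ih (fun x hx => hT x (List.mem_cons_of_mem _ hx)) w
        (fun x hx => hw x (List.mem_cons_of_mem _ hx))
      obtain ⟨p1, p2⟩ := hw y List.mem_cons_self
      simp only [List.map_cons, List.sum_cons, List.prod_cons, List.length_cons]
      refine ⟨?_, ?_⟩
      · rw [ofAdd_add, map_mul, Subgroup.coe_mul, i1, p2]
      · show par (w y + (T.map w).sum) = _
        simp only [par, Pi.add_apply, Finset.sum_add_distrib] at i2 p1 ⊢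
        rw [p1, i2]; push_cast; ring
  have hstep : ∀ a b c x : Q, a ∈ B → b ∈ B → c ∈ B → Tri E a b c → x ∈ six E a b c →
      (∀ y ∈ six E a b c, y ≠ x → K y) → K x := by
    intro a b c x ha hb hc T hx hK
    have hxB : x ∈ B := hB.closed S ha hb hc hx
    let T5 := ((six E a b c).toFinite.toFinset.erase x).toList
    have hm : ∀ y, y ∈ x :: T5 ↔ y ∈ six E a b c := by
      intro y
      simp only [T5, List.mem_cons, Finset.mem_toList, Finset.mem_erase, Set.Finite.mem_toFinset]
      exact ⟨fun h => h.elim (fun e => e ▸ hx) (·.2), fun h => (em (y = x)).imp id fun hne => ⟨hne, h⟩⟩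
    have hnd' : (x :: T5).Nodup := List.nodup_cons.mpr ⟨by simp [T5], Finset.nodup_toList _⟩
    have hlen : T5.length = 5 := by
      simp only [T5, Finset.length_toList]
      rw [Finset.card_erase_of_mem (by simpa using hx), ← Set.ncard_eq_toFinset_card, ncard_six S T]
    have hK5 : ∀ y ∈ T5, K y := fun y hy => by
      simp only [T5, Finset.mem_toList, Finset.mem_erase, Set.Finite.mem_toFinset] at hy
      exact hK y hy.2 hy.1
    let w : Q → Fin 12 → ZMod 2 := fun y => if h : K y then h.2.choose else 0
    obtain ⟨h5, hp5⟩ := hval T5 (fun y hy => (hK5 y hy).1) w (fun y hy => by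
      simp only [w, dif_pos (hK5 y hy)]
      exact (hK5 y hy).2.choose_spec)
    refine ⟨hxB, (T5.map w).sum, by rw [hp5, hlen]; rfl, Subtype.ext ?_⟩
    rw [h5]
    have h6 := hflat a b c T (x :: T5) hnd' hm
    rw [List.map_cons, List.prod_cons] at h6
    rw [eq_inv_of_mul_eq_one_right h6]
    exact inv_eq_of_mul_eq_one_right (hL.sq x (hB.sub hxB))
  have hall : ∀ x ∈ B, K x := hclo K hKg hstep
  have hsurj : Function.Surjective Φ := by
    intro y
    have : (y : C) ∈ (Φ.range.map A.subtype) := by
      have hle : A ≤ Φ.range.map A.subtype := by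
        refine (show Subgroup.closure (L '' B) ≤ _ from (Subgroup.closure_le _).mpr ?_)
        rintro _ ⟨x, hx, rfl⟩
        obtain ⟨hx0, v, hp, hv⟩ := hall x hx
        exact ⟨Φ (Multiplicative.ofAdd v), ⟨_, rfl⟩, by rw [hv]; rfl⟩
      exact hle y.2
    obtain ⟨_, ⟨v, rfl⟩, hv⟩ := this
    exact ⟨v, Subtype.ext hv⟩
  -- two independent relations
  let w : Q → Fin 12 → ZMod 2 := fun y => if h : K y then h.2.choose else 0
  obtain ⟨hU, hUp⟩ := hval l hl w (fun y hy => by
    simp only [w, dif_pos (hall y (hl y hy))]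
    exact (hall y (hl y hy)).2.choose_spec)
  set U := (l.map w).sum
  set V : Fin 12 → ZMod 2 := ![0, 0, 1, 1, 0, 1, 1, 0, 1, 1, 0, 0]
  have hΦU : Φ (Multiplicative.ofAdd U) = 1 := Subtype.ext (hU.trans h1)
  have hparU : par U = 1 := by
    rw [hUp]
    obtain ⟨k, hk⟩ := hodd
    rw [hk]; push_cast; rw [show (2 : ZMod 2) = 0 from rfl, zero_mul, zero_add]
  have hΦV : Φ (Multiplicative.ofAdd V) = 1 := by
    refine Subtype.ext ?_
    have h6 := hflat a b c habc _ hnd hmem
    show ((∏ i, γ i ^ (V i).val : ↥A) : C) = 1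
    have hsub : ∏ i, γ i ^ (V i).val = ∏ i ∈ ({2, 3, 5, 6, 8, 9} : Finset (Fin 12)), γ i := by
      rw [← Finset.prod_subset (Finset.subset_univ ({2, 3, 5, 6, 8, 9} : Finset (Fin 12)))]
      · refine Finset.prod_congr rfl fun i hi => ?_
        have h : (V i).val = 1 := by revert i; decide
        rw [h, pow_one]
      · intro i _ hi
        have h : (V i).val = 0 := by revert i; decide
        rw [h, pow_zero]
    rw [hsub, ← h6, Finset.prod_insert (by decide), Finset.prod_insert (by decide), Finset.prod_insert (by decide),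
      Finset.prod_insert (by decide), Finset.prod_insert (by decide), Finset.prod_singleton]
    simp only [Subgroup.coe_mul, List.map_cons, List.map_nil, List.prod_cons, List.prod_nil, mul_one]
    rfl
  have hker : 4 ≤ Nat.card Φ.ker := by
    have hparV : par V = 0 := by simp only [par, V]; decide
    have hV0 : V ≠ 0 := fun h => one_ne_zero (congrFun h 2)
    have hpar_add : par (U + V) = 1 := by
      simp only [par, Pi.add_apply, Finset.sum_add_distrib] at hparU hparV ⊢
      rw [hparU, hparV, add_zero]
    have h0 : par 0 = 0 := by simp [par]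
    have hne : ∀ {x y : Fin 12 → ZMod 2}, par x ≠ par y → x ≠ y := fun h e => h (congrArg par e)
    have hU0 : U ≠ 0 := hne (by rw [hparU, h0]; exact one_ne_zero)
    have hUV : U ≠ V := hne (by rw [hparU, hparV]; exact one_ne_zero)
    have hS : U + V ≠ 0 := hne (by rw [hpar_add, h0]; exact one_ne_zero)
    have hS' : U + V ≠ V := hne (by rw [hpar_add, hparV]; exact one_ne_zero)
    have hS'' : U + V ≠ U := fun h => hV0 (by simpa using h)
    let T : Finset (Fin 12 → ZMod 2) := {0, U, V, U + V}
    have hT : T.card = 4 := by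
      simp only [T]
      rw [Finset.card_insert_of_notMem, Finset.card_insert_of_notMem, Finset.card_pair hS'.symm]
      · rw [Finset.mem_insert, Finset.mem_singleton, not_or]; exact ⟨hUV, hS''.symm⟩
      · rw [Finset.mem_insert, Finset.mem_insert, Finset.mem_singleton, not_or, not_or]
        exact ⟨hU0.symm, Ne.symm hV0, hS.symm⟩
    have hin : ((T.image Multiplicative.ofAdd : Finset _) : Set (Multiplicative (Fin 12 → ZMod 2))) ⊆ Φ.ker := by
      intro x hx
      obtain ⟨y, hy, rfl⟩ := Finset.mem_image.mp (Finset.mem_coe.mp hx)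
      simp only [T, Finset.mem_insert, Finset.mem_singleton] at hy
      rcases hy with r | r | r | r <;> rw [r, SetLike.mem_coe, MonoidHom.mem_ker]
      · exact map_one Φ
      · exact hΦU
      · exact hΦV
      · rw [ofAdd_add, map_mul, hΦU, hΦV, one_mul]
    have := Set.ncard_le_ncard hin (Set.toFinite _)
    rw [Set.ncard_coe_finset, Finset.card_image_of_injective _ Multiplicative.ofAdd.injective, hT] at this
    rw [← Nat.card_coe_set_eq] at this
    exact this
  have hA1024 : Nat.card ↥A ≤ 1024 := by
    have h := Φ.ker.card_mul_index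
    rw [Subgroup.index_ker, MonoidHom.range_eq_top.mpr hsurj, Subgroup.card_top,
      Nat.card_congr Multiplicative.toAdd, Nat.card_fun, Nat.card_eq_fintype_card (α := ZMod 2),
      Nat.card_eq_fintype_card (α := Fin 12)] at h
    simp only [ZMod.card, Fintype.card_fin] at h
    have := Nat.mul_le_mul_right (Nat.card ↥A) hker
    omega
  have himg : Subgroup.closure B ≤ A.map π := by
    rw [Subgroup.closure_le]
    exact fun x hx => ⟨L x, Subgroup.subset_closure ⟨x, hx, rfl⟩, hL.proj x (hB.sub hx)⟩
  intro hzA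
  let f : ↥A → ↥(A.map π) := fun x => ⟨π x, ⟨x, x.2, rfl⟩⟩
  have hfs : Function.Surjective f := by
    rintro ⟨_, x, hx, rfl⟩
    exact ⟨⟨x, hx⟩, rfl⟩
  have hcard : Nat.card ↥A ≤ Nat.card ↥(A.map π) := hA1024.trans ((ncard_closure_ge S hB).trans (Subgroup.card_le_of_le himg))
  have hinj : Function.Injective f :=
    (Nat.bijective_iff_surjective_and_card f).mpr ⟨hfs, le_antisymm hcard (Nat.card_le_card_of_surjective f hfs)⟩ |>.1
  exact hC.ne (congrArg Subtype.val (@hinj ⟨z, hzA⟩ 1 (Subtype.ext (by show π z = π 1; rw [hC.one, map_one]))))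

include S hC hL in
/-- a class of lifts such that no base lifts onto the centre -/
theorem exists_split (hflat : Flat E L) : ∃ L' : Q → C, Sect E π L' ∧ Flat E L' ∧
    ∀ B, IsBase E B → z ∉ Subgroup.closure (L' '' B) := by
  obtain ⟨l, hlE, hlc, hodd, hlp⟩ := CoverLifts.odd_relation S
  obtain ⟨B₀, hB₀, hlB⟩ := exists_base_of_clique S (X := {x | x ∈ l}) hlE hlc
  have transport : ∀ {M : Q → C}, Sect E π M → z ∉ Subgroup.closure (M '' B₀) →
      ∀ B, IsBase E B → z ∉ Subgroup.closure (M '' B) := by
    intro M hM hn B hB hz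
    obtain ⟨g, hg⟩ := bases_conj S hB hB₀
    obtain ⟨Y, rfl⟩ := hC.surj g
    refine hn ?_
    have hle : (Subgroup.closure (M '' B)).map (MulAut.conj Y).toMonoidHom ≤ Subgroup.closure (M '' B₀) := by
      rw [MonoidHom.map_closure, Subgroup.closure_le]
      rintro _ ⟨_, ⟨x, hx, rfl⟩, rfl⟩
      exact Subgroup.subset_closure ⟨_, hg x hx, by
        rw [← hM.conj x (hB.sub hx) Y]; rfl⟩
    have := hle ⟨z, hz, rfl⟩
    rwa [show (MulAut.conj Y).toMonoidHom z = z by
      show Y * z * Y⁻¹ = z
      rw [← hC.central Y, mul_inv_cancel_right]] at this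
  rcases hC.ker _ ((hL.map_prod hlE).trans hlp) with h | h
  · exact ⟨L, hL, hflat, transport hL (not_mem_closure S hC hL hflat hB₀ hlB hodd h)⟩
  · refine ⟨fun e => z * L e, hL.shift hC, Flat.shift hC hL hflat (fun a b c h => ncard_six S h),
      transport (hL.shift hC) (not_mem_closure S hC (hL.shift hC) (Flat.shift hC hL hflat (fun a b c h => ncard_six S h))
        hB₀ hlB hodd ?_)⟩
    have key : ∀ m : List Q, (m.map fun e => z * L e).prod = z ^ m.length * (m.map L).prod := by
      intro m
      induction m with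
      | nil => simp
      | cons y m ih =>
        simp only [List.map_cons, List.prod_cons, List.length_cons, pow_succ', ih]
        calc z * L y * (z ^ m.length * (m.map L).prod) = z * (L y * z ^ m.length) * (m.map L).prod := by group
          _ = z * (z ^ m.length * L y) * (m.map L).prod := by
            rw [((show Commute z (L y) from hC.central _).pow_left _).eq]
          _ = _ := by group
    obtain ⟨k, hk⟩ := hodd
    rw [key, h, hk, pow_succ, pow_mul, sq, hC.sq, one_pow, one_mul, hC.sq]

end Cfsg.Agent.Lib.FischerMTypes90
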