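import Mathlib
import Cfsg.Agent.Lib.FischerMTypes.Free.Six
import Cfsg.Agent.Lib.FischerMTypes.OtherClasses

/-!
Type M(22): the three blocks of transpositions around a six, the group fixing the six pointwise and
one block, and elements realising three-cycles and double transpositions while fixing that block.
-/

set_option autoImplicit false
set_option linter.style.haveILetI false
set_option linter.unusedSectionVars false

namespace Cfsg.Agent.Lib.FischerMTypes90

open Cfsg.Agent.Lib.FischerMTypes.Basic Cfsg.Agent.Lib.FischerMTypes.Primitive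
  Cfsg.Agent.Lib.FischerMTypes.Aut22 Cfsg.Agent.Lib.FischerMTypes.Threes
  Cfsg.Agent.Lib.FischerMTypes.Thirteen
open Cfsg.Agent.Lib.FischerMTypes.TraceCounts (Sys)

variable {Q : Type*} [Group Q] [Finite Q] {E : Set Q}
variable {F : Type} [Field F] [Fintype F]
variable (S : Sys E F) {v : Fin 6 → Q} (hv : Hex E v)

include S hv in
/-- two members around the six commute when both commute with a third -/
theorem far_clique {u x y : Q} (hu : u ∈ far E v) (hx : x ∈ far E v) (hy : y ∈ far E v) (hux : Commute u x)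
    (huy : Commute u y) : Commute x y :=
  (block_spec S hv.tri hu.1 hu.2).2 x ⟨hx.1, hux⟩ y ⟨hy.1, huy⟩

include hv in
theorem six_commute_far {u x : Q} (hx : x ∈ six E (v 0) (v 1) (v 2)) (hu : u ∈ far E v) : Commute x u :=
  hx.2 u hu.1

include S hv in
/-- the transposition completing two non-commuting members around the six -/
theorem far_third {x y : Q} (hx : x ∈ far E v) (hy : y ∈ far E v) (hxy : ¬ Commute x y) :
    y * x * y ∈ far E v ∧ ¬ Commute x (y * x * y) ∧ ¬ Commute y (y * x * y) ∧ y * x * y = x * y * x := by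
  have hb := braid S.hD.1 hx.1.1 hy.1.1 hxy
  have hyy := mul_self S.hD.1 hy.1.1
  have hxx := mul_self S.hD.1 hx.1.1
  have hyi : y⁻¹ = y := inv_eq S.hD.1 hy.1.1
  have hE : y * x * y ∈ E := by
    have := S.hD.2.1 y x hx.1.1
    rwa [hyi] at this
  have hcomm : ∀ u, Commute u x → Commute u y → Commute u (y * x * y) := fun u h1 h2 => (h2.mul_right h1).mul_right h2
  have hc : y * x * y ∈ cl3 E (v 0) (v 1) (v 2) :=
    ⟨hE, hcomm _ hx.1.2.1 hy.1.2.1, hcomm _ hx.1.2.2.1 hy.1.2.2.1, hcomm _ hx.1.2.2.2 hy.1.2.2.2⟩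
  refine ⟨⟨hc, fun h6 => hx.2 ?_⟩, ?_, ?_, hb.symm⟩
  · have h : Commute (y * x * y) y := six_commute_far hv h6 hy
    have e : x = y * x * y := by
      calc x = y * (y * x * y) * y := by
            rw [show y * (y * x * y) * y = (y * y) * x * (y * y) by group, hyy, one_mul, mul_one]
        _ = (y * x * y) * (y * y) := by rw [h.eq.symm]; group
        _ = _ := by rw [hyy, mul_one]
    exact e ▸ h6
  · intro h
    refine hxy ?_
    have h' : x * (y * x * y) = y * x * y * x := h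
    have e : y * x = x * y := by
      calc y * x = (x * x) * (y * x) := by rw [hxx, one_mul]
        _ = x * (x * y * x) := by group
        _ = x * (y * x * y) := by rw [hb]
        _ = y * x * y * x := h'
        _ = x * y * x * x := by rw [← hb]
        _ = x * y * (x * x) := by group
        _ = _ := by rw [hxx, mul_one]
    exact e.symm
  · intro h
    refine hxy ?_
    have h' : y * (y * x * y) = y * x * y * y := h
    rw [show y * (y * x * y) = (y * y) * x * y by group, show y * x * y * y = y * x * (y * y) by group, hyy,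
      one_mul, mul_one] at h'
    exact h'

/-- representatives of the three blocks around the six -/
structure Trio (E : Set Q) (v : Fin 6 → Q) (q : Fin 3 → Q) : Prop where
  mem : ∀ i, q i ∈ far E v
  off : ∀ i j, i ≠ j → ¬ Commute (q i) (q j)

include S hv in
theorem exists_trio {u : Q} (hu : u ∈ far E v) : ∃ q : Fin 3 → Q, Trio E v q ∧ q 0 = u := by
  classical
  obtain ⟨y, hy, hn⟩ : ∃ y ∈ far E v, ¬ Commute u y := by
    by_contra h
    push Not at h
    have hsub : far E v ⊆ block E (v 0) (v 1) (v 2) u := fun y hy => ⟨hy.1, h y hy⟩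
    have := Set.ncard_le_ncard hsub (Set.toFinite _)
    rw [ncard_rest S hv.tri, (block_spec S hv.tri hu.1 hu.2).1] at this
    omega
  obtain ⟨hw, h1, h2, -⟩ := far_third S hv hu hy hn
  refine ⟨![u, y, y * u * y], ⟨fun i => ?_, fun i j hij => ?_⟩, rfl⟩
  · fin_cases i
    exacts [hu, hy, hw]
  · fin_cases i <;> fin_cases j
    exacts [absurd rfl hij, hn, h1, fun h => hn h.symm, absurd rfl hij, h2, fun h => h1 h.symm,
      fun h => h2 h.symm, absurd rfl hij]

variable {q : Fin 3 → Q} (hq : Trio E v q)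

include S hv in
theorem ncard_far_block {u : Q} (hu : u ∈ far E v) : {x | x ∈ far E v ∧ Commute u x}.ncard = 16 := by
  have hset : {x | x ∈ far E v ∧ Commute u x} = block E (v 0) (v 1) (v 2) u \ six E (v 0) (v 1) (v 2) := by
    ext x
    exact ⟨fun h => ⟨⟨h.1.1, h.2⟩, h.1.2⟩, fun h => ⟨⟨h.1.1, h.2⟩, h.1.2⟩⟩
  have hsub : six E (v 0) (v 1) (v 2) ⊆ block E (v 0) (v 1) (v 2) u := fun x hx =>
    ⟨hx.1, (six_commute_far hv hx hu).symm⟩
  have := Set.ncard_sdiff_add_ncard_of_subset hsub (Set.toFinite _)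
  rw [ncard_six S hv.tri, (block_spec S hv.tri hu.1 hu.2).1] at this
  rw [hset]; omega

include S hv hq in
theorem Trio.cover {x : Q} (hx : x ∈ far E v) : ∃ i, Commute (q i) x := by
  by_contra hn
  push Not at hn
  have hdis : ∀ i j, i ≠ j → Disjoint {x | x ∈ far E v ∧ Commute (q i) x}
      {x | x ∈ far E v ∧ Commute (q j) x} := fun i j hij => Set.disjoint_left.mpr fun y hy hy' =>
    hq.off i j hij (far_clique S hv hy.1 (hq.mem i) (hq.mem j) hy.2.symm hy'.2.symm)
  have hsub : {x | x ∈ far E v ∧ Commute (q 0) x} ∪ {x | x ∈ far E v ∧ Commute (q 1) x} ∪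
      {x | x ∈ far E v ∧ Commute (q 2) x} ⊆ far E v \ {x} := by
    rintro y ((hy | hy) | hy) <;> refine ⟨hy.1, fun e => ?_⟩ <;> rw [Set.mem_singleton_iff] at e <;> subst e
    exacts [hn 0 hy.2, hn 1 hy.2, hn 2 hy.2]
  have := Set.ncard_le_ncard hsub (Set.toFinite _)
  rw [Set.ncard_union_eq (Set.disjoint_union_left.mpr ⟨hdis 0 2 (by decide), hdis 1 2 (by decide)⟩),
    Set.ncard_union_eq (hdis 0 1 (by decide)), ncard_far_block S hv (hq.mem 0), ncard_far_block S hv (hq.mem 1),
    ncard_far_block S hv (hq.mem 2)] at this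
  have h := Set.ncard_sdiff_singleton_add_one hx (Set.toFinite _)
  rw [ncard_rest S hv.tri] at h
  omega

include S hv hq in
theorem Trio.unique {x : Q} (hx : x ∈ far E v) {i j : Fin 3} (hi : Commute (q i) x) (hj : Commute (q j) x) : i = j :=
  by_contra fun h => hq.off i j h (far_clique S hv hx (hq.mem i) (hq.mem j) hi.symm hj.symm)

include S hv hq in
/-- conjugating one block by another gives the third -/
theorem Trio.third {x y : Q} {i j k : Fin 3} (hij : i ≠ j) (hik : i ≠ k) (hjk : j ≠ k) (hx : x ∈ far E v)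
    (hy : y ∈ far E v) (hi : Commute (q i) x) (hj : Commute (q j) y) :
    ¬ Commute x y ∧ y * x * y ∈ far E v ∧ Commute (q k) (y * x * y) := by
  have hn : ¬ Commute x y := fun h => hij (hq.unique S hv hy (far_clique S hv hx (hq.mem i) hy hi.symm h) hj)
  obtain ⟨hw, h1, h2, -⟩ := far_third S hv hx hy hn
  refine ⟨hn, hw, ?_⟩
  obtain ⟨m, hm⟩ := hq.cover S hv hw
  have hmi : m ≠ i := fun e => h1 (far_clique S hv (hq.mem i) hx hw hi (e ▸ hm))
  have hmj : m ≠ j := fun e => h2 (far_clique S hv (hq.mem j) hy hw hj (e ▸ hm))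
  have : m = k := by omega
  exact this ▸ hm

include S hv in
theorem acts_far {g : Q} {π : Equiv.Perm (Fin 6)} (hg : Acts v g π) {x : Q} (hx : x ∈ far E v) :
    g * x * g⁻¹ ∈ far E v := by
  have hc : ∀ j, Commute (v j) (g * x * g⁻¹) := fun j => by
    have h := (commute_conj_iff g (v (π⁻¹ j)) x).mpr (six_commute_far hv (hv.mem _) hx)
    simp only [MulAut.conj_apply] at h
    rwa [hg, show π (π⁻¹ j) = j by simp] at h
  refine ⟨⟨S.hD.2.1 g x hx.1.1, hc 0, hc 1, hc 2⟩, fun h6 => hx.2 ?_⟩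
  rw [hv.range] at h6 ⊢
  obtain ⟨i, hi⟩ := h6
  refine ⟨π⁻¹ i, ?_⟩
  have h := hg (π⁻¹ i)
  rw [show π (π⁻¹ i) = i by simp, hi] at h
  exact mul_left_cancel (mul_right_cancel h)

include hv in
theorem acts_one_iff {g : Q} : Acts v g 1 ↔ ∀ x ∈ six E (v 0) (v 1) (v 2), Commute g x := by
  refine ⟨fun h x hx => ?_, fun h x => by rw [(h _ (hv.mem x)).eq, mul_inv_cancel_right]; rfl⟩
  rw [hv.range] at hx
  obtain ⟨i, rfl⟩ := hx
  exact (h.fix hv.inj i).mpr rfl

include S hv in
theorem far_acts_one {y : Q} (hy : y ∈ far E v) : Acts v y 1 :=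
  (acts_one_iff hv).mpr fun _ hx => (six_commute_far hv hx hy).symm

/-- `g` keeps the block of `u` -/
abbrev Keeps (u g : Q) : Prop := Commute u (g * u * g⁻¹)

include S hv in
theorem keeps_far {u g : Q} {π : Equiv.Perm (Fin 6)} (hu : u ∈ far E v) (hg : Acts v g π) (hk : Keeps u g)
    {x : Q} (hx : x ∈ far E v) (hux : Commute u x) : Commute u (g * x * g⁻¹) :=
  far_clique S hv (acts_far S hv hg hu) hu (acts_far S hv hg hx) hk.symm ((commute_conj_iff g u x).mpr hux)

theorem Keeps.inv {u g : Q} (h : Keeps u g) : Keeps u g⁻¹ := by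
  show Commute u (g⁻¹ * u * g⁻¹⁻¹)
  refine (commute_conj_iff g _ _).mp ?_
  simp only [MulAut.conj_apply]
  rw [show g * (g⁻¹ * u * g⁻¹⁻¹) * g⁻¹ = u by group]
  exact h.symm

include S hv in
theorem Keeps.mul {u g h : Q} {π : Equiv.Perm (Fin 6)} (hu : u ∈ far E v) (hg : Acts v g π) (hkg : Keeps u g)
    {ρ : Equiv.Perm (Fin 6)} (hh : Acts v h ρ) (hkh : Keeps u h) : Keeps u (g * h) := by
  show Commute u (g * h * u * (g * h)⁻¹)
  rw [show g * h * u * (g * h)⁻¹ = g * (h * u * h⁻¹) * g⁻¹ by group]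
  exact keeps_far S hv hu hg hkg (acts_far S hv hh hu) hkh

include S hv in
/-- the elements fixing the six pointwise and keeping a block -/
theorem exists_fixer {u : Q} (hu : u ∈ far E v) :
    ∃ K : Subgroup Q, (∀ g, g ∈ K ↔ Acts v g 1 ∧ Keeps u g) ∧ Nat.card K ≤ 2 ^ 14 := by
  classical
  let K : Subgroup Q :=
    { carrier := {g | Acts v g 1 ∧ Keeps u g}
      one_mem' := ⟨Acts.one, by simp [Keeps]⟩
      mul_mem' := fun ha hb => ⟨by simpa using ha.1.mul hb.1, Keeps.mul S hv hu ha.1 ha.2 hb.1 hb.2⟩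
      inv_mem' := fun ha => ⟨by simpa using ha.1.inv, ha.2.inv⟩ }
  refine ⟨K, fun g => Iff.rfl, ?_⟩
  obtain ⟨q, hq, hq0⟩ := exists_trio S hv hu
  obtain ⟨P, hP⟩ := exists_syl S hv
  obtain ⟨k, hk, hkt⟩ := Cfsg.Agent.Lib.FischerMTypes.Free.exists_flip S hv
  have hw : ∀ i : Fin 3, ∃ w : Q, Acts v w 1 ∧ w * u * w⁻¹ = q i := by
    intro i
    by_cases hi : i = 0
    · exact ⟨1, Acts.one, by rw [hi, hq0]; simp⟩
    have hn : ¬ Commute u (q i) := hq0 ▸ hq.off 0 i (Ne.symm hi)
    obtain ⟨hw, -, -, hbr⟩ := far_third S hv (hq.mem i) hu (fun h => hn h.symm)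
    refine ⟨u * q i * u, far_acts_one S hv hw, ?_⟩
    rw [inv_eq S.hD.1 hw.1.1]
    have huu := mul_self S.hD.1 hu.1.1
    calc u * q i * u * u * (u * q i * u) = u * q i * (u * u) * (u * q i * u) := by group
      _ = u * q i * (q i * u * q i) := by rw [huu, mul_one, hbr]
      _ = u * (q i * q i) * u * q i := by group
      _ = (u * u) * q i := by rw [mul_self S.hD.1 (hq.mem i).1.1, mul_one]
      _ = q i := by rw [huu, one_mul]
  choose w hwA hwu using hw
  choose p hpP hp using hP.full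
  have hpow : ∀ n : ℕ, Acts v (k ^ n) (flip6 ^ n) := fun n => by
    induction n with
    | zero => simpa using Acts.one
    | succ n ih => rw [pow_succ, pow_succ]; exact ih.mul hk
  have hCt : ∀ g : Q, Acts v g 1 → Commute g (tp v) := fun g hg =>
    ((hg.fix hv.inj 0).mpr rfl).mul_right (((hg.fix hv.inj 1).mpr rfl).mul_right ((hg.fix hv.inj 2).mpr rfl))
  have hin : ∀ x : ((Fin 3 × Fin 3) × Fin 4) × Fin 3 × K,
      p x.1.1.1 x.1.1.2 * k ^ (x.1.2 : ℕ) * (w x.2.1 * (x.2.2 : Q)) ∈ Subgroup.centralizer ({tp v} : Set Q) :=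
    fun x => Subgroup.mem_centralizer_singleton_iff.mpr ((((commute_tp_of_acts hv (hp _ _)).mul_left
      (hkt.pow_left _)).mul_left ((hCt _ (hwA _)).mul_left (hCt _ x.2.2.2.1)))).eq
  let f : ((Fin 3 × Fin 3) × Fin 4) × Fin 3 × K → Subgroup.centralizer ({tp v} : Set Q) := fun x => ⟨_, hin x⟩
  have hdistinct : ∀ a b : (Fin 3 × Fin 3) × Fin 4, cyc a.1.1 a.1.2 * flip6 ^ (a.2 : ℕ) =
      cyc b.1.1 b.1.2 * flip6 ^ (b.2 : ℕ) → a = b := by decide +kernel
  have hinj : Function.Injective f := by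
    rintro ⟨⟨⟨i, j⟩, n⟩, r, g⟩ ⟨⟨⟨i', j'⟩, n'⟩, r', g'⟩ he
    have e : p i j * k ^ (n : ℕ) * (w r * (g : Q)) = p i' j' * k ^ (n' : ℕ) * (w r' * (g' : Q)) :=
      congrArg Subtype.val he
    have a1 := ((hp i j).mul (hpow (n : ℕ))).mul ((hwA r).mul g.2.1)
    have a2 := ((hp i' j').mul (hpow (n' : ℕ))).mul ((hwA r').mul g'.2.1)
    rw [e] at a1
    have := a1.unique hv.inj a2
    simp only [mul_one] at this
    obtain ⟨⟨rfl, rfl⟩, rfl⟩ : (i = i' ∧ j = j') ∧ n = n' := by
      have := hdistinct ((i, j), n) ((i', j'), n') this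
      simp only [Prod.mk.injEq] at this
      exact this
    have e2 := mul_left_cancel e
    have c1 : Commute (q r) (w r * (g : Q) * u * (w r * (g : Q))⁻¹) := by
      rw [← hwu, show w r * (g : Q) * u * (w r * (g : Q))⁻¹ = w r * ((g : Q) * u * (g : Q)⁻¹) * (w r)⁻¹ by group]
      exact (commute_conj_iff _ _ _).mpr g.2.2
    have c2 : Commute (q r') (w r * (g : Q) * u * (w r * (g : Q))⁻¹) := by
      rw [e2, ← hwu, show w r' * (g' : Q) * u * (w r' * (g' : Q))⁻¹ = w r' * ((g' : Q) * u * (g' : Q)⁻¹) * (w r')⁻¹ by group]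
      exact (commute_conj_iff _ _ _).mpr g'.2.2
    obtain rfl := hq.unique S hv (acts_far S hv ((hwA r).mul g.2.1) hu) c1 c2
    obtain rfl : g = g' := Subtype.ext (mul_left_cancel e2)
    rfl
  have := Nat.card_le_card_of_injective f hinj
  rw [card_cent S hv, Nat.card_prod, Nat.card_prod, Nat.card_prod, Nat.card_prod, Nat.card_fin, Nat.card_fin] at this
  omega

include S hv in
/-- a three-cycle realised keeping a block -/
theorem real_three_keeps {u : Q} (hu : u ∈ far E v) {i j k : Fin 6} (nij : i ≠ j) (nik : i ≠ k)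
    (njk : j ≠ k) : ∃ g, Acts v g (Equiv.swap i j * Equiv.swap j k) ∧ Keeps u g := by
  obtain ⟨g, -, hg⟩ := real_three S hv nij nik njk
  by_cases hk : Keeps u g
  · exact ⟨g, hg, hk⟩
  obtain ⟨u', hu'⟩ : ∃ w, g * u * g⁻¹ = w := ⟨_, rfl⟩
  have hf := acts_far S hv hg hu
  rw [hu'] at hf
  simp only [Keeps, hu'] at hk
  obtain ⟨hw, -, -, hbr⟩ := far_third S hv hu hf hk
  refine ⟨u' * u * u' * g, by simpa using (far_acts_one S hv hw).mul hg, ?_⟩
  have hval : u' * u * u' * g * u * (u' * u * u' * g)⁻¹ = u := by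
    rw [show u' * u * u' * g * u * (u' * u * u' * g)⁻¹ = u' * u * u' * (g * u * g⁻¹) * (u' * u * u')⁻¹ by
      group, hu', inv_eq S.hD.1 hw.1.1]
    calc u' * u * u' * u' * (u' * u * u') = u' * u * (u' * u') * (u' * u * u') := by group
      _ = u' * (u * (u * u' * u)) := by rw [mul_self S.hD.1 hf.1.1, hbr]; group
      _ = u' * ((u * u) * u' * u) := by group
      _ = u' * u' * u := by rw [mul_self S.hD.1 hu.1.1]; group
      _ = u := by rw [mul_self S.hD.1 hf.1.1, one_mul]
  show Commute u _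
  rw [hval]

theorem three_options : ∀ i j : Fin 3, ∀ n : Fin 4, (cyc i j * flip6 ^ (n : ℕ)) * (cyc i j * flip6 ^ (n : ℕ)) = 1 →
    (cyc i j * flip6 ^ (n : ℕ)) 0 = 1 → (cyc i j * flip6 ^ (n : ℕ)) 2 = 2 →
    ∃ m : Fin 3, cyc m 0 * (cyc i j * flip6 ^ (n : ℕ)) * (cyc m 0)⁻¹ = Equiv.swap 0 1 * Equiv.swap 3 4 := by
  decide +kernel

include S in
/-- a six with an involution moving it by a double transposition and keeping a block -/
theorem exists_double : ∃ (v : Fin 6 → Q) (u s : Q), Hex E v ∧ u ∈ far E v ∧ s * s = 1 ∧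
    Acts v s (Equiv.swap 0 1 * Equiv.swap 3 4) ∧ Keeps u s := by
  obtain ⟨a, b, c, d, e, ha, hb, hc, -, he, ⟨cab, -, -, -, -, cea, ceb, cec⟩, nca, ncb, -, -, -, nd⟩ :=
    FischerMTypes.OtherClasses.exists_config S
  simp only [List.nodup_cons, List.mem_cons, List.not_mem_nil, or_false, not_or, List.nodup_nil, and_true,
    not_false_eq_true] at nd
  have T : Tri E a b e := ⟨ha, hb, he, nd.1.1, nd.1.2, nd.2, cab, cea.symm, ceb.symm⟩
  obtain ⟨v, hv, h0, h1, h2⟩ := exists_hex S T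
  set s := c * (a * b) * c
  have hcc := mul_self S.hD.1 hc
  have haa := mul_self S.hD.1 ha
  have hbb := mul_self S.hD.1 hb
  have hs : s * s = 1 := by
    rw [show s * s = c * (a * b) * (c * c) * (a * b) * c by simp only [s]; group, hcc, mul_one,
      show c * (a * b) * (a * b) = c * (a * b * (a * b)) by group, cab.symm.mul_mul_mul_comm, haa, hbb, one_mul,
      mul_one, hcc]
  have hsi : s⁻¹ = s := inv_eq_of_mul_eq_one_right hs
  have b1 := braid S.hD.1 hc ha nca
  have b2 := braid S.hD.1 hc hb ncb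
  have hsa : s * a * s⁻¹ = b := by
    rw [hsi]
    calc s * a * s = c * (b * a) * (c * a * c) * (a * b) * c := by simp only [s]; rw [cab.eq]; group
      _ = c * (b * a) * (a * c * a) * (a * b) * c := by rw [b1]
      _ = c * (b * (a * a)) * c * ((a * a) * b) * c := by group
      _ = c * (b * c * b) * c := by rw [haa]; group
      _ = c * (c * b * c) * c := by rw [b2]
      _ = (c * c) * b * (c * c) := by group
      _ = b := by rw [hcc, one_mul, mul_one]
  have hse : Commute s e := (cec.symm.mul_left (cea.symm.mul_left ceb.symm)).mul_left cec.symm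
  have hsb : s * b * s⁻¹ = a := by
    rw [← hsa, hsi]
    rw [show s * (s * a * s) * s = (s * s) * a * (s * s) by group, hs, one_mul, mul_one]
  have hst : Commute s (tp v) := by
    refine mul_inv_eq_iff_eq_mul.mp ?_
    rw [tp, h0, h1, h2, show s * (a * (b * e)) * s⁻¹ = s * a * s⁻¹ * (s * b * s⁻¹ * (s * e * s⁻¹)) by group,
      hsa, hsb, hse.eq, mul_inv_cancel_right, ← mul_assoc, ← cab.eq, mul_assoc]
  obtain ⟨π, hπ, i, j, n, rfl⟩ := Cfsg.Agent.Lib.FischerMTypes.Free.acts_inner S hv hst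
  have p0 : (cyc i j * flip6 ^ (n : ℕ)) 0 = 1 := hv.inj (by rw [← hπ, h0, hsa, h1])
  have p2 : (cyc i j * flip6 ^ (n : ℕ)) 2 = 2 := hv.inj (by rw [← hπ, h2, hse.eq, mul_inv_cancel_right])
  have pp : (cyc i j * flip6 ^ (n : ℕ)) * (cyc i j * flip6 ^ (n : ℕ)) = 1 :=
    (hπ.mul hπ).unique hv.inj (hs ▸ Acts.one)
  obtain ⟨m, hm⟩ := three_options i j n pp p0 p2
  obtain ⟨P, hP⟩ := exists_syl S hv
  obtain ⟨g, -, hg⟩ := hP.full m 0
  have ht : Acts v (g * s * g⁻¹) (Equiv.swap 0 1 * Equiv.swap 3 4) := hm ▸ (hg.mul hπ).mul hg.inv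
  have htt : g * s * g⁻¹ * (g * s * g⁻¹) = 1 := by
    rw [show g * s * g⁻¹ * (g * s * g⁻¹) = g * (s * s) * g⁻¹ by group, hs, mul_one, mul_inv_cancel]
  generalize g * s * g⁻¹ = t at ht htt
  have hti : t⁻¹ = t := inv_eq_of_mul_eq_one_right htt
  obtain ⟨q, hq⟩ : (far E v).Nonempty :=
    Set.nonempty_of_ncard_ne_zero (by rw [ncard_rest S hv.tri]; norm_num)
  by_cases hk : Keeps q t
  · exact ⟨v, q, t, hv, hq, htt, ht, hk⟩
  obtain ⟨hw, -, -, hbr⟩ := far_third S hv hq (acts_far S hv ht hq) hk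
  refine ⟨v, _, t, hv, hw, htt, ht, ?_⟩
  show Commute _ _
  rw [hbr, hti]
  have e : t * (q * (t * q * t) * q) * t = q * (t * q * t) * q := by
    rw [hti] at hbr
    calc t * (q * (t * q * t) * q) * t = t * q * t * (t * t) * q * (t * t) * (t * q * t) := by rw [htt]; group
      _ = (t * q * t) * q * (t * q * t) := by rw [htt]; group
      _ = _ := hbr
  rw [e]

end Cfsg.Agent.Lib.FischerMTypes90
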