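import Mathlib
import Cfsg.Agent.Lib.FischerMTypes90.Blocks
import Cfsg.Agent.Lib.FischerMTypes90.BaseComplement

/-!
A double cover of a group of type M(22) with trivial six products: the lifts of the group fixing a
six pointwise and keeping a block avoid the centre.
-/

set_option autoImplicit false
set_option linter.style.haveILetI false
set_option linter.unusedSectionVars false

namespace Cfsg.Agent.Lib.FischerMTypes90

open Cfsg.Agent.Lib.FischerMTypes.Basic Cfsg.Agent.Lib.FischerMTypes.Primitive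
  Cfsg.Agent.Lib.FischerMTypes.Aut22 Cfsg.Agent.Lib.FischerMTypes.Syl22
  Cfsg.Agent.Lib.FischerMTypes.Threes
open Cfsg.Agent.Lib.FischerMTypes.Step
open Cfsg.Agent.Lib.FischerMTypes.TraceCounts (Sys)

variable {Q : Type*} [Group Q] [Finite Q] {E : Set Q}
variable {F : Type} [Field F] [Fintype F]
variable {C : Type*} [Group C] [Finite C] {π : C →* Q} {z : C}
variable (S : Sys E F) (hC : Cover π z) {L : Q → C} (hL : Sect E π L)
variable {v : Fin 6 → Q} (hv : Hex E v)

include S hv in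
theorem block_base {u : Q} (hu : u ∈ far E v) : IsBase E (block E (v 0) (v 1) (v 2) u) :=
  ⟨fun _ hx => hx.1.1, (block_spec S hv.tri hu.1 hu.2).1, (block_spec S hv.tri hu.1 hu.2).2⟩

include S hv in
theorem block_cases {u x : Q} (hu : u ∈ far E v) (hx : x ∈ block E (v 0) (v 1) (v 2) u) :
    x ∈ six E (v 0) (v 1) (v 2) ∨ (x ∈ far E v ∧ Commute u x) := by
  by_cases h : x ∈ six E (v 0) (v 1) (v 2)
  · exact Or.inl h
  · exact Or.inr ⟨⟨hx.1, h⟩, hx.2⟩

include S hv in
theorem six_in_block {u x : Q} (hu : u ∈ far E v) (hx : x ∈ six E (v 0) (v 1) (v 2)) :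
    x ∈ block E (v 0) (v 1) (v 2) u := ⟨hx.1, (six_commute_far hv hx hu).symm⟩

include S hv in
theorem acts_six {g : Q} {σ : Equiv.Perm (Fin 6)} (hg : Acts v g σ) {x : Q}
    (hx : x ∈ six E (v 0) (v 1) (v 2)) : g * x * g⁻¹ ∈ six E (v 0) (v 1) (v 2) := by
  rw [hv.range] at hx ⊢
  obtain ⟨i, rfl⟩ := hx
  exact ⟨σ i, (hg i).symm⟩

include S hv in
/-- the closure of a six has at least 32 elements -/
theorem card_six_closure : 32 ≤ Nat.card ↥(Subgroup.closure (six E (v 0) (v 1) (v 2))) := by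
  classical
  set A := Subgroup.closure (six E (v 0) (v 1) (v 2))
  have hE : ∀ i, v i ∈ E := fun i => (hv.mem i).1.1
  have hc : ∀ i j, Commute (v i) (v j) := fun i j => (hv.mem i).2 _ (hv.mem j).1
  have hA : ∀ i, v i ∈ A := fun i => Subgroup.subset_closure (hv.mem i)
  let T := Option (Fin 6 ⊕ {p : Fin 6 × Fin 6 // p.1 < p.2})
  let f : T → ↥A := fun t => match t with
    | none => 1
    | some (Sum.inl i) => ⟨v i, hA i⟩
    | some (Sum.inr p) => ⟨v p.1.1 * v p.1.2, mul_mem (hA _) (hA _)⟩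
  have h1 : ∀ i, IsProd E 1 (v i) := fun i =>
    ⟨[v i], List.nodup_singleton _, rfl, by simp [hE i], by simp, by simp⟩
  have h2 : ∀ i j, i < j → IsProd E 2 (v i * v j) := fun i j h =>
    ⟨[v i, v j], by simp [hv.inj.ne h.ne], rfl, by simp [hE i, hE j], by simp [hc i j, hc j i], by simp⟩
  have m12 : ∀ i p q, p < q → v i ≠ v p * v q := fun i p q hpq h => by
    have := FischerMTypes.InvolutionsM22.m_unique S (by norm_num) (by norm_num) (by norm_num) (by norm_num)
      (h1 i) (h ▸ h2 p q hpq)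
    norm_num at this
  have n1 : ∀ i, v i ≠ 1 := fun i => FischerMTypes.Basic.ne_one S.hD.1 (hE i)
  have n2 : ∀ p q, p < q → v p * v q ≠ 1 := fun p q hpq h => by
    refine hv.inj.ne hpq.ne ?_
    rw [eq_inv_of_mul_eq_one_left h, inv_eq S.hD.1 (hE q)]
  have hf : Function.Injective f := by
    intro s t h
    have h' : (f s : Q) = f t := congrArg Subtype.val h
    rcases s with _ | i | ⟨⟨i, j⟩, hij⟩ <;> rcases t with _ | p | ⟨⟨p, r⟩, hpr⟩ <;> simp only [f] at h'
    · rfl
    · exact absurd h'.symm (n1 p)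
    · exact absurd h'.symm (n2 p r hpr)
    · exact absurd h' (n1 i)
    · rw [hv.inj h']
    · exact absurd h' (m12 i p r hpr)
    · exact absurd h' (n2 i j hij)
    · exact absurd h'.symm (m12 p i j hij)
    · rcases FischerMTypes.Primitive.pair_unique S.hD S.hprim S.hZ (hE i) (hE j) (hE p) (hE r) (hc i j) (hc p r)
        (hv.inj.ne hij.ne) (hv.inj.ne hpr.ne) h' with ⟨e1, e2⟩ | ⟨e1, e2⟩
      · obtain rfl := hv.inj e1
        obtain rfl := hv.inj e2
        rfl
      · obtain rfl := hv.inj e1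
        obtain rfl := hv.inj e2
        exact absurd (lt_trans hij hpr) (lt_irrefl _)
  have hT : Nat.card T = 22 := by
    rw [Nat.card_eq_fintype_card]
    rfl
  have h22 : 22 ≤ Nat.card ↥A := hT ▸ Nat.card_le_card_of_injective f hf
  obtain ⟨k, hk⟩ : ∃ k, Nat.card ↥A = 2 ^ k := by
    haveI : Fact (Nat.Prime 2) := ⟨Nat.prime_two⟩
    refine IsPGroup.iff_card.mp fun g => ⟨1, Subtype.ext ?_⟩
    show (g : Q) ^ (2 ^ 1) = 1
    obtain ⟨u, hu⟩ := (show (far E v).Nonempty from
      Set.nonempty_of_ncard_ne_zero (by rw [ncard_rest S hv.tri]; norm_num))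
    rw [pow_one, sq]
    exact (block_base S hv hu).closure_sq S.hD _
      (Subgroup.closure_mono (fun x hx => six_in_block S hv hu hx) g.2)
  rw [hk] at h22 ⊢
  have : 5 ≤ k := by
    by_contra h
    have := Nat.pow_le_pow_right (show 0 < 2 by norm_num) (show k ≤ 4 by omega)
    omega
  calc 32 = 2 ^ 5 := by norm_num
    _ ≤ 2 ^ k := Nat.pow_le_pow_right (by norm_num) this

include S hC hL hv in
/-- the lifts of the group fixing the six pointwise and keeping a block form a complement -/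
theorem exists_radical (hsplit : ∀ B, IsBase E B → z ∉ Subgroup.closure (L '' B)) {u : Q} (hu : u ∈ far E v) :
    ∃ (P : Subgroup C) (K : Subgroup Q), (∀ g, g ∈ K ↔ Acts v g 1 ∧ Keeps u g) ∧ z ∉ P ∧ P.map π = K ∧
      Nat.card K = 2 ^ 14 ∧
      ∀ (Y : C) (σ : Equiv.Perm (Fin 6)), Acts v (π Y) σ → Keeps u (π Y) → ∀ p ∈ P, Y * p * Y⁻¹ ∈ P := by
  classical
  obtain ⟨q, hq, hq0⟩ := exists_trio S hv hu
  subst hq0
  obtain ⟨K, hK, hKcard⟩ := exists_fixer S hv hu
  set B₀ := block E (v 0) (v 1) (v 2) (q 0) with hB₀def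
  set B₁ := block E (v 0) (v 1) (v 2) (q 1) with hB₁def
  have hB₀ := block_base S hv (hq.mem 0)
  have hB₁ := block_base S hv (hq.mem 1)
  let SX : Set C := L '' six E (v 0) (v 1) (v 2)
  let PR : Set C := {m | ∃ x x', x ∈ far E v ∧ Commute (q 1) x ∧ x' ∈ far E v ∧ Commute (q 1) x' ∧ m = L x * L x'}
  set U := Subgroup.closure (L '' B₀) with hU
  set M := Subgroup.closure (SX ∪ PR) with hM
  set P := U ⊔ M with hP
  have hgenU : ∀ x ∈ B₀, L x ∈ U := fun x hx => Subgroup.subset_closure ⟨x, hx, rfl⟩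
  have hsixE : ∀ x ∈ six E (v 0) (v 1) (v 2), x ∈ E := fun x hx => hx.1.1
  have hpair : ∀ i x x', x ∈ far E v → Commute (q i) x → x' ∈ far E v → Commute (q i) x' → L x * L x' ∈ P := by
    intro i x x' hx hix hx' hix'
    have hM1 : ∀ x x', x ∈ far E v → Commute (q 1) x → x' ∈ far E v → Commute (q 1) x' → L x * L x' ∈ M :=
      fun x x' a b c d => Subgroup.subset_closure (Or.inr ⟨x, x', a, b, c, d, rfl⟩)
    rcases (show i = 0 ∨ i = 1 ∨ i = 2 by omega) with rfl | rfl | rfl
    · exact le_sup_left (a := U) (mul_mem (hgenU x ⟨hx.1, hix⟩) (hgenU x' ⟨hx'.1, hix'⟩))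
    · exact le_sup_right (b := M) (hM1 x x' hx hix hx' hix')
    have hy := hq.mem 1
    set y := q 1
    have hyy := mul_self S.hD.1 hy.1.1
    have hyi := inv_eq S.hD.1 hy.1.1
    obtain ⟨-, a1, b1⟩ := hq.third S hv (i := 2) (j := 1) (k := 0) (by decide) (by decide) (by decide) hx hy hix (Commute.refl _)
    obtain ⟨-, a2, b2⟩ := hq.third S hv (i := 2) (j := 1) (k := 0) (by decide) (by decide) (by decide) hx' hy hix' (Commute.refl _)
    generalize h0 : y * x * y = x0 at a1 b1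
    generalize h0' : y * x' * y = x0' at a2 b2
    obtain ⟨-, c1, d1⟩ := hq.third S hv (i := 1) (j := 0) (k := 2) (by decide) (by decide) (by decide) hy a2 (Commute.refl _) b2
    obtain ⟨-, c2, d2⟩ := hq.third S hv (i := 2) (j := 0) (k := 1) (by decide) (by decide) (by decide) c1 a1 d1 b1
    have hw : π (L x0 * L x0') * y * (π (L x0 * L x0'))⁻¹ = x0 * (x0' * y * x0') * x0 := by
      rw [map_mul, hL.proj _ a1.1.1, hL.proj _ a2.1.1, mul_inv_rev, inv_eq S.hD.1 a1.1.1, inv_eq S.hD.1 a2.1.1]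
      group
    have hx0 : π (L y) * x0 * (π (L y))⁻¹ = x := by
      rw [hL.proj _ hy.1.1, hyi, ← h0, show y * (y * x * y) * y = (y * y) * x * (y * y) by group, hyy, one_mul, mul_one]
    have hx0' : π (L y) * x0' * (π (L y))⁻¹ = x' := by
      rw [hL.proj _ hy.1.1, hyi, ← h0', show y * (y * x' * y) * y = (y * y) * x' * (y * y) by group, hyy, one_mul, mul_one]
    have key : L x * L x' = L y * L (x0 * (x0' * y * x0') * x0) * (L x0 * L x0') := by
      rw [← hw, ← hL.conj y hy.1.1 (L x0 * L x0'), ← hx0, ← hx0', ← hL.conj x0 a1.1.1 (L y), ← hL.conj x0' a2.1.1 (L y)]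
      have hyi' : (L y)⁻¹ = L y := inv_eq_of_mul_eq_one_right (hL.sq y hy.1.1)
      rw [hyi']
      calc L y * L x0 * L y * (L y * L x0' * L y) = L y * L x0 * (L y * L y) * L x0' * L y := by group
        _ = L y * (L x0 * L x0') * L y := by rw [hL.sq y hy.1.1]; group
        _ = _ := by group
    rw [key]
    exact mul_mem (le_sup_right (b := M) (hM1 _ _ hy (Commute.refl _) c2 d2))
      (le_sup_left (a := U) (mul_mem (hgenU x0 ⟨a1.1, b1⟩) (hgenU x0' ⟨a2.1, b2⟩)))
  -- normalisation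
  have hnormU : ∀ (Y : C) (σ : Equiv.Perm (Fin 6)), Acts v (π Y) σ → Keeps (q 0) (π Y) →
      ∀ p ∈ U, Y * p * Y⁻¹ ∈ U := by
    intro Y σ hY hk p hp
    have hle : U.map (MulAut.conj Y).toMonoidHom ≤ U := by
      rw [hU, MonoidHom.map_closure, Subgroup.closure_le]
      rintro _ ⟨_, ⟨x, hx, rfl⟩, rfl⟩
      refine Subgroup.subset_closure ⟨_, ?_, (hL.conj x (hB₀.sub hx) Y).symm⟩
      rcases block_cases S hv (hq.mem 0) hx with h | ⟨h, h'⟩
      · exact six_in_block S hv (hq.mem 0) (acts_six S hv hY h)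
      · exact ⟨(acts_far S hv hY h).1, keeps_far S hv (hq.mem 0) hY hk h h'⟩
    exact hle ⟨p, hp, rfl⟩
  have hnorm : ∀ (Y : C) (σ : Equiv.Perm (Fin 6)), Acts v (π Y) σ → Keeps (q 0) (π Y) →
      ∀ p ∈ P, Y * p * Y⁻¹ ∈ P := by
    intro Y σ hY hk p hp
    have hle : P.map (MulAut.conj Y).toMonoidHom ≤ P := by
      rw [hP, Subgroup.map_sup, sup_le_iff]
      refine ⟨?_, ?_⟩
      · rintro _ ⟨p, hp, rfl⟩
        exact le_sup_left (a := U) (hnormU Y σ hY hk p hp)
      · rw [hM, MonoidHom.map_closure, Subgroup.closure_le]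
        rintro _ ⟨_, ⟨x, hx, rfl⟩ | ⟨x, x', hx, hix, hx', hix', rfl⟩, rfl⟩
        · refine le_sup_left (a := U) ?_
          exact hnormU Y σ hY hk _ (hgenU x (six_in_block S hv (hq.mem 0) hx))
        · obtain ⟨i, hi⟩ := hq.cover S hv (acts_far S hv hY hx)
          have hi' : Commute (q i) (π Y * x' * (π Y)⁻¹) := far_clique S hv (acts_far S hv hY hx) (hq.mem i)
            (acts_far S hv hY hx') hi.symm ((commute_conj_iff (π Y) x x').mpr (far_clique S hv (hq.mem 1) hx hx' hix hix'))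
          have := hpair i _ _ (acts_far S hv hY hx) hi (acts_far S hv hY hx') hi'
          rw [← hL.conj x hx.1.1, ← hL.conj x' hx'.1.1] at this
          show Y * (L x * L x') * Y⁻¹ ∈ P
          rw [show Y * (L x * L x') * Y⁻¹ = Y * L x * Y⁻¹ * (Y * L x' * Y⁻¹) by group]
          exact this
    exact hle ⟨p, hp, rfl⟩
  -- the generators lie over the fixer
  have hU_K : ∀ p ∈ U, π p ∈ K := by
    intro p hp
    rw [hU] at hp
    refine (show Subgroup.closure (L '' B₀) ≤ K.comap π from (Subgroup.closure_le _).mpr ?_) hp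
    rintro _ ⟨x, hx, rfl⟩
    refine Subgroup.mem_comap.mpr ?_
    rw [hL.proj x (hB₀.sub hx), hK]
    refine ⟨(acts_one_iff hv).mpr fun y hy => (hB₀.clique x hx y (six_in_block S hv (hq.mem 0) hy)), ?_⟩
    show Commute (q 0) _
    rw [show x * q 0 * x⁻¹ = q 0 by
      rw [(show Commute x (q 0) from hx.2.symm).eq, mul_inv_cancel_right]]
  have hM_K : ∀ p ∈ M, π p ∈ K := by
    intro p hp
    rw [hM] at hp
    refine (show Subgroup.closure (SX ∪ PR) ≤ K.comap π from (Subgroup.closure_le _).mpr ?_) hp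
    rintro _ (⟨x, hx, rfl⟩ | ⟨x, x', hx, hix, hx', hix', rfl⟩)
    · exact hU_K _ (hgenU x (six_in_block S hv (hq.mem 0) hx))
    · refine Subgroup.mem_comap.mpr ?_
      rw [map_mul, hL.proj _ hx.1.1, hL.proj _ hx'.1.1, hK]
      refine ⟨by simpa using (far_acts_one S hv hx).mul (far_acts_one S hv hx'), ?_⟩
      obtain ⟨-, a, b⟩ := hq.third S hv (i := 0) (j := 1) (k := 2) (by decide) (by decide) (by decide) (hq.mem 0) hx' (Commute.refl _) hix'
      obtain ⟨-, -, b'⟩ := hq.third S hv (i := 2) (j := 1) (k := 0) (by decide) (by decide) (by decide) a hx b hix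
      show Commute (q 0) _
      rw [show x * x' * q 0 * (x * x')⁻¹ = x * (x' * q 0 * x') * x by
        rw [mul_inv_rev, inv_eq S.hD.1 hx.1.1, inv_eq S.hD.1 hx'.1.1]; group]
      exact b'
  have hMU : M ≤ Subgroup.normalizer (U : Set C) := fun m hm => by
    have hm' := (hK _).mp (hM_K m hm)
    have hmi := (hK _).mp (hM_K m⁻¹ (inv_mem hm))
    refine Subgroup.mem_normalizer_iff.mpr fun n => ⟨hnormU m 1 hm'.1 hm'.2 n, fun h => ?_⟩
    have := hnormU m⁻¹ 1 hmi.1 hmi.2 _ h
    simpa [mul_assoc] using this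
  -- the projection of `M` meets that of `U` in the six
  have hsixM : Subgroup.closure (six E (v 0) (v 1) (v 2)) ≤ M.map π := by
    rw [Subgroup.closure_le]
    exact fun x hx => ⟨L x, Subgroup.subset_closure (Or.inl ⟨x, hx, rfl⟩), hL.proj x (hsixE x hx)⟩
  have hMB₁ : M ≤ Subgroup.closure (L '' B₁) := by
    rw [hM, Subgroup.closure_le]
    rintro _ (⟨x, hx, rfl⟩ | ⟨x, x', hx, hix, hx', hix', rfl⟩)
    · exact Subgroup.subset_closure ⟨x, six_in_block S hv (hq.mem 1) hx, rfl⟩
    · exact mul_mem (Subgroup.subset_closure ⟨x, ⟨hx.1, hix⟩, rfl⟩) (Subgroup.subset_closure ⟨x', ⟨hx'.1, hix'⟩, rfl⟩)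
  have hπM : M.map π ≤ Subgroup.closure B₁ := by
    rw [Subgroup.map_le_iff_le_comap]
    refine hMB₁.trans ((Subgroup.closure_le _).mpr ?_)
    rintro _ ⟨x, hx, rfl⟩
    show π (L x) ∈ Subgroup.closure B₁
    rw [hL.proj x (hB₁.sub hx)]
    exact Subgroup.subset_closure hx
  have hy_not : q 1 ∉ M.map π := by
    rintro ⟨m, hm, hmy⟩
    have h := ((hK _).mp (hM_K m hm)).2
    rw [hmy] at h
    obtain ⟨hn, a, b⟩ := hq.third S hv (i := 0) (j := 1) (k := 2) (by decide) (by decide) (by decide)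
      (hq.mem 0) (hq.mem 1) (Commute.refl _) (Commute.refl _)
    have h' : Commute (q 0) (q 1 * q 0 * q 1) := by
      have h'' : Commute (q 0) (q 1 * q 0 * (q 1)⁻¹) := h
      rwa [inv_eq S.hD.1 (hq.mem 1).1.1] at h''
    exact absurd (hq.unique S hv a h' b) (by decide)
  have h512 : Nat.card ↥(M.map π) ≤ 512 := by
    have hb : Nat.card ↥(Subgroup.closure B₁) ≤ 1024 := by
      rw [← centralizer_base S hB₁]
      exact ncard_fixator_le S hB₁
    have hlt : M.map π < Subgroup.closure B₁ :=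
      lt_of_le_of_ne hπM fun h => hy_not (h ▸ Subgroup.subset_closure ⟨(hq.mem 1).1, Commute.refl _⟩)
    have hd := Subgroup.card_dvd_of_le hπM
    have hne : Nat.card ↥(M.map π) ≠ Nat.card ↥(Subgroup.closure B₁) := fun h =>
      hlt.ne (SetLike.coe_injective (Set.eq_of_subset_of_ncard_le hπM (by
        rw [← Nat.card_coe_set_eq, ← Nat.card_coe_set_eq]; exact h.ge) (Set.toFinite _)))
    obtain ⟨k, hk⟩ := hd
    have hpos : 0 < Nat.card ↥(Subgroup.closure B₁) := Nat.card_pos
    have : 2 ≤ k := by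
      rcases k with _ | _ | k
      · rw [mul_zero] at hk; omega
      · rw [zero_add, mul_one] at hk; exact absurd hk.symm hne
      · omega
    have := Nat.mul_le_mul_left (Nat.card ↥(M.map π)) this
    omega
  set blk0 : Set Q := {x | x ∈ far E v ∧ Commute (q 0) x}
  have htrans : ∀ x : blk0, ∃ m ∈ M.map π, m * q 0 * m⁻¹ = (x : Q) := by
    rintro ⟨x, hx, hqx⟩
    have hu1 := hq.mem 1
    obtain ⟨-, a, b⟩ := hq.third S hv (i := 0) (j := 1) (k := 2) (by decide) (by decide) (by decide)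
      (hq.mem 0) hu1 (Commute.refl _) (Commute.refl _)
    generalize hw : q 1 * q 0 * q 1 = w at a b
    obtain ⟨hwx, c, d⟩ := hq.third S hv (i := 2) (j := 0) (k := 1) (by decide) (by decide) (by decide) a hx b hqx
    refine ⟨(x * w * x) * q 1, ⟨L (x * w * x) * L (q 1), Subgroup.subset_closure
      (Or.inr ⟨_, _, c, d, hu1, Commute.refl _, rfl⟩), by rw [map_mul, hL.proj _ c.1.1, hL.proj _ hu1.1.1]⟩, ?_⟩
    have hbr := braid S.hD.1 a.1.1 hx.1.1 hwx
    have hww := mul_self S.hD.1 a.1.1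
    rw [mul_inv_rev, inv_eq S.hD.1 hu1.1.1, inv_eq S.hD.1 c.1.1]
    calc x * w * x * q 1 * q 0 * (q 1 * (x * w * x)) = x * w * x * (q 1 * q 0 * q 1) * (x * w * x) := by group
      _ = w * x * w * w * (w * x * w) := by rw [hw, hbr]
      _ = w * x * (w * w) * (w * x * w) := by group
      _ = w * x * (x * w * x) := by rw [hww, mul_one, hbr]
      _ = w * (x * x) * w * x := by group
      _ = x := by rw [mul_self S.hD.1 hx.1.1, mul_one, hww, one_mul]
  choose m hmM hmq using htrans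
  have hfix : ∀ g ∈ Subgroup.closure B₀, ∀ x : blk0, g * x * g⁻¹ = (x : Q) := by
    intro g hg x
    rw [((FischerMTypes.Levels.commute_closure (fun s hs => (hB₀.clique s hs x ⟨x.2.1.1, x.2.2⟩).symm)) g hg).symm.eq,
      mul_inv_cancel_right]
  have h16 : Nat.card blk0 = 16 := by rw [Nat.card_coe_set_eq]; exact ncard_far_block S hv (hq.mem 0)
  -- the meet
  have hmeet : Subgroup.closure B₀ ⊓ M.map π ≤ Subgroup.closure (six E (v 0) (v 1) (v 2)) := by
    have hsix0 : Subgroup.closure (six E (v 0) (v 1) (v 2)) ≤ Subgroup.closure B₀ ⊓ M.map π :=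
      le_inf (Subgroup.closure_mono fun x hx => six_in_block S hv (hq.mem 0) hx) hsixM
    let f : blk0 × ↥(Subgroup.closure B₀ ⊓ M.map π) → ↥(M.map π) := fun p =>
      ⟨m p.1 * p.2, mul_mem (hmM p.1) p.2.2.2⟩
    have hf : Function.Injective f := by
      rintro ⟨x, g⟩ ⟨x', g'⟩ h
      have h' : m x * (g : Q) = m x' * (g' : Q) := congrArg Subtype.val h
      have key : ∀ (x : blk0) (g : ↥(Subgroup.closure B₀ ⊓ M.map π)), m x * (g : Q) * q 0 * (m x * (g : Q))⁻¹ = x := by
        intro x g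
        rw [show m x * (g : Q) * q 0 * (m x * (g : Q))⁻¹ = m x * ((g : Q) * q 0 * (g : Q)⁻¹) * (m x)⁻¹ by group,
          hfix g g.2.1 ⟨q 0, hq.mem 0, Commute.refl _⟩, hmq]
      obtain rfl : x = x' := Subtype.ext (by rw [← key x g, h', key x' g'])
      obtain rfl : g = g' := Subtype.ext (mul_left_cancel h')
      rfl
    have h := Nat.card_le_card_of_injective f hf
    rw [Nat.card_prod, h16] at h
    refine (SetLike.coe_injective (Set.eq_of_subset_of_ncard_le hsix0 ?_ (Set.toFinite _))).ge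
    rw [← Nat.card_coe_set_eq, ← Nat.card_coe_set_eq]
    have := card_six_closure S hv
    show Nat.card ↥(Subgroup.closure B₀ ⊓ M.map π) ≤ Nat.card ↥(Subgroup.closure (six E (v 0) (v 1) (v 2)))
    omega
  have hπU : U.map π = Subgroup.closure B₀ := by
    rw [hU, MonoidHom.map_closure]
    congr 1
    ext x
    constructor
    · rintro ⟨_, ⟨y, hy, rfl⟩, rfl⟩
      rwa [hL.proj y (hB₀.sub hy)]
    · exact fun hx => ⟨L x, ⟨x, hx, rfl⟩, hL.proj x (hB₀.sub hx)⟩
  have hz : z ∉ P := by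
    intro hzP
    rw [← SetLike.mem_coe, hP, Subgroup.coe_mul_of_right_le_normalizer_left U M hMU] at hzP
    obtain ⟨a, ha, b, hb, hab⟩ := hzP
    have hb1 : π b = (π a)⁻¹ := eq_inv_of_mul_eq_one_right (by rw [← map_mul]; show π (a * b) = 1; rw [show a * b = z from hab, hC.one])
    have hbin : π b ∈ Subgroup.closure B₀ ⊓ M.map π :=
      Subgroup.mem_inf.mpr ⟨by rw [hb1]; exact inv_mem (hπU ▸ Subgroup.mem_map_of_mem π ha), Subgroup.mem_map_of_mem π hb⟩
    obtain ⟨s, hs, hsb⟩ : π b ∈ (Subgroup.closure SX).map π := by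
      rw [MonoidHom.map_closure]
      refine Subgroup.closure_mono ?_ (hmeet hbin)
      exact fun x hx => ⟨L x, ⟨x, hx, rfl⟩, hL.proj x (hsixE x hx)⟩
    have hs1 : s ∈ Subgroup.closure (L '' B₁) :=
      Subgroup.closure_mono (Set.image_mono fun x hx => six_in_block S hv (hq.mem 1) hx) hs
    have hs0 : s ∈ U := Subgroup.closure_mono (Set.image_mono fun x hx => six_in_block S hv (hq.mem 0) hx) hs
    rcases hC.eq_or s b hsb.symm with h | h
    · rw [h] at hab
      exact hsplit _ hB₀ (hab ▸ mul_mem ha hs0)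
    · refine hsplit _ hB₁ ?_
      have : z = b * s⁻¹ := by rw [h, mul_inv_cancel_right]
      exact this ▸ mul_mem (hMB₁ hb) (inv_mem hs1)
  have hPK : P.map π ≤ K := by
    rw [hP, Subgroup.map_sup, sup_le_iff]
    exact ⟨by rintro _ ⟨p, hp, rfl⟩; exact hU_K p hp, by rintro _ ⟨p, hp, rfl⟩; exact hM_K p hp⟩
  have hlow : 2 ^ 14 ≤ Nat.card ↥(P.map π) := by
    let f : blk0 × ↥(Subgroup.closure B₀) → ↥(P.map π) := fun p => ⟨(p.2 : Q) * m p.1, mul_mem
      ((Subgroup.map_mono (show U ≤ P from le_sup_left)) (hπU.symm ▸ p.2.2))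
      (Subgroup.map_mono (show M ≤ P from le_sup_right) (hmM p.1))⟩
    have hf : Function.Injective f := by
      rintro ⟨x, g⟩ ⟨x', g'⟩ h
      have h' : (g : Q) * m x = (g' : Q) * m x' := congrArg Subtype.val h
      have key : ∀ (x : blk0) (g : ↥(Subgroup.closure B₀)), (g : Q) * m x * q 0 * ((g : Q) * m x)⁻¹ = x := by
        intro x g
        rw [show (g : Q) * m x * q 0 * ((g : Q) * m x)⁻¹ = (g : Q) * (m x * q 0 * (m x)⁻¹) * (g : Q)⁻¹ by group,
          hmq, hfix g g.2]
      obtain rfl : x = x' := Subtype.ext (by rw [← key x g, h', key x' g'])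
      obtain rfl : g = g' := Subtype.ext (mul_right_cancel h')
      rfl
    have h := Nat.card_le_card_of_injective f hf
    rw [Nat.card_prod, h16] at h
    have h1024 : 1024 ≤ Nat.card ↥(Subgroup.closure B₀) := ncard_closure_ge S hB₀
    omega
  have heq : P.map π = K := SetLike.coe_injective (Set.eq_of_subset_of_ncard_le hPK (by
    rw [← Nat.card_coe_set_eq, ← Nat.card_coe_set_eq]; exact hKcard.trans hlow) (Set.toFinite _))
  exact ⟨P, K, hK, hz, heq, le_antisymm hKcard (heq ▸ hlow), hnorm⟩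

end Cfsg.Agent.Lib.FischerMTypes90
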