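import Mathlib
import Cfsg.Agent.Lib.FischerMTypes90.Radical
import Cfsg.Agent.Lib.FischerMTypes.OrderWidth

/-!
In a perfect double cover of a group of type M(22) the six lifts over a six multiply to the central
involution: otherwise a Sylow 2-subgroup of the cover splits over the centre.
-/

set_option autoImplicit false
set_option linter.style.haveILetI false
set_option linter.unusedSectionVars false

namespace Cfsg.Agent.Lib.FischerMTypes90

open Cfsg.Agent.Lib.FischerMTypes.Basic Cfsg.Agent.Lib.FischerMTypes.Primitive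
  Cfsg.Agent.Lib.FischerMTypes.Aut22 Cfsg.Agent.Lib.FischerMTypes.Syl22
  Cfsg.Agent.Lib.FischerMTypes.Threes
open Cfsg.Agent.Lib.FischerMTypes.TraceCounts (Sys)
open scoped commutatorElement

variable {Q : Type*} [Group Q] [Finite Q] {E : Set Q}
variable {F : Type} [Field F] [Fintype F]
variable {C : Type*} [Group C] [Finite C] {π : C →* Q} {z : C}
variable (S : Sys E F) (hC : Cover π z) {L : Q → C} (hL : Sect E π L)

/-- the two generators of the dihedral group of permutations and the square of their product -/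
def sigTwo : Equiv.Perm (Fin 6) := Equiv.swap 0 1 * Equiv.swap 2 3

/-- the second generator -/
def sigThree : Equiv.Perm (Fin 6) := Equiv.swap 0 2 * Equiv.swap 4 5

theorem dihedral_facts :
    (sigThree * sigTwo) ^ 2 = Equiv.swap 0 2 * Equiv.swap 1 3 ∧
      (∀ i : Fin 4, ∀ j : Fin 4, (sigThree * sigTwo) ^ (i : ℕ) = (sigThree * sigTwo) ^ (j : ℕ) → i = j) ∧
      (∀ i : Fin 4, (sigThree * sigTwo) ^ (i : ℕ) ≠ sigTwo) ∧ (sigThree * sigTwo) ^ 4 = 1 ∧ sigTwo ^ 2 = 1 ∧
    (∀ i : Fin 4, ∀ j : Fin 2, (sigThree * sigTwo) ^ (i : ℕ) * sigTwo ^ (j : ℕ) = 1 → i = 0 ∧ j = 0) ∧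
    (∀ i k : Fin 4, ∀ j l : Fin 2, (sigThree * sigTwo) ^ (i : ℕ) * sigTwo ^ (j : ℕ) =
      (sigThree * sigTwo) ^ (k : ℕ) * sigTwo ^ (l : ℕ) → i = k ∧ j = l) := by
  refine ⟨?_, ?_, ?_, ?_, ?_, ?_, ?_⟩ <;> decide +kernel

theorem conjugators :
    (Equiv.swap 2 4 * Equiv.swap 4 3 : Equiv.Perm (Fin 6)) * (Equiv.swap 0 1 * Equiv.swap 3 4) *
        (Equiv.swap 2 4 * Equiv.swap 4 3)⁻¹ = sigTwo ∧
      (Equiv.swap 0 2 * Equiv.swap 2 1 * (Equiv.swap 2 3 * Equiv.swap 3 5) : Equiv.Perm (Fin 6)) *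
        (Equiv.swap 0 1 * Equiv.swap 3 4) *
        (Equiv.swap 0 2 * Equiv.swap 2 1 * (Equiv.swap 2 3 * Equiv.swap 3 5))⁻¹ = sigThree ∧
      (Equiv.swap 1 2 * Equiv.swap 2 4 : Equiv.Perm (Fin 6)) * (Equiv.swap 0 1 * Equiv.swap 3 4) *
        (Equiv.swap 1 2 * Equiv.swap 2 4)⁻¹ = Equiv.swap 0 2 * Equiv.swap 1 3 := by
  refine ⟨?_, ?_, ?_⟩ <;> decide +kernel

/-- a two-subgroup of odd-index image avoiding a central involution shows the group is not perfect -/
theorem not_perfect (hC : Cover π z) (W : Subgroup C) (h2 : IsPGroup 2 W) (hz : z ∉ W)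
    {m : ℕ} (hm : Odd m) {n : ℕ} (hQ : Nat.card Q = 2 ^ n * m) (hW : 2 ^ n ≤ Nat.card W) :
    commutator C ≠ ⊤ := by
  classical
  haveI : Fact (Nat.Prime 2) := ⟨Nat.prime_two⟩
  intro hperf
  set X := W ⊔ Subgroup.zpowers z with hX
  have hzp : Subgroup.zpowers z ≤ Subgroup.center C := by
    rw [Subgroup.zpowers_le, Subgroup.mem_center_iff]
    exact fun y => (hC.central y).symm
  have hzW : Subgroup.zpowers z ≤ Subgroup.normalizer (W : Set C) :=
    hzp.trans (Subgroup.center_le_normalizer _)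
  have hWn : W ≤ Subgroup.normalizer (Subgroup.zpowers z : Set C) := by
    intro w _
    refine Subgroup.mem_normalizer_iff.mpr fun x => ?_
    constructor
    · intro hx
      rwa [show w * x * w⁻¹ = x by rw [Subgroup.mem_center_iff.mp (hzp hx) w, mul_inv_cancel_right]]
    · intro hx
      have h := Subgroup.mem_center_iff.mp (hzp hx) w⁻¹
      rwa [show x = w * x * w⁻¹ by
        rw [show w⁻¹ * (w * x * w⁻¹) = x * w⁻¹ by group] at h
        have h' : x * w⁻¹ = w * x * w⁻¹ * w⁻¹ := h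
        exact mul_right_cancel h']
  have hzz : IsPGroup 2 (Subgroup.zpowers z) := fun g => ⟨1, by
    obtain ⟨g, k, rfl⟩ := g
    refine Subtype.ext ?_
    show (z ^ k) ^ (2 ^ 1) = 1
    rw [pow_one, sq, ← zpow_add, ← two_mul, zpow_mul, zpow_two, hC.sq, one_zpow]⟩
  have hX2 : IsPGroup 2 X := IsPGroup.to_sup_of_normal_right' h2 hzz hWn
  obtain ⟨k, hk⟩ := IsPGroup.iff_card.mp hX2
  -- the order of the cover
  have hcard : Nat.card C = 2 * Nat.card Q := by
    have h := π.ker.card_mul_index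
    rw [Subgroup.index_ker, MonoidHom.range_eq_top.mpr hC.surj, Subgroup.card_top] at h
    rw [← h]
    congr 1
    have hker : (π.ker : Set C) = {1, z} := by
      ext x
      simp only [SetLike.mem_coe, MonoidHom.mem_ker, Set.mem_insert_iff, Set.mem_singleton_iff]
      exact ⟨hC.ker x, fun hx => hx.elim (fun e => by rw [e, map_one]) (fun e => by rw [e, hC.one])⟩
    have hc : (π.ker : Set C).ncard = 2 := by rw [hker, Set.ncard_pair (Ne.symm hC.ne)]
    rwa [← Nat.card_coe_set_eq] at hc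
  have hXW : 2 * Nat.card W ≤ Nat.card X := by
    have hlt : Nat.card W ≠ Nat.card X := fun h => hz (by
      have he : W = X := SetLike.coe_injective (Set.eq_of_subset_of_ncard_le (show (W : Set C) ⊆ X from fun x hx => Subgroup.mem_sup_left hx) (by
        rw [← Nat.card_coe_set_eq, ← Nat.card_coe_set_eq]; exact h.ge) (Set.toFinite _))
      rw [he]
      exact Subgroup.mem_sup_right (Subgroup.mem_zpowers z))
    obtain ⟨c, hc⟩ := Subgroup.card_dvd_of_le (le_sup_left : W ≤ X)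
    change Nat.card X = _ at hc
    have : 0 < Nat.card X := Nat.card_pos
    rcases c with _ | _ | c
    · rw [mul_zero] at hc; omega
    · rw [zero_add, mul_one] at hc; exact absurd hc.symm hlt
    · rw [hc, mul_comm 2]; exact Nat.mul_le_mul_left _ (by omega)
  have hidx : Odd X.index := by
    have h := X.card_mul_index
    rw [hcard, hQ, hk] at h
    have hk' : n + 1 ≤ k := by
      by_contra hlt
      have hle : 2 ^ k ≤ 2 ^ n := Nat.pow_le_pow_right (by norm_num) (by omega)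
      have hpos : 0 < 2 ^ n := by positivity
      rw [hk] at hXW
      omega
    obtain ⟨j, rfl⟩ : ∃ j, k = n + 1 + j := ⟨k - (n + 1), by omega⟩
    have h' : 2 ^ j * X.index = m := by
      have hpos : 0 < 2 ^ (n + 1) := by positivity
      refine Nat.eq_of_mul_eq_mul_left hpos ?_
      rw [← mul_assoc, ← pow_add, h, pow_succ]
      ring
    exact Nat.Odd.of_mul_right (h' ▸ hm)
  -- transfer
  let τ : C →* Abelianization X := (Abelianization.of : X →* Abelianization X).transfer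
  have keyt : ∀ (k : ℕ) (g₀ : C), g₀⁻¹ * z ^ k * g₀ ∈ X → g₀⁻¹ * z ^ k * g₀ = z ^ k := fun k g₀ _ => by
    rw [mul_assoc, ((show Commute z g₀ from hC.central g₀).pow_left k).eq, inv_mul_cancel_left]
  have hτ : τ z = 1 := Abelianization.commutator_subset_ker τ (hperf ▸ Subgroup.mem_top z)
  have hpow := MonoidHom.transfer_eq_pow (Abelianization.of : X →* Abelianization X) z keyt
  have hzX : z ∈ X := Subgroup.mem_sup_right (Subgroup.mem_zpowers z)
  have hw : (Abelianization.of (⟨z, hzX⟩ : X)) ^ X.index = 1 := by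
    rw [← map_pow, ← hτ]
    refine Eq.trans ?_ hpow.symm
    rfl
  obtain ⟨j, hj⟩ := hidx
  have hw2 : (⟨z, hzX⟩ : X) ^ 2 = 1 := Subtype.ext (by show z ^ 2 = 1; rw [sq, hC.sq])
  rw [hj, pow_succ, pow_mul, ← map_pow, hw2, map_one, one_pow, one_mul, ← MonoidHom.mem_ker, Abelianization.ker_of] at hw
  have hmem : (⟨z, hzX⟩ : X) ∈ W.subgroupOf X := by
    refine (show commutator X ≤ W.subgroupOf X from ?_) hw
    rw [commutator_def, Subgroup.commutator_le]
    intro a _ b _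
    have hdec : ∀ a : X, ∃ w ∈ W, ∃ c ∈ Subgroup.zpowers z, (a : C) = w * c := by
      intro a
      have ha : (a : C) ∈ ((W ⊔ Subgroup.zpowers z : Subgroup C) : Set C) := a.2
      rw [Subgroup.coe_mul_of_right_le_normalizer_left W _ hzW] at ha
      obtain ⟨w, hw, c, hc, he⟩ := ha
      exact ⟨w, hw, c, hc, he.symm⟩
    obtain ⟨w, hw, c, hc, ea⟩ := hdec a
    obtain ⟨w', hw', c', hc', eb⟩ := hdec b
    rw [Subgroup.mem_subgroupOf, show (((⁅a, b⁆ : X)) : C) = ⁅(a : C), (b : C)⁆ from map_commutatorElement X.subtype a b,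
      ea, eb]
    have hcc := Subgroup.mem_center_iff.mp (hzp hc)
    have hcc' := Subgroup.mem_center_iff.mp (hzp hc')
    have e : ⁅w * c, w' * c'⁆ = ⁅w, w'⁆ := by
      simp only [commutatorElement_def, mul_inv_rev]
      calc w * c * (w' * c') * (c⁻¹ * w⁻¹) * (c'⁻¹ * w'⁻¹)
          = w * (c * (w' * c')) * (c⁻¹ * w⁻¹) * (c'⁻¹ * w'⁻¹) := by group
        _ = w * w' * (c' * w⁻¹) * (c'⁻¹ * w'⁻¹) := by rw [← hcc (w' * c')]; group
        _ = w * w' * w⁻¹ * w'⁻¹ := by rw [← hcc' w⁻¹]; group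
    rw [e, commutatorElement_def]
    exact mul_mem (mul_mem (mul_mem hw hw') (inv_mem hw)) (inv_mem hw')
  exact hz hmem

include S hC hL in
theorem not_flat (hperf : commutator C = ⊤) : ¬ Flat E L := by
  classical
  intro hflat
  obtain ⟨L', hL', hflat', hsplit⟩ := exists_split S hC hL hflat
  obtain ⟨v, u, t, hv, hu, htt, ht, htk⟩ := exists_double S
  obtain ⟨P, K, hK, hzP, hPK, hKc, hnorm⟩ := exists_radical S hC hL' hv hsplit hu
  have hreal : ∀ {i j k : Fin 6}, i ≠ j → i ≠ k → j ≠ k → ∃ g, Acts v g (Equiv.swap i j * Equiv.swap j k) ∧ Keeps u g :=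
    fun a b c => real_three_keeps S hv hu a b c
  obtain ⟨g1, a1, k1⟩ := hreal (i := 2) (j := 4) (k := 3) (by decide) (by decide) (by decide)
  obtain ⟨g2, a2, k2⟩ := hreal (i := 0) (j := 2) (k := 1) (by decide) (by decide) (by decide)
  obtain ⟨g3, a3, k3⟩ := hreal (i := 2) (j := 3) (k := 5) (by decide) (by decide) (by decide)
  obtain ⟨g4, a4, k4⟩ := hreal (i := 1) (j := 2) (k := 4) (by decide) (by decide) (by decide)
  have hconj : ∀ {g : Q} {ρ : Equiv.Perm (Fin 6)}, Acts v g ρ → Keeps u g →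
      ∃ T : C, T * T = 1 ∧ Acts v (π T) (ρ * (Equiv.swap 0 1 * Equiv.swap 3 4) * ρ⁻¹) ∧ Keeps u (π T) := by
    intro g ρ ha hk
    have hinv : g * t * g⁻¹ * (g * t * g⁻¹) = 1 := by
      rw [show g * t * g⁻¹ * (g * t * g⁻¹) = g * (t * t) * g⁻¹ by group, htt, mul_one, mul_inv_cancel]
    obtain ⟨T, hT, hTe⟩ := CoverLifts.exists_lift_sq_one S π hC.surj hC.hker _ hinv
    refine ⟨T, hT, hTe ▸ (ha.mul ht).mul ha.inv, ?_⟩
    rw [hTe]
    exact Keeps.mul S hv hu (ha.mul ht) (Keeps.mul S hv hu ha hk ht htk) ha.inv hk.inv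
  obtain ⟨T2, q2, b2, l2⟩ := hconj a1 k1
  obtain ⟨T3, q3, b3, l3⟩ := hconj (a2.mul a3) (Keeps.mul S hv hu a2 k2 a3 k3)
  obtain ⟨Tc, qc, bc, lc⟩ := hconj a4 k4
  rw [conjugators.1] at b2
  rw [conjugators.2.1] at b3
  rw [conjugators.2.2] at bc
  obtain ⟨hsq, -, -, h4, h22, h10, hinj⟩ := dihedral_facts
  set U := T3 * T2 with hUdef
  have hUA : Acts v (π U) (sigThree * sigTwo) := by rw [map_mul]; exact b3.mul b2
  have hUk : Keeps u (π U) := by rw [map_mul]; exact Keeps.mul S hv hu b3 l3 b2 l2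
  have hU2A : Acts v (π (U ^ 2)) (Equiv.swap 0 2 * Equiv.swap 1 3) := by
    rw [← hsq, map_pow, sq, sq]; exact hUA.mul hUA
  have hU2k : Keeps u (π (U ^ 2)) := by
    rw [map_pow, sq]; exact Keeps.mul S hv hu hUA hUk hUA hUk
  have hPsub : ∀ p ∈ P, Acts v (π p) 1 ∧ Keeps u (π p) := fun p hp =>
    (hK _).mp (hPK ▸ Subgroup.mem_map_of_mem π hp)
  have hU4 : U ^ 4 ∈ P := by
    have hk : π (U ^ 2) * (π Tc)⁻¹ ∈ K := (hK _).mpr ⟨by have := hU2A.mul bc.inv; rwa [mul_inv_cancel] at this,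
      Keeps.mul S hv hu hU2A hU2k bc.inv lc.inv⟩
    rw [← hPK] at hk
    obtain ⟨p, hp, hpe⟩ := hk
    have hTci : Tc⁻¹ = Tc := inv_eq_of_mul_eq_one_right qc
    have hpc : p * Tc * (p * Tc) ∈ P := by
      have := hnorm Tc _ bc lc p hp
      rw [hTci] at this
      rw [show p * Tc * (p * Tc) = p * (Tc * p * Tc) by group]
      exact mul_mem hp this
    have he : π (U ^ 2) = π (p * Tc) := by rw [map_mul, hpe, inv_mul_cancel_right]
    rw [show U ^ 4 = U ^ 2 * U ^ 2 by rw [← pow_add]]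
    rcases hC.eq_or (p * Tc) (U ^ 2) he with h | h <;> rw [h]
    · exact hpc
    · rw [(show Commute (p * Tc) z from (hC.central _).symm).mul_mul_mul_comm, hC.sq, one_mul]
      exact hpc
  -- the two-group
  set W1 := P ⊔ Subgroup.zpowers U with hW1
  set W2 := W1 ⊔ Subgroup.zpowers T2 with hW2
  haveI : Fact (Nat.Prime 2) := ⟨Nat.prime_two⟩
  have hPinj : Nat.card P = Nat.card K := by
    let f : ↥P → ↥K := fun p => ⟨π p, hPK ▸ Subgroup.mem_map_of_mem π p.2⟩
    refine Nat.card_eq_of_bijective f ⟨fun a b h => ?_, ?_⟩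
    · rcases hC.eq_or (a : C) b (congrArg Subtype.val h).symm with e | e
      · exact Subtype.ext e.symm
      · refine absurd ?_ hzP
        have : z = (b : C) * (a : C)⁻¹ := by rw [e, mul_inv_cancel_right]
        exact this ▸ mul_mem b.2 (inv_mem a.2)
    · rintro ⟨g, hg⟩
      rw [← hPK] at hg
      obtain ⟨p, hp, rfl⟩ := hg
      exact ⟨⟨p, hp⟩, rfl⟩
  have hP2 : IsPGroup 2 P := IsPGroup.of_card (n := 14) (by rw [hPinj, hKc])
  have hmemN : ∀ {H : Subgroup C} {Y : C}, (∀ p ∈ H, Y * p * Y⁻¹ ∈ H) → (∀ p ∈ H, Y⁻¹ * p * Y ∈ H) →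
      Y ∈ Subgroup.normalizer (H : Set C) := fun {H Y} h h' =>
    Subgroup.mem_normalizer_iff.mpr fun p => ⟨h p, fun hp => by simpa [mul_assoc] using h' _ hp⟩
  have hnorm' : ∀ (Y : C) (σ : Equiv.Perm (Fin 6)), Acts v (π Y) σ → Keeps u (π Y) →
      Y ∈ Subgroup.normalizer (P : Set C) := fun Y σ a b => hmemN (hnorm Y σ a b) fun p hp => by
    have := hnorm Y⁻¹ σ⁻¹ (by rw [map_inv]; exact a.inv) (by rw [map_inv]; exact b.inv) p hp
    rwa [inv_inv] at this
  have hUN : Subgroup.zpowers U ≤ Subgroup.normalizer (P : Set C) := Subgroup.zpowers_le.mpr (hnorm' U _ hUA hUk)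
  have hU2 : IsPGroup 2 (Subgroup.zpowers U) := by
    obtain ⟨e, he⟩ := hP2 ⟨U ^ 4, hU4⟩
    have h1 : U ^ (2 ^ (e + 2)) = 1 := by
      have := congrArg Subtype.val he
      simp only [SubmonoidClass.coe_pow, OneMemClass.coe_one] at this
      rw [← this, ← pow_mul]; congr 1; ring
    obtain ⟨i, -, hi⟩ := (Nat.dvd_prime_pow Nat.prime_two).mp (orderOf_dvd_of_pow_eq_one h1)
    exact IsPGroup.of_card (n := i) (by rw [Nat.card_zpowers, hi])
  have hW12 : IsPGroup 2 W1 := by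
    rw [hW1, sup_comm]
    exact IsPGroup.to_sup_of_normal_right' hU2 hP2 hUN
  have hT2i : T2⁻¹ = T2 := inv_eq_of_mul_eq_one_right q2
  have hT3i : T3⁻¹ = T3 := inv_eq_of_mul_eq_one_right q3
  have hTW : Subgroup.zpowers T2 ≤ Subgroup.normalizer (W1 : Set C) := by
    have h : ∀ p ∈ W1, T2 * p * T2⁻¹ ∈ W1 := by
      intro p hp
      have hle : W1.map (MulAut.conj T2).toMonoidHom ≤ W1 := by
        rw [hW1, Subgroup.map_sup, sup_le_iff, MonoidHom.map_zpowers, Subgroup.zpowers_le]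
        refine ⟨?_, ?_⟩
        · rintro _ ⟨p, hp, rfl⟩
          exact Subgroup.mem_sup_left (hnorm T2 _ b2 l2 p hp)
        · show T2 * (T3 * T2) * T2⁻¹ ∈ _
          rw [mul_assoc, mul_inv_cancel_right, show T2 * T3 = U⁻¹ by rw [hUdef, mul_inv_rev, hT2i, hT3i]]
          exact Subgroup.mem_sup_right (inv_mem (Subgroup.mem_zpowers U))
      exact hle ⟨p, hp, rfl⟩
    exact Subgroup.zpowers_le.mpr (hmemN h fun p hp => by have := h p hp; rwa [hT2i] at this ⊢)
  have hT22 : IsPGroup 2 (Subgroup.zpowers T2) := by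
    obtain ⟨i, -, hi⟩ := (Nat.dvd_prime_pow Nat.prime_two).mp
      (orderOf_dvd_of_pow_eq_one (n := 2 ^ 1) (by rw [pow_one, sq, q2] : T2 ^ (2 ^ 1) = 1))
    exact IsPGroup.of_card (n := i) (by rw [Nat.card_zpowers, hi])
  have hW22 : IsPGroup 2 W2 := by
    rw [hW2, sup_comm]
    exact IsPGroup.to_sup_of_normal_right' hT22 hW12 hTW
  have hpowA : ∀ n : ℕ, Acts v (π U ^ n) ((sigThree * sigTwo) ^ n) := fun n => by
    induction n with
    | zero => simpa using Acts.one
    | succ n ih => rw [pow_succ, pow_succ]; exact ih.mul hUA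
  have hpowT : ∀ n : ℕ, Acts v (π T2 ^ n) (sigTwo ^ n) := fun n => by
    induction n with
    | zero => simpa using Acts.one
    | succ n ih => rw [pow_succ, pow_succ]; exact ih.mul b2
  -- normal forms
  have hW1mem : ∀ w ∈ W1, ∃ p ∈ P, ∃ i : Fin 4, w = p * U ^ (i : ℕ) := by
    intro w hw
    rw [← SetLike.mem_coe, hW1, Subgroup.coe_mul_of_right_le_normalizer_left P _ hUN] at hw
    obtain ⟨p, hp, x, hx, rfl⟩ := hw
    obtain ⟨n, rfl⟩ := mem_powers_iff_mem_zpowers.mpr hx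
    refine ⟨p * U ^ (4 * (n / 4)), mul_mem hp (by rw [pow_mul]; exact pow_mem hU4 _), ⟨n % 4, by omega⟩, ?_⟩
    show p * U ^ n = _
    rw [mul_assoc, ← pow_add, Nat.div_add_mod]
  have hzW : z ∉ W2 := by
    intro hz
    rw [← SetLike.mem_coe, hW2, Subgroup.coe_mul_of_right_le_normalizer_left W1 _ hTW] at hz
    obtain ⟨w, hw, x, hx, hwx⟩ := hz
    obtain ⟨p, hp, i, rfl⟩ := hW1mem w hw
    obtain ⟨n, rfl⟩ := mem_powers_iff_mem_zpowers.mpr hx
    have hn : T2 ^ n = T2 ^ (n % 2) := pow_eq_pow_mod n (by rw [sq, q2])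
    have hwx' : p * U ^ (i : ℕ) * T2 ^ (n % 2) = z := hn ▸ hwx
    have ha := ((hPsub p hp).1.mul (hpowA i)).mul (hpowT (n % 2))
    rw [← map_pow, ← map_pow, ← map_mul, ← map_mul, hwx', hC.one] at ha
    have h := Acts.one.unique hv.inj ha
    rw [one_mul] at h
    obtain ⟨rfl, hj⟩ := h10 i ⟨n % 2, by omega⟩ h.symm
    have hj' : n % 2 = 0 := congrArg Fin.val hj
    rw [hj'] at hwx'
    refine hzP ?_
    simpa [← hwx'] using hp
  have hQ : Nat.card Q = 2 ^ 17 * (3 ^ 9 * 5 ^ 2 * 7 * 11 * 13) := by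
    rw [FischerMTypes.OrderWidth.card_group S]; ring
  refine not_perfect hC W2 hW22 hzW (by decide) hQ ?_ hperf
  let f : ↥P × Fin 4 × Fin 2 → ↥W2 := fun x => ⟨(x.1 : C) * U ^ (x.2.1 : ℕ) * T2 ^ (x.2.2 : ℕ),
    mul_mem (mul_mem (Subgroup.mem_sup_left (Subgroup.mem_sup_left x.1.2))
      (Subgroup.mem_sup_left (Subgroup.mem_sup_right (pow_mem (Subgroup.mem_zpowers U) _))))
      (Subgroup.mem_sup_right (pow_mem (Subgroup.mem_zpowers T2) _))⟩
  have hf : Function.Injective f := by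
    rintro ⟨p, i, j⟩ ⟨p', i', j'⟩ h
    have h' : (p : C) * U ^ (i : ℕ) * T2 ^ (j : ℕ) = (p' : C) * U ^ (i' : ℕ) * T2 ^ (j' : ℕ) := congrArg Subtype.val h
    have e1 := ((hPsub p p.2).1.mul (hpowA i)).mul (hpowT j)
    have e2 := ((hPsub p' p'.2).1.mul (hpowA i')).mul (hpowT j')
    rw [← map_pow, ← map_pow, ← map_mul, ← map_mul, h', map_mul, map_mul, map_pow, map_pow] at e1
    have h0 := e1.unique hv.inj e2
    rw [one_mul, one_mul] at h0
    obtain ⟨rfl, rfl⟩ := hinj i i' j j' h0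
    obtain rfl : p = p' := Subtype.ext (mul_right_cancel (mul_right_cancel h'))
    rfl
  have := Nat.card_le_card_of_injective f hf
  rw [Nat.card_prod, Nat.card_prod, Nat.card_fin, Nat.card_fin, hPinj, hKc] at this
  calc 2 ^ 17 = 2 ^ 14 * (4 * 2) := by norm_num
    _ ≤ _ := this

include S hC hL in
/-- the six lifts over a six multiply to the central involution -/
theorem six_lifts (hperf : commutator C = ⊤) {a b c : Q} (h : Tri E a b c) {l : List Q} (hnd : l.Nodup)
    (hm : ∀ x, x ∈ l ↔ x ∈ six E a b c) (hl : l.prod = 1) : (l.map L).prod = z := by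
  rcases hC.ker _ ((hL.map_prod fun x hx => ((hm x).mp hx).1.1).trans hl) with h1 | h1
  · exact absurd (flat_of_one S hC hL h hnd hm h1) (not_flat S hC hL hperf)
  · exact h1

end Cfsg.Agent.Lib.FischerMTypes90
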