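import Mathlib
import Cfsg.Agent.Lib.FischerMTypes90.Hexad
import Cfsg.Agent.Lib.FischerMTypes.TripleCentralizer

/-!
A perfect double cover of a group of type M(22): the elements over a base, the fusion of the two
lifts of a product of three, and the elements of order eleven centralising a lift.
-/

set_option autoImplicit false
set_option linter.style.haveILetI false
set_option linter.unusedSectionVars false

namespace Cfsg.Agent.Lib.FischerMTypes90

open Cfsg.Agent.Lib.FischerMTypes.Basic Cfsg.Agent.Lib.FischerMTypes.Primitive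
  Cfsg.Agent.Lib.FischerMTypes.Aut22 Cfsg.Agent.Lib.FischerMTypes.Syl22
  Cfsg.Agent.Lib.FischerMTypes.InvolutionsM22
open Cfsg.Agent.Lib.FischerMTypes.TraceCounts (Sys)

variable {Q : Type*} [Group Q] [Finite Q] {E : Set Q}
variable {F : Type} [Field F] [Fintype F]

/-- the elements of the group generated by a base which are products of `m` transpositions -/
def part (E B : Set Q) (m : ℕ) : Set Q := {x | x ∈ Subgroup.closure B ∧ IsProd E m x}

section Base

variable (S : Sys E F) {B : Set Q} (hB : IsBase E B)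

include hB in
theorem prod_one {e : Q} (he : e ∈ B) : IsProd E 1 e :=
  ⟨[e], by simp, rfl, by simp [hB.sub he], by simp, by simp⟩

include hB in
theorem prod_two {e f : Q} (he : e ∈ B) (hf : f ∈ B) (hne : e ≠ f) : IsProd E 2 (e * f) :=
  ⟨[e, f], by simp [hne], rfl, by simp [hB.sub he, hB.sub hf],
    by simp [hB.clique _ he _ hf, (hB.clique _ he _ hf).symm], by simp⟩

include hB in
theorem prod_three {e f g : Q} (he : e ∈ B) (hf : f ∈ B) (hg : g ∈ B) (n1 : e ≠ f) (n2 : e ≠ g) (n3 : f ≠ g) :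
    IsProd E 3 (e * (f * g)) := by
  have hsub : ∀ a ∈ [e, f, g], a ∈ B := by simp [he, hf, hg]
  exact ⟨[e, f, g], by simp [n1, n2, n3], rfl, fun a ha => hB.sub (hsub a ha),
    fun a ha b hb => hB.clique a (hsub a ha) b (hsub b hb), by simp⟩

include S hB in
/-- every element of the group generated by a base is a short product of its members -/
theorem base_elem {x : Q} (hx : x ∈ Subgroup.closure B) :
    x = 1 ∨ x ∈ B ∨ (∃ e ∈ B, ∃ f ∈ B, e ≠ f ∧ x = e * f) ∨
      ∃ e ∈ B, ∃ f ∈ B, ∃ g ∈ B, e ≠ f ∧ e ≠ g ∧ f ≠ g ∧ x = e * (f * g) := by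
  by_cases h1 : x = 1
  · exact Or.inl h1
  refine Or.inr ?_
  have hcomm : ∀ b ∈ B, Commute b x := fun b hb => hB.closure_comm b (Subgroup.subset_closure hb) x hx
  obtain ⟨m, hm1, hm3, l, hnd, hlen, hd, hc, rfl⟩ :=
    (three_classes S).1 x (orderOf_eq_prime (by rw [sq]; exact hB.closure_sq S.hD x hx) h1)
  interval_cases m
  · obtain ⟨a, rfl⟩ := List.length_eq_one_iff.mp hlen
    simp only [List.prod_cons, List.prod_nil, mul_one] at hcomm ⊢
    exact Or.inl (hB.maximal S (hd a (by simp)) hcomm)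
  · obtain ⟨a, b, rfl⟩ := List.length_eq_two.mp hlen
    simp only [List.prod_cons, List.prod_nil, mul_one] at hcomm ⊢
    have hne : a ≠ b := by simpa using hnd
    have key : ∀ u ∈ B, Commute u a ∧ Commute u b := fun u hu =>
      comm_of_comm_mul S.hD.1 (hd a (by simp)) (hd b (by simp)) (hB.sub hu) (hc a (by simp) b (by simp)) hne
        (hcomm u hu)
    exact Or.inr (Or.inl ⟨a, hB.maximal S (hd a (by simp)) fun u hu => (key u hu).1,
      b, hB.maximal S (hd b (by simp)) fun u hu => (key u hu).2, hne, rfl⟩)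
  · obtain ⟨a, b, c, rfl⟩ := List.length_eq_three.mp hlen
    simp only [List.prod_cons, List.prod_nil, mul_one] at hcomm ⊢
    simp only [List.nodup_cons, List.mem_cons, List.not_mem_nil, or_false, not_or, List.nodup_nil, and_true,
      not_false_eq_true] at hnd
    obtain ⟨⟨n1, n2⟩, n3⟩ := hnd
    have key : ∀ u ∈ B, Commute u a ∧ Commute u b ∧ Commute u c := fun u hu =>
      FischerMTypes.SixSets.cross S.hD (hd a (by simp)) (hd b (by simp)) (hd c (by simp)) (hB.sub hu)
        (hc a (by simp) b (by simp)) (hc a (by simp) c (by simp)) (hc b (by simp) c (by simp)) n1 n2 n3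
        (by rw [mul_assoc]; exact hcomm u hu)
    exact Or.inr (Or.inr ⟨a, hB.maximal S (hd a (by simp)) fun u hu => (key u hu).1,
      b, hB.maximal S (hd b (by simp)) fun u hu => (key u hu).2.1,
      c, hB.maximal S (hd c (by simp)) fun u hu => (key u hu).2.2, n1, n2, n3, rfl⟩)

include S hB in
theorem card_closure_base : Nat.card ↥(Subgroup.closure B) = 1024 :=
  le_antisymm (centralizer_base S hB ▸ ncard_fixator_le S hB) (ncard_closure_ge S hB)

include S hB in
theorem part_one : part E B 1 = B := by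
  ext x
  refine ⟨fun ⟨hx, h1⟩ => ?_, fun hx => ⟨Subgroup.subset_closure hx, prod_one hB hx⟩⟩
  rcases base_elem S hB hx with rfl | h | ⟨e, he, f, hf, hne, rfl⟩ | ⟨e, he, f, hf, g, hg, n1, n2, n3, rfl⟩
  · exact absurd (order_two S le_rfl (by norm_num) h1) (by rw [orderOf_one]; norm_num)
  · exact h
  · exact absurd (m_unique S le_rfl (by norm_num) (by norm_num) (by norm_num) h1 (prod_two hB he hf hne)) (by norm_num)
  · exact absurd (m_unique S le_rfl (by norm_num) (by norm_num) (by norm_num) h1 (prod_three hB he hf hg n1 n2 n3))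
      (by norm_num)

include S hB in
theorem part_two_iff {x : Q} : x ∈ part E B 2 ↔ ∃ e ∈ B, ∃ f ∈ B, e ≠ f ∧ x = e * f := by
  refine ⟨fun ⟨hx, h2⟩ => ?_, ?_⟩
  · rcases base_elem S hB hx with rfl | h | h | ⟨e, he, f, hf, g, hg, n1, n2, n3, rfl⟩
    · exact absurd (order_two S (by norm_num) (by norm_num) h2) (by rw [orderOf_one]; norm_num)
    · exact absurd (m_unique S (by norm_num) (by norm_num) le_rfl (by norm_num) h2 (prod_one hB h)) (by norm_num)
    · exact h
    · exact absurd (m_unique S (by norm_num) (by norm_num) (by norm_num) (by norm_num) h2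
        (prod_three hB he hf hg n1 n2 n3)) (by norm_num)
  · rintro ⟨e, he, f, hf, hne, rfl⟩
    exact ⟨mul_mem (Subgroup.subset_closure he) (Subgroup.subset_closure hf), prod_two hB he hf hne⟩

include S hB in
theorem part_cases {x : Q} (hx : x ∈ Subgroup.closure B) :
    x = 1 ∨ x ∈ part E B 1 ∨ x ∈ part E B 2 ∨ x ∈ part E B 3 := by
  rcases base_elem S hB hx with rfl | h | ⟨e, he, f, hf, hne, rfl⟩ | ⟨e, he, f, hf, g, hg, n1, n2, n3, rfl⟩
  · exact Or.inl rfl
  · exact Or.inr (Or.inl ⟨hx, prod_one hB h⟩)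
  · exact Or.inr (Or.inr (Or.inl ⟨hx, prod_two hB he hf hne⟩))
  · exact Or.inr (Or.inr (Or.inr ⟨hx, prod_three hB he hf hg n1 n2 n3⟩))

include S hB in
theorem ncard_part_two : (part E B 2).ncard = 231 := by
  classical
  let := Fintype.ofFinite Q
  have hset : part E B 2 = (B.toFinset.offDiag.image fun q => q.1 * q.2 : Finset Q) := by
    ext x
    rw [part_two_iff S hB]
    simp only [Finset.coe_image, Finset.coe_offDiag, Set.coe_toFinset, Set.mem_image, Set.mem_offDiag]
    exact ⟨fun ⟨e, he, f, hf, hne, h⟩ => ⟨(e, f), ⟨he, hf, hne⟩, h.symm⟩,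
      fun ⟨q, ⟨h1, h2, h3⟩, h⟩ => ⟨q.1, h1, q.2, h2, h3, h.symm⟩⟩
  have hfib : ∀ x ∈ B.toFinset.offDiag.image (fun q => q.1 * q.2),
      (B.toFinset.offDiag.filter fun q => q.1 * q.2 = x).card = 2 := by
    intro x hx
    obtain ⟨⟨e, f⟩, hef, rfl⟩ := Finset.mem_image.mp hx
    simp only [Finset.mem_offDiag, Set.mem_toFinset] at hef
    obtain ⟨he, hf, hne⟩ := hef
    rw [show (B.toFinset.offDiag.filter fun q => q.1 * q.2 = (e, f).1 * (e, f).2) = {(e, f), (f, e)} from ?_,
      Finset.card_pair (fun h => hne (congrArg Prod.fst h))]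
    ext ⟨p, q⟩
    simp only [Finset.mem_filter, Finset.mem_offDiag, Set.mem_toFinset, Finset.mem_insert, Finset.mem_singleton,
      Prod.mk.injEq]
    constructor
    · rintro ⟨⟨hp, hq, hpq⟩, h⟩
      exact pair_unique S.hD S.hprim S.hZ (hB.sub hp) (hB.sub hq) (hB.sub he) (hB.sub hf) (hB.clique _ hp _ hq)
        (hB.clique _ he _ hf) hpq hne h
    · rintro (⟨rfl, rfl⟩ | ⟨rfl, rfl⟩)
      · exact ⟨⟨he, hf, hne⟩, rfl⟩
      · exact ⟨⟨hf, he, hne.symm⟩, (hB.clique _ he _ hf).symm.eq⟩
  have h := Finset.card_eq_sum_card_image (fun q : Q × Q => q.1 * q.2) B.toFinset.offDiag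
  rw [Finset.sum_const_nat hfib, Finset.offDiag_card, ← Set.ncard_eq_toFinset_card', hB.card] at h
  rw [hset, Set.ncard_coe_finset]
  omega

include S hB in
theorem ncard_part_three : (part E B 3).ncard = 770 := by
  have hset : (Subgroup.closure B : Set Q) = insert 1 (part E B 1 ∪ part E B 2 ∪ part E B 3) := by
    ext x
    refine ⟨fun hx => ?_, ?_⟩
    · rcases part_cases S hB hx with h | h | h | h
      · exact Or.inl h
      · exact Or.inr (Or.inl (Or.inl h))
      · exact Or.inr (Or.inl (Or.inr h))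
      · exact Or.inr (Or.inr h)
    · rintro (rfl | (h | h) | h)
      exacts [one_mem _, h.1, h.1, h.1]
  have hne : ∀ m, 1 ≤ m → m ≤ 3 → (1 : Q) ∉ part E B m := fun m h1 h3 h =>
    absurd (order_two S h1 h3 h.2) (by rw [orderOf_one]; norm_num)
  have hdis : ∀ m n, 1 ≤ m → m ≤ 3 → 1 ≤ n → n ≤ 3 → m ≠ n → Disjoint (part E B m) (part E B n) :=
    fun m n a b c e hmn => Set.disjoint_left.mpr fun x hx hx' => hmn (m_unique S a b c e hx.2 hx'.2)
  have h := card_closure_base S hB
  rw [← Nat.card_coe_set_eq] at *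
  have h' : (Subgroup.closure B : Set Q).ncard = 1024 := by rw [← Nat.card_coe_set_eq]; exact h
  rw [hset, Set.ncard_insert_of_notMem (by simp [hne 1, hne 2, hne 3]) (Set.toFinite _),
    Set.ncard_union_eq ((hdis 1 3 le_rfl (by norm_num) (by norm_num) le_rfl (by norm_num)).union_left
      (hdis 2 3 (by norm_num) (by norm_num) (by norm_num) le_rfl (by norm_num))) (Set.toFinite _) (Set.toFinite _),
    Set.ncard_union_eq (hdis 1 2 le_rfl (by norm_num) (by norm_num) (by norm_num) (by norm_num)) (Set.toFinite _)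
      (Set.toFinite _),
    part_one S hB, hB.card, ncard_part_two S hB] at h'
  rw [Nat.card_coe_set_eq]
  omega

end Base

section Lifts

variable {C : Type*} [Group C] [Finite C] {π : C →* Q} {z : C}
variable (S : Sys E F) (hC : Cover π z) {L : Q → C} (hL : Sect E π L)

include hC in
theorem Cover.ncard_preimage (W : Set Q) : {x : C | π x ∈ W}.ncard = 2 * W.ncard := by
  classical
  let := Fintype.ofFinite C
  let := Fintype.ofFinite Q
  have h := Finset.card_eq_sum_card_fiberwise (f := π) (s := (Finset.univ : Finset C).filter fun x => π x ∈ W)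
    (t := W.toFinset) (fun x hx => by
      simpa using (Finset.mem_filter.mp hx).2)
  rw [Finset.sum_const_nat (m := 2)] at h
  · rw [Set.ncard_eq_toFinset_card', Set.ncard_eq_toFinset_card', mul_comm, ← h]
    congr 1
    ext x; simp
  · intro w hw
    obtain ⟨u, rfl⟩ := hC.surj w
    rw [show (((Finset.univ : Finset C).filter fun x => π x ∈ W).filter fun x => π x = π u) = {u, z * u} from ?_]
    · refine Finset.card_pair fun h => hC.ne ?_
      exact mul_eq_right.mp h.symm
    ext x
    simp only [Finset.mem_filter, Finset.mem_univ, true_and, Finset.mem_insert, Finset.mem_singleton]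
    refine ⟨fun hx => hC.eq_or u x hx.2, ?_⟩
    rw [Set.mem_toFinset] at hw
    rintro (rfl | rfl)
    · exact ⟨hw, rfl⟩
    · rw [map_mul, hC.one, one_mul]; exact ⟨hw, rfl⟩

include S hC hL in
/-- the complementary triple of a six -/
theorem six_prod (hperf : commutator C = ⊤) {a b c : Q} (h : Tri E a b c) :
    ∃ p q r, Tri E p q r ∧ six E a b c = {a, b, c, p, q, r} ∧ [a, b, c, p, q, r].Nodup ∧
      L a * (L b * L c) = z * (L p * (L q * L r)) ∧ p * (q * r) = a * (b * c) := by
  classical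
  let := Fintype.ofFinite Q
  obtain ⟨p, q, r, h', he, hset⟩ := FischerMTypes.Thirteen.six_complement S h
  have hnd : [a, b, c, p, q, r].Nodup := by
    have h6 := ncard_six S h
    rw [hset, show ({a, b, c, p, q, r} : Set Q) = ([a, b, c, p, q, r].toFinset : Set Q) by simp,
      Set.ncard_coe_finset, List.card_toFinset] at h6
    rw [← (List.dedup_sublist [a, b, c, p, q, r]).eq_of_length h6]
    exact List.nodup_dedup _
  have hsq : ∀ {x y w : Q}, Tri E x y w → x * (y * w) * (x * (y * w)) = 1 := fun {x y w} t => by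
    rw [(t.cab.mul_right t.cac).symm.mul_mul_mul_comm, mul_self S.hD.1 t.ma, one_mul, t.cbc.symm.mul_mul_mul_comm,
      mul_self S.hD.1 t.mb, mul_self S.hD.1 t.mc, one_mul]
  have hone : [a, b, c, p, q, r].prod = 1 := by
    simp only [List.prod_cons, List.prod_nil, mul_one]
    rw [← hsq h]
    nth_rewrite 2 [← he]
    group
  have hmem : ∀ x, x ∈ [a, b, c, p, q, r] ↔ x ∈ six E a b c := fun x => by
    rw [hset]; simp
  have hz := six_lifts S hC hL hperf h hnd hmem hone
  simp only [List.map_cons, List.map_nil, List.prod_cons, List.prod_nil, mul_one] at hz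
  have c1 := hL.comm _ h'.ma _ h'.mb h'.cab
  have c2 := hL.comm _ h'.ma _ h'.mc h'.cac
  have c3 := hL.comm _ h'.mb _ h'.mc h'.cbc
  have hX : L p * (L q * L r) * (L p * (L q * L r)) = 1 := by
    rw [(c1.mul_right c2).symm.mul_mul_mul_comm, hL.sq _ h'.ma, one_mul, c3.symm.mul_mul_mul_comm,
      hL.sq _ h'.mb, hL.sq _ h'.mc, one_mul]
  refine ⟨p, q, r, h', hset, hnd, ?_, he⟩
  calc L a * (L b * L c) = L a * (L b * L c) * (L p * (L q * L r) * (L p * (L q * L r))) := by rw [hX, mul_one]
    _ = L a * (L b * (L c * (L p * (L q * L r)))) * (L p * (L q * L r)) := by group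
    _ = _ := by rw [hz]

include S hC hL in
/-- the two lifts of a product of three are conjugate -/
theorem fused_three (hperf : commutator C = ⊤) {a b c : Q} (h : Tri E a b c) :
    ∃ Y : C, Y * (L a * (L b * L c)) * Y⁻¹ = z * (L a * (L b * L c)) := by
  obtain ⟨p, q, r, h', -, -, he, -⟩ := six_prod S hC hL hperf h
  obtain ⟨g, rfl, rfl, rfl⟩ := FischerMTypes.Threes.triple_move S h h'
  obtain ⟨Y, rfl⟩ := hC.surj g
  refine ⟨Y, ?_⟩
  calc Y * (L a * (L b * L c)) * Y⁻¹ = Y * L a * Y⁻¹ * (Y * L b * Y⁻¹ * (Y * L c * Y⁻¹)) := by group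
    _ = z * (z * (L (π Y * a * (π Y)⁻¹) * (L (π Y * b * (π Y)⁻¹) * L (π Y * c * (π Y)⁻¹)))) := by
      rw [hL.conj a h.ma, hL.conj b h.mb, hL.conj c h.mc, ← mul_assoc z z, hC.sq, one_mul]
    _ = _ := by rw [← he]

include hC in
theorem map_eleven {g : C} (hg : orderOf g = 11) : orderOf (π g) = 11 := by
  haveI : Fact (Nat.Prime 11) := ⟨by norm_num⟩
  refine orderOf_eq_prime (by rw [← map_pow, ← hg, pow_orderOf_eq_one, map_one]) fun h => ?_
  rcases hC.ker g h with rfl | rfl
  · rw [orderOf_one] at hg; norm_num at hg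
  · rw [orderOf_eq_prime (p := 2) (by rw [sq, hC.sq]) hC.ne] at hg; norm_num at hg

include S hC hL in
theorem exists_eleven {e : Q} (he : e ∈ E) : ∃ g : C, orderOf g = 11 ∧ Commute g (L e) := by
  haveI : Fact (Nat.Prime 11) := ⟨by norm_num⟩
  obtain ⟨⟨c, hc⟩, hc11⟩ := exists_prime_orderOf_dvd_card' (G := ↥(Subgroup.centralizer ({e} : Set Q))) 11
    (by rw [FischerMTypes.OrderWidth.card_centralizer S he]; norm_num)
  have ho : orderOf c = 11 := by rw [← hc11, ← Subgroup.orderOf_coe]
  obtain ⟨Y, rfl⟩ := hC.surj c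
  have hdvd : 11 ∣ orderOf Y := ho ▸ orderOf_map_dvd π Y
  refine ⟨Y ^ (orderOf Y / 11), orderOf_pow_orderOf_div (orderOf_pos Y).ne' hdvd, Commute.pow_left ?_ _⟩
  refine (CoverLifts.lift_commute_of_commute S π hC.surj (fun x hx => (hC.hker x hx).2) ?_ ?_).symm
  · rw [hL.proj e he]; exact he
  · rw [hL.proj e he]; exact (Subgroup.mem_centralizer_singleton_iff.mp hc).symm

include S hC in
theorem no_eleven_two {e f : Q} (he : e ∈ E) (hf : f ∈ perp E e) {g u : C} (hu : π u = e * f)
    (hg : orderOf g = 11) : ¬ Commute g u := by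
  intro hc
  have h11 := map_eleven hC hg
  generalize hgc : π g = c at h11
  have hcu : c * (e * f) * c⁻¹ = e * f := by
    rw [← hgc, ← hu, ← map_mul, ← map_inv, ← map_mul, hc.eq, mul_inv_cancel_right]
  have hpow : c ^ 11 = 1 := h11 ▸ pow_orderOf_eq_one c
  have hfix : Commute c e ∧ Commute c f := by
    rcases pair_unique S.hD S.hprim S.hZ (S.hD.2.1 c e he) (S.hD.2.1 c f hf.1) he hf.1
      (FischerMTypes.StabilizerM22.conj_commute hf.2.2) hf.2.2 (fun h => hf.2.1 (mul_left_cancel (mul_right_cancel h)).symm) (Ne.symm hf.2.1) (by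
        rw [← hcu]; group) with ⟨h1, h2⟩ | ⟨h1, h2⟩
    · exact ⟨mul_inv_eq_iff_eq_mul.mp h1, mul_inv_eq_iff_eq_mul.mp h2⟩
    · have k1 : Commute (c ^ 2) e := by
        have h : c ^ 2 * e * (c ^ 2)⁻¹ = e := by
          rw [show c ^ 2 * e * (c ^ 2)⁻¹ = c * (c * e * c⁻¹) * c⁻¹ by rw [sq]; group, h1, h2]
        exact mul_inv_eq_iff_eq_mul.mp h
      have k2 := k1.pow_left 6
      rw [← pow_mul, show 2 * 6 = 11 + 1 from rfl, pow_add, hpow, one_mul, pow_one] at k2
      exact absurd (by rw [← h1, k2.eq, mul_inv_cancel_right]) hf.2.1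
  set H := Subgroup.closure (perp E e) with hH
  have hcH : c ∈ H := by
    rw [hH, FischerMTypes.StabilizerM22.centralizer_eq S he, Subgroup.mem_centralizer_singleton_iff]
    exact hfix.1.eq
  let fH : ↥H := ⟨f, Subgroup.subset_closure hf⟩
  have hcls : {y : ↥H | IsConj fH y}.ncard = 693 := by
    rw [← (S.ctx e he).ncard_perp, ← Set.ncard_image_of_injective _ (Subtype.val_injective (p := (· ∈ H)))]
    congr 1
    ext y
    constructor
    · rintro ⟨y, hy, rfl⟩
      obtain ⟨k, rfl⟩ := isConj_iff.mp hy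
      have := (conj_mem_perp_iff S.hD (k : Q) e f).mpr hf
      rw [Sys.closure_fix k.2] at this
      exact this
    · intro hy
      obtain ⟨h, hh, rfl⟩ := S.exists_conj_perp he hf hy
      exact ⟨⟨h * f * h⁻¹, Subgroup.subset_closure hy⟩,
        isConj_iff.mpr ⟨⟨h, hh⟩, Subtype.ext rfl⟩, rfl⟩
  have hcard := FischerMTypes.TripleCentralizer.card_mul_card_class fH
  rw [hcls, FischerMTypes.OrderWidth.card_closure_perp S he] at hcard
  have hmem : (⟨c, hcH⟩ : ↥H) ∈ Subgroup.centralizer ({fH} : Set ↥H) :=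
    Subgroup.mem_centralizer_singleton_iff.mpr (Subtype.ext hfix.2.eq)
  have hdvd := orderOf_dvd_natCard (⟨⟨c, hcH⟩, hmem⟩ : ↥(Subgroup.centralizer ({fH} : Set ↥H)))
  rw [← Subgroup.orderOf_coe, ← Subgroup.orderOf_coe, h11] at hdvd
  omega

include S hC in
theorem no_eleven_three {g u : C} (hu : IsProd E 3 (π u)) (hg : orderOf g = 11) : ¬ Commute g u := by
  intro hc
  have hmem : π g ∈ Subgroup.centralizer ({π u} : Set Q) :=
    Subgroup.mem_centralizer_singleton_iff.mpr (by rw [← map_mul, ← map_mul, hc.eq])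
  have hdvd := orderOf_dvd_natCard (⟨π g, hmem⟩ : ↥(Subgroup.centralizer ({π u} : Set Q)))
  rw [← Subgroup.orderOf_coe, map_eleven hC hg,
    FischerMTypes.TripleCentralizer.card_centralizer_triple S hu] at hdvd
  norm_num at hdvd

end Lifts

end Cfsg.Agent.Lib.FischerMTypes90
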