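import Mathlib
import Cfsg.Agent.Lib.FischerMTypes90.BaseLifts

/-!
The conjugates of the central involution inside the lift of the group generated by a base: fibre
counts and the easy fusion patterns.
-/

set_option autoImplicit false
set_option linter.style.haveILetI false
set_option linter.unusedSectionVars false

namespace Cfsg.Agent.Lib.FischerMTypes90

open Cfsg.Agent.Lib.FischerMTypes.Basic Cfsg.Agent.Lib.FischerMTypes.Primitive
  Cfsg.Agent.Lib.FischerMTypes.Aut22 Cfsg.Agent.Lib.FischerMTypes.Syl22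
  Cfsg.Agent.Lib.FischerMTypes.InvolutionsM22
open Cfsg.Agent.Lib.FischerMTypes.TraceCounts (Sys)

variable {G : Type*} [Group G] [Finite G]

/-- the members of a subgroup conjugate to a given element -/
def conjIn (A : Subgroup G) (d : G) : Set G := {x | x ∈ A ∧ IsConj d x}

variable {Q : Type*} [Group Q] [Finite Q]

/-- a centraliser covering a group of type M(22), with the lift of a base -/
structure Frame {Cg : Subgroup G} (E : Set Q) (π : ↥Cg →* Q) (z : ↥Cg) (B : Set Q) (A : Subgroup G) : Prop where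
  mem : ∀ g, g ∈ Cg ↔ Commute g (z : G)
  cover : Cover π z
  perf : commutator ↥Cg = ⊤
  base : IsBase E B
  sub : A ≤ Cg
  hA : ∀ x : ↥Cg, (x : G) ∈ A ↔ π x ∈ Subgroup.closure B
  move : ∀ x ∈ A, IsConj (z : G) x → ∃ n ∈ Subgroup.normalizer (A : Set G), n * (z : G) * n⁻¹ = x

variable {Cg : Subgroup G} {E : Set Q} {π : ↥Cg →* Q} {z : ↥Cg} {B : Set Q} {A : Subgroup G}
variable {F : Type} [Field F] [Fintype F]
variable (S : Sys E F) (h : Frame E π z B A) {L : Q → ↥Cg} (hL : Sect E π L)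

open scoped Classical in
/-- how many of the two lifts over the image of `u` are conjugate to the central involution -/
noncomputable def cnt (z : ↥Cg) (u : ↥Cg) : ℕ :=
  (if IsConj (z : G) (u : G) then 1 else 0) + (if IsConj (z : G) ((z * u : ↥Cg) : G) then 1 else 0)

theorem cnt_le (u : ↥Cg) : cnt z u ≤ 2 := by
  unfold cnt; split_ifs <;> omega

theorem cnt_zero {u : ↥Cg} (hu : cnt z u = 0) :
    ¬ IsConj (z : G) (u : G) ∧ ¬ IsConj (z : G) ((z * u : ↥Cg) : G) := by
  unfold cnt at hu; split_ifs at hu with h1 h2 <;> simp_all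

theorem cnt_one {u : ↥Cg} (hu : cnt z u = 1) :
    IsConj (z : G) (u : G) ↔ ¬ IsConj (z : G) ((z * u : ↥Cg) : G) := by
  unfold cnt at hu; split_ifs at hu with h1 h2 <;> simp_all

theorem cnt_two {u : ↥Cg} (hu : cnt z u = 2) :
    IsConj (z : G) (u : G) ∧ IsConj (z : G) ((z * u : ↥Cg) : G) := by
  unfold cnt at hu; split_ifs at hu with h1 h2 <;> simp_all

theorem isConj_conj_iff (Y u : ↥Cg) :
    IsConj (z : G) ((Y * u * Y⁻¹ : ↥Cg) : G) ↔ IsConj (z : G) (u : G) := by
  have hc : IsConj (u : G) ((Y * u * Y⁻¹ : ↥Cg) : G) := isConj_iff.mpr ⟨(Y : G), by simp⟩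
  exact ⟨fun h => h.trans hc.symm, fun h => h.trans hc⟩

include h in
theorem cnt_conj {u v : ↥Cg} (huv : IsConj (π u) (π v)) : cnt z u = cnt z v := by
  classical
  obtain ⟨g, hg⟩ := isConj_iff.mp huv
  obtain ⟨Y, rfl⟩ := h.cover.surj g
  have hz : Y * (z * u) * Y⁻¹ = z * (Y * u * Y⁻¹) := by
    rw [← mul_assoc Y z u, ← h.cover.central Y]; group
  have h1 : cnt z u = cnt z (Y * u * Y⁻¹) := by
    simp only [cnt, isConj_conj_iff, ← hz]
  rcases h.cover.eq_or (Y * u * Y⁻¹) v (by rw [map_mul, map_mul, map_inv, hg]) with e | e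
  · rw [h1, e]
  · rw [h1, e]
    simp only [cnt]
    rw [← mul_assoc z z, h.cover.sq, one_mul, add_comm]

include h in
theorem mem_conjIn {u : ↥Cg} :
    (u : G) ∈ conjIn A (z : G) ↔ π u ∈ Subgroup.closure B ∧ IsConj (z : G) (u : G) := by
  rw [← h.hA]; rfl

include h in
theorem not_isConj_one : ¬ IsConj (z : G) (((1 : ↥Cg) : G)) := fun hc =>
  h.cover.ne (Subtype.ext (isConj_one_left.mp hc))

include h in
theorem self_mem : (z : G) ∈ conjIn A (z : G) :=
  (mem_conjIn h).mpr ⟨by rw [h.cover.one]; exact one_mem _, IsConj.refl _⟩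

include h in
/-- `n` permutes the conjugates inside `A` -/
theorem conj_mem_iff {n : G} (hn : n ∈ Subgroup.normalizer (A : Set G)) (x : G) :
    n * x * n⁻¹ ∈ conjIn A (z : G) ↔ x ∈ conjIn A (z : G) := by
  have hc : IsConj x (n * x * n⁻¹) := isConj_iff.mpr ⟨n, rfl⟩
  exact ⟨fun hx => ⟨(Subgroup.mem_normalizer_iff.mp hn x).mpr hx.1, hx.2.trans hc.symm⟩,
    fun hx => ⟨(Subgroup.mem_normalizer_iff.mp hn x).mp hx.1, hx.2.trans hc⟩⟩

include h in
theorem lift_mem {e : Q} (he : e ∈ B) {u : ↥Cg} (hu : π u = e) : π u ∈ Subgroup.closure B :=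
  hu ▸ Subgroup.subset_closure he

include S h in
/-- the lifts over the group generated by a base -/
theorem elem_cases (hL : Sect E π L) {y : G} (hy : y ∈ A) :
    ∃ u : ↥Cg, (u : G) = y ∧ (u = 1 ∨ u = z ∨ (∃ e ∈ B, u = L e ∨ u = z * L e) ∨
      (∃ e ∈ B, ∃ f ∈ B, e ≠ f ∧ (u = L e * L f ∨ u = z * (L e * L f))) ∨ π u ∈ part E B 3) := by
  refine ⟨⟨y, h.sub hy⟩, rfl, ?_⟩
  generalize hu : (⟨y, h.sub hy⟩ : ↥Cg) = u
  have hW : π u ∈ Subgroup.closure B := (h.hA u).mp (by rw [← hu]; exact hy)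
  rcases base_elem S h.base hW with e1 | e1 | ⟨e, he, f, hf, hne, e1⟩ | ⟨e, he, f, hf, g, hg, n1, n2, n3, e1⟩
  · rcases h.cover.ker u e1 with e2 | e2
    · exact Or.inl e2
    · exact Or.inr (Or.inl e2)
  · exact Or.inr (Or.inr (Or.inl ⟨π u, e1, h.cover.eq_or _ u (hL.proj _ (h.base.sub e1)).symm⟩))
  · exact Or.inr (Or.inr (Or.inr (Or.inl ⟨e, he, f, hf, hne, h.cover.eq_or _ u (by
      rw [e1, map_mul, hL.proj _ (h.base.sub he), hL.proj _ (h.base.sub hf)])⟩)))
  · exact Or.inr (Or.inr (Or.inr (Or.inr ⟨hW, e1 ▸ prod_three h.base he hf hg n1 n2 n3⟩)))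

include h in
theorem ncard_fibres {W : Set Q} {k : ℕ} (hk : ∀ u : ↥Cg, π u ∈ W → cnt z u = k) :
    {u : ↥Cg | π u ∈ W ∧ IsConj (z : G) (u : G)}.ncard = k * W.ncard := by
  classical
  let := Fintype.ofFinite ↥Cg
  let := Fintype.ofFinite Q
  have hf := Finset.card_eq_sum_card_fiberwise (f := π)
    (s := (Finset.univ : Finset ↥Cg).filter fun x => π x ∈ W ∧ IsConj (z : G) (x : G))
    (t := W.toFinset) (fun x hx => by simpa using (Finset.mem_filter.mp hx).2.1)
  rw [Finset.sum_const_nat (m := k)] at hf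
  · rw [Set.ncard_eq_toFinset_card', Set.ncard_eq_toFinset_card', mul_comm, ← hf]
    congr 1
    ext x; simp
  · intro w hw
    obtain ⟨u, rfl⟩ := h.cover.surj w
    rw [Set.mem_toFinset] at hw
    rw [show (((Finset.univ : Finset ↥Cg).filter fun x => π x ∈ W ∧ IsConj (z : G) (x : G)).filter
      fun x => π x = π u) = ({u, z * u} : Finset ↥Cg).filter fun x : ↥Cg => IsConj (z : G) (x : G) from ?_, ← hk u hw]
    · have hne : u ≠ z * u := fun e => h.cover.ne (mul_eq_right.mp e.symm)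
      unfold cnt
      rw [Finset.filter_insert, Finset.filter_singleton]
      split_ifs <;> simp_all
    ext x
    simp only [Finset.mem_filter, Finset.mem_univ, true_and, Finset.mem_insert, Finset.mem_singleton]
    refine ⟨fun hx => ⟨h.cover.eq_or u x hx.2, hx.1.2⟩, fun hx => ?_⟩
    have he : π x = π u := by
      rcases hx.1 with e | e <;> rw [e]
      rw [map_mul, h.cover.one, one_mul]
    exact ⟨⟨he ▸ hw, hx.2⟩, he⟩

include S h in
theorem ncard_conjIn {a b c : ℕ} (h1 : ∀ u : ↥Cg, π u ∈ part E B 1 → cnt z u = a)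
    (h2 : ∀ u : ↥Cg, π u ∈ part E B 2 → cnt z u = b) (h3 : ∀ u : ↥Cg, π u ∈ part E B 3 → cnt z u = c) :
    (conjIn A (z : G)).ncard = 1 + 22 * a + 231 * b + 770 * c := by
  let K : Set Q → Set ↥Cg := fun W => {u | π u ∈ W ∧ IsConj (z : G) (u : G)}
  have hset : conjIn A (z : G) = Subtype.val '' (K {1} ∪ (K (part E B 1) ∪ (K (part E B 2) ∪ K (part E B 3)))) := by
    ext y
    constructor
    · intro hy
      obtain ⟨hW, hp⟩ := (mem_conjIn h (u := ⟨y, h.sub hy.1⟩)).mp hy
      refine ⟨⟨y, h.sub hy.1⟩, ?_, rfl⟩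
      rcases part_cases S h.base hW with e | e | e | e
      · exact Or.inl ⟨e, hp⟩
      · exact Or.inr (Or.inl ⟨e, hp⟩)
      · exact Or.inr (Or.inr (Or.inl ⟨e, hp⟩))
      · exact Or.inr (Or.inr (Or.inr ⟨e, hp⟩))
    · rintro ⟨u, hu, rfl⟩
      refine (mem_conjIn h).mpr ?_
      rcases hu with ⟨e, hp⟩ | ⟨e, hp⟩ | ⟨e, hp⟩ | ⟨e, hp⟩
      · exact ⟨(Set.mem_singleton_iff.mp e) ▸ one_mem _, hp⟩
      all_goals exact ⟨e.1, hp⟩
  have hz1 : cnt z (1 : ↥Cg) = 1 := by
    classical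
    simp only [cnt, not_isConj_one h, mul_one, IsConj.refl, if_true, if_false]
  have h0 : ∀ u : ↥Cg, π u ∈ ({1} : Set Q) → cnt z u = 1 := fun u hu => by
    rw [← hz1]
    refine cnt_conj h ?_
    rw [map_one, Set.mem_singleton_iff.mp hu]
  have hne : ∀ m, 1 ≤ m → m ≤ 3 → Disjoint (K {1}) (K (part E B m)) := fun m p q =>
    Set.disjoint_left.mpr fun u hu hu' => by
      have := order_two S p q hu'.1.2
      rw [Set.mem_singleton_iff.mp hu.1, orderOf_one] at this
      norm_num at this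
  have hdis : ∀ m n, 1 ≤ m → m ≤ 3 → 1 ≤ n → n ≤ 3 → m ≠ n → Disjoint (K (part E B m)) (K (part E B n)) :=
    fun m n p q r s hmn => Set.disjoint_left.mpr fun u hu hu' => hmn (m_unique S p q r s hu.1.2 hu'.1.2)
  rw [hset, Set.ncard_image_of_injective _ Subtype.val_injective,
    Set.ncard_union_eq ((hne 1 le_rfl (by norm_num)).union_right ((hne 2 (by norm_num) (by norm_num)).union_right
      (hne 3 (by norm_num) le_rfl))) (Set.toFinite _) (Set.toFinite _),
    Set.ncard_union_eq ((hdis 1 2 le_rfl (by norm_num) (by norm_num) (by norm_num) (by norm_num)).union_right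
      (hdis 1 3 le_rfl (by norm_num) (by norm_num) le_rfl (by norm_num))) (Set.toFinite _) (Set.toFinite _),
    Set.ncard_union_eq (hdis 2 3 (by norm_num) (by norm_num) (by norm_num) le_rfl (by norm_num)) (Set.toFinite _)
      (Set.toFinite _),
    ncard_fibres h h0, ncard_fibres h h1, ncard_fibres h h2, ncard_fibres h h3, Set.ncard_singleton,
    part_one S h.base, h.base.card, ncard_part_two S h.base, ncard_part_three S h.base]
  ring

include S h hL in
/-- the two lifts over a product of three are fused -/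
theorem cnt_three {u : ↥Cg} (hu : π u ∈ part E B 3) : cnt z u ≠ 1 := by
  intro hc
  rcases base_elem S h.base hu.1 with e1 | e1 | ⟨e, he, f, hf, hne, e1⟩ | ⟨e, he, f, hf, g, hg, n1, n2, n3, e1⟩
  · have := order_two S (by norm_num) le_rfl hu.2
    rw [e1, orderOf_one] at this
    norm_num at this
  · exact absurd (m_unique S (by norm_num) le_rfl le_rfl (by norm_num) hu.2 (prod_one h.base e1)) (by norm_num)
  · exact absurd (m_unique S (by norm_num) le_rfl (by norm_num) (by norm_num) hu.2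
      (e1 ▸ prod_two h.base he hf hne)) (by norm_num)
  · have hv : π (L e * (L f * L g)) = π u := by
      rw [e1, map_mul, map_mul, hL.proj _ (h.base.sub he), hL.proj _ (h.base.sub hf), hL.proj _ (h.base.sub hg)]
    rw [← cnt_conj h (u := L e * (L f * L g)) (by rw [hv])] at hc
    obtain ⟨Y, hY⟩ := fused_three S h.cover hL h.perf (h.base.tri he hf hg n1 n2 n3)
    have := cnt_one hc
    rw [← hY, isConj_conj_iff] at this
    exact iff_not_self this

section Cases

include S h hL in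
/-- no fusion with both lifts of a transposition alone -/
theorem ne_two_zero_zero (h1 : ∀ e ∈ B, cnt z (L e) = 2)
    (h2 : ∀ e ∈ B, ∀ f ∈ B, e ≠ f → cnt z (L e * L f) = 0) (h3 : ∀ u : ↥Cg, π u ∈ part E B 3 → cnt z u = 0) :
    False := by
  obtain ⟨e, f, he, hf, hne⟩ := (Set.one_lt_ncard_iff (Set.toFinite B)).mp (by rw [h.base.card]; norm_num)
  have hW : ∀ x ∈ B, π (L x) ∈ Subgroup.closure B := fun x hx => lift_mem h hx (hL.proj x (h.base.sub hx))
  have hx : (L e : G) ∈ conjIn A (z : G) := (mem_conjIn h).mpr ⟨hW e he, (cnt_two (h1 e he)).1⟩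
  obtain ⟨n, hn, hnx⟩ := h.move _ hx.1 hx.2
  have key : ∀ y ∈ conjIn A (z : G), y ≠ (z : G) → (z : G) * y ∈ conjIn A (z : G) := by
    intro y hy hyz
    obtain ⟨u, rfl, hu⟩ := elem_cases S h hL hy.1
    have hp := ((mem_conjIn h).mp hy).2
    rcases hu with rfl | rfl | ⟨a, ha, rfl | rfl⟩ | ⟨a, ha, b, hb, hab, rfl | rfl⟩ | hu
    · exact absurd hp (not_isConj_one h)
    · exact absurd rfl hyz
    · rw [← Subgroup.coe_mul, mem_conjIn h, map_mul, h.cover.one, one_mul]
      exact ⟨hW a ha, (cnt_two (h1 a ha)).2⟩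
    · rw [← Subgroup.coe_mul, mem_conjIn h, ← mul_assoc, h.cover.sq, one_mul]
      exact ⟨hW a ha, (cnt_two (h1 a ha)).1⟩
    · exact absurd hp (cnt_zero (h2 a ha b hb hab)).1
    · exact absurd hp (cnt_zero (h2 a ha b hb hab)).2
    · exact absurd hp (cnt_zero (h3 u hu)).1
  set y := n⁻¹ * (L f : G) * n with hydef
  have hny : n * y * n⁻¹ = (L f : G) := by rw [hydef]; group
  have hy : y ∈ conjIn A (z : G) := by
    rw [← conj_mem_iff h hn, hny]
    exact (mem_conjIn h).mpr ⟨hW f hf, (cnt_two (h1 f hf)).1⟩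
  have hyz : y ≠ (z : G) := fun e' => hne (by
    have hh : L e = L f := Subtype.ext (by rw [← hny, e', hnx])
    rw [← hL.proj e (h.base.sub he), hh, hL.proj f (h.base.sub hf)])
  have := (conj_mem_iff h hn _).mpr (key y hy hyz)
  rw [show n * ((z : G) * y) * n⁻¹ = n * (z : G) * n⁻¹ * (n * y * n⁻¹) by group, hnx, hny, ← Subgroup.coe_mul,
    mem_conjIn h] at this
  exact (cnt_zero (h2 e he f hf hne)).1 this.2

include S h hL in
/-- no fusion with one lift of a transposition and one of a pair -/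
theorem ne_one_one_zero (h1 : ∀ e ∈ B, cnt z (L e) = 1) (hLX : ∀ e ∈ B, IsConj (z : G) (L e : G))
    (h2 : ∀ e ∈ B, ∀ f ∈ B, e ≠ f → cnt z (L e * L f) = 1) (h3 : ∀ u : ↥Cg, π u ∈ part E B 3 → cnt z u = 0) :
    False := by
  have hz2 : ∀ v : ↥Cg, z * (z * v) = v := fun v => by rw [← mul_assoc, h.cover.sq, one_mul]
  have hW : ∀ x ∈ B, π (L x) ∈ Subgroup.closure B := fun x hx => lift_mem h hx (hL.proj x (h.base.sub hx))
  have hW2 : ∀ x ∈ B, ∀ y ∈ B, π (L x * L y) ∈ Subgroup.closure B := fun x hx y hy => by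
    rw [map_mul]; exact mul_mem (hW x hx) (hW y hy)
  have hfree : ∀ x ∈ conjIn A (z : G), ∀ y ∈ conjIn A (z : G), x * y ∉ conjIn A (z : G) := by
    intro x hx y hy hxy
    obtain ⟨n, hn, hnx⟩ := h.move x hx.1 hx.2
    set w := n⁻¹ * y * n with hw
    have hnw : n * w * n⁻¹ = y := by rw [hw]; group
    have hwX : w ∈ conjIn A (z : G) := by rw [← conj_mem_iff h hn, hnw]; exact hy
    have hzw : (z : G) * w ∈ conjIn A (z : G) := by
      rw [← conj_mem_iff h hn, show n * ((z : G) * w) * n⁻¹ = n * (z : G) * n⁻¹ * (n * w * n⁻¹) by group, hnx, hnw]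
      exact hxy
    obtain ⟨u, hue, hu⟩ := elem_cases S h hL hwX.1
    rw [← hue] at hwX hzw
    rw [← Subgroup.coe_mul] at hzw
    have hp := ((mem_conjIn h).mp hwX).2
    have hpz := ((mem_conjIn h).mp hzw).2
    rcases hu with rfl | rfl | ⟨a, ha, rfl | rfl⟩ | ⟨a, ha, b, hb, hab, rfl | rfl⟩ | hu
    · exact not_isConj_one h hp
    · rw [h.cover.sq] at hpz; exact not_isConj_one h hpz
    · exact (cnt_one (h1 a ha)).mp hp hpz
    · rw [hz2] at hpz; exact (cnt_one (h1 a ha)).mp hpz hp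
    · exact (cnt_one (h2 a ha b hb hab)).mp hp hpz
    · rw [hz2] at hpz; exact (cnt_one (h2 a ha b hb hab)).mp hpz hp
    · exact (cnt_zero (h3 u hu)).1 hp
  have hpair : ∀ a ∈ B, ∀ b ∈ B, a ≠ b → IsConj (z : G) ((z * (L a * L b) : ↥Cg) : G) := by
    intro a ha b hb hab
    by_contra hc
    refine hfree _ ((mem_conjIn h).mpr ⟨hW a ha, hLX a ha⟩) _ ((mem_conjIn h).mpr ⟨hW b hb, hLX b hb⟩) ?_
    rw [← Subgroup.coe_mul, mem_conjIn h]
    exact ⟨hW2 a ha b hb, (cnt_one (h2 a ha b hb hab)).mpr hc⟩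
  obtain ⟨a, ha⟩ : B.Nonempty := Set.nonempty_of_ncard_ne_zero (by rw [h.base.card]; norm_num)
  obtain ⟨b, c, -, hb, hc, -, n1, n2, n3, -⟩ := h.base.exists_fourth S ha
  obtain ⟨p, q, r, hpqr, hset, hnd, hprod, -⟩ := six_prod S h.cover hL h.perf (h.base.tri ha hb hc n1 n2 n3)
  have hB6 : ∀ x ∈ ({a, b, c, p, q, r} : Set Q), x ∈ B := fun x hx => h.base.closed S ha hb hc (hset ▸ hx)
  have hp : p ∈ B := hB6 p (by simp)
  have hq : q ∈ B := hB6 q (by simp)
  have hr : r ∈ B := hB6 r (by simp)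
  simp only [List.nodup_cons, List.mem_cons, List.not_mem_nil, or_false, not_or, List.nodup_nil, and_true,
    not_false_eq_true] at hnd
  have hWz : ∀ x ∈ B, ∀ y ∈ B, π (z * (L x * L y)) ∈ Subgroup.closure B := fun x hx y hy => by
    rw [map_mul, h.cover.one, one_mul]; exact hW2 x hx y hy
  refine hfree _ ((mem_conjIn h).mpr ⟨hWz a ha b hb, hpair a ha b hb n1⟩) _
    ((mem_conjIn h).mpr ⟨hWz c hc p hp, hpair c hc p hp hnd.2.2.1.1⟩) ?_
  rw [← Subgroup.coe_mul, mem_conjIn h]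
  have e : z * (L a * L b) * (z * (L c * L p)) = z * (L q * L r) := by
    rw [(show Commute (L a * L b) z from (h.cover.central _).symm).mul_mul_mul_comm, h.cover.sq, one_mul]
    calc L a * L b * (L c * L p) = L a * (L b * L c) * L p := by group
      _ = z * (L p * (L q * L r) * L p) := by rw [hprod, mul_assoc]
      _ = z * (L q * L r * (L p * L p)) := by
        rw [((hL.comm _ hpqr.ma _ hpqr.mb hpqr.cab).mul_right (hL.comm _ hpqr.ma _ hpqr.mc hpqr.cac)).eq,
          mul_assoc (L q * L r)]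
      _ = _ := by rw [hL.sq _ hpqr.ma, mul_one]
  rw [e]
  exact ⟨hWz q hq r hr, hpair q hq r hr hpqr.nbc⟩

include S h hL in
/-- no fusion with one lift of a transposition and all further lifts -/
theorem ne_one_two_two (h1 : ∀ e ∈ B, cnt z (L e) = 1) (hLX : ∀ e ∈ B, IsConj (z : G) (L e : G))
    (h2 : ∀ e ∈ B, ∀ f ∈ B, e ≠ f → cnt z (L e * L f) = 2) (h3 : ∀ u : ↥Cg, π u ∈ part E B 3 → cnt z u = 2) :
    False := by
  have hz2 : ∀ v : ↥Cg, z * (z * v) = v := fun v => by rw [← mul_assoc, h.cover.sq, one_mul]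
  obtain ⟨e, f, he, hf, hne⟩ := (Set.one_lt_ncard_iff (Set.toFinite B)).mp (by rw [h.base.card]; norm_num)
  have hW : ∀ x ∈ B, π (L x) ∈ Subgroup.closure B := fun x hx => lift_mem h hx (hL.proj x (h.base.sub hx))
  have hzn : ∀ x ∈ B, ¬ IsConj (z : G) ((z * L x : ↥Cg) : G) := fun x hx => (cnt_one (h1 x hx)).mp (hLX x hx)
  have hx : ((L e * L f : ↥Cg) : G) ∈ conjIn A (z : G) := (mem_conjIn h).mpr
    ⟨by rw [map_mul]; exact mul_mem (hW e he) (hW f hf), (cnt_two (h2 e he f hf hne)).1⟩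
  obtain ⟨n, hn, hnx⟩ := h.move _ hx.1 hx.2
  have hWz : π (z * L e) ∈ Subgroup.closure B := by rw [map_mul, h.cover.one, one_mul]; exact hW e he
  set y := n⁻¹ * ((z * L e : ↥Cg) : G) * n with hydef
  have hny : n * y * n⁻¹ = ((z * L e : ↥Cg) : G) := by rw [hydef]; group
  have hyA : y ∈ A := by
    rw [Subgroup.mem_normalizer_iff.mp hn y, hny, h.hA]
    exact hWz
  have hyX : y ∉ conjIn A (z : G) := by
    rw [← conj_mem_iff h hn, hny, mem_conjIn h]
    exact fun hh => hzn e he hh.2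
  have hzy : (z : G) * y ∉ conjIn A (z : G) := by
    rw [← conj_mem_iff h hn, show n * ((z : G) * y) * n⁻¹ = n * (z : G) * n⁻¹ * (n * y * n⁻¹) by group, hnx, hny,
      ← Subgroup.coe_mul, mem_conjIn h]
    refine fun hh => hzn f hf ?_
    have ee : L e * L f * (z * L e) = z * L f := by
      rw [← mul_assoc, ← h.cover.central, mul_assoc, (hL.comm e (h.base.sub he) f (h.base.sub hf)
        (h.base.clique e he f hf)).eq, mul_assoc, hL.sq e (h.base.sub he), mul_one]
    exact ee ▸ hh.2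
  obtain ⟨u, hue, hu⟩ := elem_cases S h hL hyA
  rw [← hue] at hyA hyX hzy
  rw [← Subgroup.coe_mul] at hzy
  have hWu := (h.hA u).mp hyA
  have hWzu : π (z * u) ∈ Subgroup.closure B := by rwa [map_mul, h.cover.one, one_mul]
  rw [mem_conjIn h] at hyX hzy
  rcases hu with rfl | rfl | ⟨a, ha, rfl | rfl⟩ | ⟨a, ha, b, hb, hab, rfl | rfl⟩ | hu
  · exact hzy ⟨hWzu, by rw [mul_one]⟩
  · exact hyX ⟨hWu, IsConj.refl _⟩
  · exact hyX ⟨hWu, hLX a ha⟩
  · exact hzy ⟨hWzu, by rw [hz2]; exact hLX a ha⟩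
  · exact hyX ⟨hWu, (cnt_two (h2 a ha b hb hab)).1⟩
  · exact hyX ⟨hWu, (cnt_two (h2 a ha b hb hab)).2⟩
  · exact hyX ⟨hWu, (cnt_two (h3 u hu)).1⟩

include S h hL in
/-- not every involution of the lift is conjugate to the central one -/
theorem ne_two_two_two (h1 : ∀ u : ↥Cg, π u ∈ part E B 1 → cnt z u = 2)
    (h2 : ∀ u : ↥Cg, π u ∈ part E B 2 → cnt z u = 2) (h3 : ∀ u : ↥Cg, π u ∈ part E B 3 → cnt z u = 2) :
    False := by
  classical
  have hall : ∀ y ∈ A, y ≠ 1 → y ∈ conjIn A (z : G) := by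
    intro y hy hy1
    refine ⟨hy, ?_⟩
    have hW := (h.hA ⟨y, h.sub hy⟩).mp hy
    rcases part_cases S h.base hW with e | e | e | e
    · rcases h.cover.ker _ e with e' | e'
      · exact absurd (congrArg Subtype.val e') hy1
      · rw [show y = (z : G) from congrArg Subtype.val e']
    · exact (cnt_two (h1 _ e)).1
    · exact (cnt_two (h2 _ e)).1
    · exact (cnt_two (h3 _ e)).1
  have hcomm : ∀ x ∈ A, ∀ y ∈ A, Commute x y := by
    intro x hx y hy
    obtain ⟨u, rfl, -⟩ := elem_cases S h hL hx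
    obtain ⟨v, rfl, -⟩ := elem_cases S h hL hy
    refine Commute.map ?_ Cg.subtype
    have key : ∀ w : ↥Cg, π w ∈ Subgroup.closure B → ∃ k ∈ Subgroup.closure (L '' B), w = k ∨ w = z * k := by
      intro w hw
      rcases base_elem S h.base hw with e | e | ⟨a, ha, b, hb, -, e⟩ | ⟨a, ha, b, hb, c, hc, -, -, -, e⟩
      · exact ⟨1, one_mem _, by rw [mul_one]; exact h.cover.ker _ e⟩
      · exact ⟨_, Subgroup.subset_closure ⟨_, e, rfl⟩, h.cover.eq_or _ w (hL.proj _ (h.base.sub e)).symm⟩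
      · exact ⟨_, mul_mem (Subgroup.subset_closure ⟨a, ha, rfl⟩) (Subgroup.subset_closure ⟨b, hb, rfl⟩),
          h.cover.eq_or _ w (by rw [e, map_mul, hL.proj _ (h.base.sub ha), hL.proj _ (h.base.sub hb)])⟩
      · exact ⟨_, mul_mem (Subgroup.subset_closure ⟨a, ha, rfl⟩)
          (mul_mem (Subgroup.subset_closure ⟨b, hb, rfl⟩) (Subgroup.subset_closure ⟨c, hc, rfl⟩)),
          h.cover.eq_or _ w (by rw [e, map_mul, map_mul, hL.proj _ (h.base.sub ha), hL.proj _ (h.base.sub hb),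
            hL.proj _ (h.base.sub hc)])⟩
    obtain ⟨k, hk, hku⟩ := key u ((h.hA u).mp hx)
    obtain ⟨l, hl, hlv⟩ := key v ((h.hA v).mp hy)
    have hkl : Commute k l := closure_lifts_comm hL h.base.sub h.base.clique k hk l hl
    have hz : ∀ w, Commute z w := h.cover.central
    rcases hku with rfl | rfl <;> rcases hlv with rfl | rfl
    · exact hkl
    · exact (hz _).symm.mul_right hkl
    · exact (hz _).mul_left hkl
    · exact ((Commute.refl z).mul_right (hz _)).mul_left ((hz _).symm.mul_right hkl)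
  have hsq : ∀ x ∈ conjIn A (z : G), x * x = 1 := by
    intro x hx
    obtain ⟨g, rfl⟩ := isConj_iff.mp hx.2
    rw [show g * (z : G) * g⁻¹ * (g * (z : G) * g⁻¹) = g * ((z * z : ↥Cg) : G) * g⁻¹ by push_cast; group,
      h.cover.sq, OneMemClass.coe_one, mul_one, mul_inv_cancel]
  -- adjacency
  let R : G → G → Prop := fun x y => ∃ g : G, orderOf g = 11 ∧ Commute g x ∧ Commute g y
  have hRd : {y | y ∈ conjIn A (z : G) ∧ y ≠ (z : G) ∧ R (z : G) y} = Subtype.val '' {u : ↥Cg | π u ∈ B} := by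
    ext y
    constructor
    · rintro ⟨hy, hyz, g, hg, hgz, hgy⟩
      obtain ⟨u, rfl, hu⟩ := elem_cases S h hL hy.1
      refine ⟨u, ?_, rfl⟩
      let g' : ↥Cg := ⟨g, (h.mem g).mpr hgz⟩
      have hg' : orderOf g' = 11 := by rw [← Subgroup.orderOf_coe]; exact hg
      have hgu : Commute g' u := Subtype.ext hgy.eq
      rcases hu with rfl | rfl | ⟨a, ha, rfl | rfl⟩ | ⟨a, ha, b, hb, hab, rfl | rfl⟩ | hu
      · exact absurd hy.2 (not_isConj_one h)
      · exact absurd rfl hyz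
      · show π _ ∈ B; rw [hL.proj a (h.base.sub ha)]; exact ha
      · show π _ ∈ B; rw [map_mul, h.cover.one, one_mul, hL.proj a (h.base.sub ha)]; exact ha
      · exact absurd hgu (no_eleven_two S h.cover (h.base.sub ha) ⟨h.base.sub hb, Ne.symm hab, h.base.clique a ha b hb⟩
          (by rw [map_mul, hL.proj a (h.base.sub ha), hL.proj b (h.base.sub hb)]) hg')
      · exact absurd hgu (no_eleven_two S h.cover (h.base.sub ha) ⟨h.base.sub hb, Ne.symm hab, h.base.clique a ha b hb⟩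
          (by rw [map_mul, map_mul, h.cover.one, one_mul, hL.proj a (h.base.sub ha), hL.proj b (h.base.sub hb)]) hg')
      · exact absurd hgu (no_eleven_three S h.cover hu.2 hg')
    · rintro ⟨u, hu, rfl⟩
      have hu1 : π u ≠ 1 := ne_one S.hD.1 (h.base.sub hu)
      refine ⟨hall _ ((h.hA u).mpr (Subgroup.subset_closure hu)) (fun e => hu1 (by
          rw [show u = 1 from Subtype.ext e, map_one])),
        fun e => hu1 (by rw [show u = z from Subtype.ext e, h.cover.one]), ?_⟩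
      obtain ⟨g, hg, hgc⟩ := exists_eleven S h.cover hL (h.base.sub hu)
      refine ⟨g, by rw [Subgroup.orderOf_coe]; exact hg, (h.mem g).mp g.2, ?_⟩
      rcases h.cover.eq_or (L (π u)) u (hL.proj _ (h.base.sub hu)).symm with e | e <;> rw [e]
      · exact hgc.map Cg.subtype
      · exact ((show Commute g z from (h.cover.central g).symm).mul_right hgc).map Cg.subtype
  have h44 : {y | y ∈ conjIn A (z : G) ∧ y ≠ (z : G) ∧ R (z : G) y}.ncard = 44 := by
    rw [hRd, Set.ncard_image_of_injective _ Subtype.val_injective, h.cover.ncard_preimage, h.base.card]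
  have hdeg : ∀ x ∈ conjIn A (z : G), {y | y ∈ conjIn A (z : G) ∧ y ≠ x ∧ R x y}.ncard = 44 := by
    intro x hx
    obtain ⟨n, hn, rfl⟩ := h.move x hx.1 hx.2
    have hRiff : ∀ m a b : G, R a b → R (m * a * m⁻¹) (m * b * m⁻¹) := fun m a b ⟨g, o, ca, cb⟩ =>
      ⟨MulAut.conj m g, by rw [← o]; exact orderOf_injective (MulAut.conj m).toMonoidHom (MulAut.conj m).injective g,
        (commute_conj_iff m g a).mpr ca, (commute_conj_iff m g b).mpr cb⟩
    rw [← h44, ← Set.ncard_image_of_injective {y | y ∈ conjIn A (z : G) ∧ y ≠ (z : G) ∧ R (z : G) y}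
      (MulAut.conj n).injective]
    congr 1
    ext y
    constructor
    · rintro ⟨hy, hne, hR⟩
      refine ⟨n⁻¹ * y * n, ⟨?_, ?_, ?_⟩, by simp only [MulAut.conj_apply]; group⟩
      · rw [← conj_mem_iff h hn, show n * (n⁻¹ * y * n) * n⁻¹ = y by group]; exact hy
      · exact fun e => hne (by rw [← e]; group)
      · have := hRiff n⁻¹ _ _ hR
        rwa [inv_inv, show n⁻¹ * (n * (z : G) * n⁻¹) * n = (z : G) by group] at this
    · rintro ⟨w, ⟨hw, hwne, hwR⟩, rfl⟩
      simp only [MulAut.conj_apply]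
      exact ⟨(conj_mem_iff h hn w).mpr hw, fun e => hwne (mul_left_cancel (mul_right_cancel e)), hRiff n _ _ hwR⟩
  -- triangles
  let := Fintype.ofFinite G
  let P := {q : G × G // q.1 ∈ conjIn A (z : G) ∧ q.2 ∈ conjIn A (z : G) ∧ q.2 ≠ q.1 ∧ R q.1 q.2}
  have hP : Fintype.card P = (conjIn A (z : G)).ncard * 44 := by
    let e : P ≃ Σ x : ↥(conjIn A (z : G)), ↥{y | y ∈ conjIn A (z : G) ∧ y ≠ (x : G) ∧ R x y} :=
      { toFun := fun q => ⟨⟨q.1.1, q.2.1⟩, q.1.2, q.2.2⟩
        invFun := fun s => ⟨(s.1.1, s.2.1), s.1.2, s.2.2⟩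
        left_inv := fun q => rfl
        right_inv := fun s => rfl }
    rw [Fintype.card_congr e, Fintype.card_sigma, Finset.sum_const_nat (m := 44) (fun x _ => ?_), Finset.card_univ,
      ← Nat.card_eq_fintype_card, Nat.card_coe_set_eq]
    rw [← Nat.card_eq_fintype_card, Nat.card_coe_set_eq]
    exact hdeg x x.2
  have hone : ∀ x ∈ conjIn A (z : G), x ≠ 1 := fun x hx e =>
    not_isConj_one h (e ▸ hx.2 : IsConj (z : G) 1)
  let σ : Function.End P := fun q => ⟨(q.1.2, q.1.1 * q.1.2), by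
    obtain ⟨⟨x, y⟩, hx, hy, hne, g, hg, cx, cy⟩ := q
    refine ⟨hy, hall _ (mul_mem hx.1 hy.1) (fun e => hne ?_), fun e => hone x hx (mul_eq_right.mp e),
      g, hg, cy, cx.mul_right cy⟩
    calc y = x * x * y := by rw [hsq x hx, one_mul]
      _ = x := by rw [mul_assoc, show x * y = 1 from e, mul_one]⟩
  have hσ : σ ^ (3 ^ 1) = 1 := by
    funext q
    obtain ⟨⟨x, y⟩, hx, hy, hne, hR⟩ := q
    refine Subtype.ext ?_
    show (σ (σ (σ ⟨(x, y), hx, hy, hne, hR⟩))).1 = (x, y)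
    have e1 : y * (x * y) = x := by rw [(hcomm x hx.1 y hy.1).eq, ← mul_assoc, hsq y hy, one_mul]
    simp only [σ]
    rw [e1, (hcomm x hx.1 y hy.1).eq, mul_assoc, hsq x hx, mul_one]
  haveI : Fact (Nat.Prime 3) := ⟨Nat.prime_three⟩
  have hfix : IsEmpty (Function.fixedPoints σ) := by
    refine ⟨fun ⟨q, hq⟩ => ?_⟩
    exact q.2.2.2.1 (congrArg (fun r : P => r.1.1) hq)
  have hmod := Equiv.Perm.card_fixedPoints_modEq (f := σ) hσ
  have hX : (conjIn A (z : G)).ncard = 2047 := by rw [ncard_conjIn S h h1 h2 h3]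
  rw [Fintype.card_eq_zero_iff.mpr hfix, hP, hX] at hmod
  exact absurd hmod (by decide)

end Cases

end Cfsg.Agent.Lib.FischerMTypes90
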