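import Mathlib
import Cfsg.Agent.Lib.FischerMTypes90.JointFrame

/-!
The pattern with 276 conjugates of the central involution inside the lift of a base is impossible:
in one sign the stars would orient the complete graph on 24 points regularly, in the other the
neighbourhoods differ.
-/

set_option autoImplicit false
set_option linter.style.haveILetI false
set_option linter.unusedSectionVars false

namespace Cfsg.Agent.Lib.FischerMTypes90

open Cfsg.Agent.Lib.FischerMTypes.Basic Cfsg.Agent.Lib.FischerMTypes.Primitive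
  Cfsg.Agent.Lib.FischerMTypes.Aut22 Cfsg.Agent.Lib.FischerMTypes.Syl22
  Cfsg.Agent.Lib.FischerMTypes.InvolutionsM22
open Cfsg.Agent.Lib.FischerMTypes.TraceCounts (Sys)

variable {G : Type*} [Group G] [Finite G] {Q : Type*} [Group Q] [Finite Q]
variable {Cg : Subgroup G} {E : Set Q} {π : ↥Cg →* Q} {z : ↥Cg} {B : Set Q} {A : Subgroup G}
variable {F : Type} [Field F] [Fintype F]

/-- the fibre counts two, one, none -/
structure Mixed (E : Set Q) (π : ↥Cg →* Q) (z : ↥Cg) (B : Set Q) (L : Q → ↥Cg) : Prop where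
  one : ∀ e ∈ B, cnt z (L e) = 2
  two : ∀ e ∈ B, ∀ f ∈ B, e ≠ f → cnt z (L e * L f) = 1
  three : ∀ u : ↥Cg, π u ∈ part E B 3 → cnt z u = 0

/-- the star spanned by two adjacent members -/
def star (X : Set G) (u v : G) : Set G :=
  insert u (insert v {w | w ∈ X ∧ u * w ∈ X ∧ v * w ∈ X ∧ w ≠ u * v})

theorem star_comm {X : Set G} {u v : G} (huv : Commute u v) : star X u v = star X v u := by
  ext w
  simp only [star, Set.mem_insert_iff, Set.mem_ofPred_eq, huv.eq]
  tauto

/-- the star of the central involution attached to a class of lifts -/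
def baseStar (z : ↥Cg) (B : Set Q) (L : Q → ↥Cg) : Set G := insert (z : G) ((fun e => (L e : G)) '' B)

variable (S : Sys E F) (h : Frame E π z B A) {L : Q → ↥Cg} (hL : Sect E π L) (hM : Mixed E π z B L)

include h hM in
theorem lift_in {e : Q} (he : e ∈ B) (hL : Sect E π L) :
    (L e : G) ∈ conjIn A (z : G) ∧ ((z * L e : ↥Cg) : G) ∈ conjIn A (z : G) := by
  refine ⟨(mem_conjIn h).mpr ⟨lift_mem h he (hL.proj e (h.base.sub he)), (cnt_two (hM.one e he)).1⟩,
    (mem_conjIn h).mpr ⟨?_, (cnt_two (hM.one e he)).2⟩⟩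
  rw [map_mul, h.cover.one, one_mul]
  exact lift_mem h he (hL.proj e (h.base.sub he))

include S h hL hM in
/-- the neighbours of the central involution -/
theorem near {y : G} (hy : y ∈ conjIn A (z : G)) (hzy : (z : G) * y ∈ conjIn A (z : G)) :
    ∃ e ∈ B, y = (L e : G) ∨ y = ((z * L e : ↥Cg) : G) := by
  obtain ⟨u, rfl, hu⟩ := elem_cases S h hL hy.1
  rw [← Subgroup.coe_mul] at hzy
  have hp := ((mem_conjIn h).mp hy).2
  have hpz := ((mem_conjIn h).mp hzy).2
  rcases hu with rfl | rfl | ⟨a, ha, rfl | rfl⟩ | ⟨a, ha, b, hb, hab, rfl | rfl⟩ | hu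
  · exact absurd hp (not_isConj_one h)
  · rw [h.cover.sq] at hpz; exact absurd hpz (not_isConj_one h)
  · exact ⟨a, ha, Or.inl rfl⟩
  · exact ⟨a, ha, Or.inr rfl⟩
  · exact absurd hpz ((cnt_one (hM.two a ha b hb hab)).mp hp)
  · rw [← mul_assoc, h.cover.sq, one_mul] at hpz
    exact absurd hp ((cnt_one (hM.two a ha b hb hab)).mp hpz)
  · exact absurd hp (cnt_zero (hM.three u hu)).1

include S h hL in
/-- all pairs carry the same sign -/
theorem pair_uniform {a b e f : Q} (ha : a ∈ B) (hb : b ∈ B) (hab : a ≠ b) (he : e ∈ B) (hf : f ∈ B) (hef : e ≠ f)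
    (hp : IsConj (z : G) ((L a * L b : ↥Cg) : G)) : IsConj (z : G) ((L e * L f : ↥Cg) : G) := by
  obtain ⟨g, hg⟩ := isConj_iff.mp (isConj_prod S (by norm_num) (by norm_num) (prod_two h.base ha hb hab)
    (prod_two h.base he hf hef))
  obtain ⟨Y, rfl⟩ := h.cover.surj g
  have hconj := (isConj_conj_iff (z := z) Y _).mpr hp
  rw [show Y * (L a * L b) * Y⁻¹ = Y * L a * Y⁻¹ * (Y * L b * Y⁻¹) by group, hL.conj a (h.base.sub ha),
    hL.conj b (h.base.sub hb)] at hconj
  rcases pair_unique S.hD S.hprim S.hZ (S.hD.2.1 (π Y) a (h.base.sub ha)) (S.hD.2.1 (π Y) b (h.base.sub hb))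
    (h.base.sub he) (h.base.sub hf) (FischerMTypes.StabilizerM22.conj_commute (h.base.clique a ha b hb))
    (h.base.clique e he f hf) (fun e' => hab (mul_left_cancel (mul_right_cancel e'))) hef
    (by rw [← hg]; group) with ⟨h1, h2⟩ | ⟨h1, h2⟩
  · rwa [h1, h2] at hconj
  · rwa [h1, h2, (hL.comm _ (h.base.sub hf) _ (h.base.sub he) (h.base.clique f hf e he)).eq] at hconj

include h hL hM in
theorem three_out {e a b : Q} (he : e ∈ B) (ha : a ∈ B) (hb : b ∈ B) (n1 : e ≠ a) (n2 : e ≠ b) (n3 : a ≠ b)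
    {u v : ↥Cg} (hu : π u = e) (hv : π v = a * b) : ((u : G) * (v : G)) ∉ conjIn A (z : G) := by
  rw [← Subgroup.coe_mul]
  intro hc
  refine (cnt_zero (hM.three (u * v) ⟨((mem_conjIn h).mp hc).1, ?_⟩)).1 ((mem_conjIn h).mp hc).2
  rw [map_mul, hu, hv]
  exact prod_three h.base he ha hb n1 n2 n3

include S h hL hM in
/-- the sign in which the stars are cliques: one star -/
theorem star_facts (hP : ∀ e ∈ B, ∀ f ∈ B, e ≠ f → IsConj (z : G) ((L e * L f : ↥Cg) : G)) :
    baseStar z B L ⊆ conjIn A (z : G) ∧ (baseStar z B L).ncard = 23 ∧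
      (∀ u ∈ baseStar z B L, ∀ v ∈ baseStar z B L, u ≠ v →
        star (conjIn A (z : G)) u v = baseStar z B L ∧ u * v ∈ conjIn A (z : G)) ∧
      ∀ n ∈ Subgroup.normalizer (A : Set G), n * (z : G) * n⁻¹ = z →
        MulAut.conj n '' baseStar z B L = baseStar z B L := by
  set X := conjIn A (z : G) with hX
  have hW : ∀ x ∈ B, π (L x) ∈ Subgroup.closure B := fun x hx => lift_mem h hx (hL.proj x (h.base.sub hx))
  have hinj : ∀ {a b : Q}, a ∈ B → b ∈ B → (L a : G) = L b → a = b := fun ha hb e => by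
    rw [← hL.proj _ (h.base.sub ha), Subtype.ext e, hL.proj _ (h.base.sub hb)]
  have hzne : ∀ {a : Q}, a ∈ B → (L a : G) ≠ z := fun {a} ha e => ne_one S.hD.1 (h.base.sub ha) (by
    rw [← hL.proj a (h.base.sub ha), Subtype.ext e, h.cover.one])
  have hzz : ∀ v : ↥Cg, z * (z * v) = v := fun v => by rw [← mul_assoc, h.cover.sq, one_mul]
  have hzL : ∀ {a : Q}, a ∈ B → (z : G) * L a ∈ X := fun ha => by
    rw [← Subgroup.coe_mul]; exact (lift_in h hM ha hL).2
  have hLL : ∀ {a b : Q}, a ∈ B → b ∈ B → a ≠ b → (L a : G) * L b ∈ X := fun {a b} ha hb hab => by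
    rw [← Subgroup.coe_mul]
    exact (mem_conjIn h).mpr ⟨by rw [map_mul]; exact mul_mem (hW a ha) (hW b hb), hP a ha b hb hab⟩
  have hLz : ∀ {a b : Q}, a ∈ B → b ∈ B → a ≠ b → (L a : G) * ((z * L b : ↥Cg) : G) ∉ X := fun {a b} ha hb hab hc => by
    rw [← Subgroup.coe_mul, ← mul_assoc, ← h.cover.central, mul_assoc] at hc
    exact (cnt_one (hM.two a ha b hb hab)).mp (hP a ha b hb hab) ((mem_conjIn h).mp hc).2
  have hcl : ∀ y ∈ X, y = (z : G) ∨ (∃ e ∈ B, y = (L e : G) ∨ y = ((z * L e : ↥Cg) : G)) ∨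
      ∃ e ∈ B, ∃ f ∈ B, e ≠ f ∧ y = ((L e * L f : ↥Cg) : G) := by
    intro y hy
    obtain ⟨u, rfl, hu⟩ := elem_cases S h hL hy.1
    have hp := ((mem_conjIn h).mp hy).2
    rcases hu with rfl | rfl | ⟨a, ha, hu⟩ | ⟨a, ha, b, hb, hab, rfl | rfl⟩ | hu
    · exact absurd hp (not_isConj_one h)
    · exact Or.inl rfl
    · exact Or.inr (Or.inl ⟨a, ha, hu.imp (congrArg Subtype.val) (congrArg Subtype.val)⟩)
    · exact Or.inr (Or.inr ⟨a, ha, b, hb, hab, rfl⟩)
    · exact absurd hp ((cnt_one (hM.two a ha b hb hab)).mp (hP a ha b hb hab))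
    · exact absurd hp (cnt_zero (hM.three u hu)).1
  have hzcomm : ∀ v : ↥Cg, Commute (z : G) (v : G) := fun v => (show Commute z v from h.cover.central v).map Cg.subtype
  have hone : (1 : G) ∉ X := fun hc => not_isConj_one h hc.2
  have hdz : ∀ {a : Q}, a ∈ B → star X (z : G) (L a) = baseStar z B L := by
    intro a ha
    ext w
    constructor
    · rintro (rfl | rfl | ⟨hw, hzw, haw, hne⟩)
      · exact Or.inl rfl
      · exact Or.inr ⟨a, ha, rfl⟩
      · obtain ⟨e, he, rfl | rfl⟩ := near S h hL hM hw hzw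
        · exact Or.inr ⟨e, he, rfl⟩
        · by_cases hea : a = e
          · exact absurd (by rw [hea, Subgroup.coe_mul]) hne
          · exact absurd haw (hLz ha he hea)
    · rintro (rfl | ⟨e, he, rfl⟩)
      · exact Or.inl rfl
      · by_cases hea : e = a
        · exact Or.inr (Or.inl (by rw [hea]))
        · refine Or.inr (Or.inr ⟨(lift_in h hM he hL).1, hzL he, hLL ha he (Ne.symm hea), fun e' => ?_⟩)
          refine hea ?_
          rw [← hL.proj e (h.base.sub he), show L e = z * L a from Subtype.ext e', map_mul, h.cover.one, one_mul,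
            hL.proj a (h.base.sub ha)]
  refine ⟨?_, ?_, ?_, ?_⟩
  · rintro _ (rfl | ⟨e, he, rfl⟩)
    exacts [self_mem h, (lift_in h hM he hL).1]
  · rw [baseStar, Set.ncard_insert_of_notMem (by rintro ⟨e, he, e'⟩; exact hzne he e') (Set.toFinite _),
      Set.InjOn.ncard_image (fun a ha b hb e => hinj ha hb e), h.base.card]
  · rintro _ (rfl | ⟨a, ha, rfl⟩) _ (rfl | ⟨b, hb, rfl⟩) hne
    · exact absurd rfl hne
    · exact ⟨hdz hb, hzL hb⟩
    · exact ⟨(star_comm (hzcomm (L a)).symm).trans (hdz ha), by rw [← (hzcomm (L a)).eq]; exact hzL ha⟩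
    · have hab : a ≠ b := fun e => hne (by rw [e])
      refine ⟨?_, hLL ha hb hab⟩
      ext w
      constructor
      · rintro (rfl | rfl | ⟨hw, haw, hbw, hwne⟩)
        · exact Or.inr ⟨a, ha, rfl⟩
        · exact Or.inr ⟨b, hb, rfl⟩
        · rcases hcl w hw with rfl | ⟨e, he, rfl | rfl⟩ | ⟨e, he, f, hf, hef, rfl⟩
          · exact Or.inl rfl
          · exact Or.inr ⟨e, he, rfl⟩
          · by_cases hae : a = e
            · exact absurd hbw (hLz hb he (fun e' => hab (hae.trans e'.symm)))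
            · exact absurd haw (hLz ha he hae)
          · have hae : a = e ∨ a = f := by
              by_contra hn
              rw [not_or] at hn
              exact three_out h hL hM ha he hf hn.1 hn.2 hef (hL.proj a (h.base.sub ha))
                (by rw [map_mul, hL.proj e (h.base.sub he), hL.proj f (h.base.sub hf)]) haw
            have hbe : b = e ∨ b = f := by
              by_contra hn
              rw [not_or] at hn
              exact three_out h hL hM hb he hf hn.1 hn.2 hef (hL.proj b (h.base.sub hb))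
                (by rw [map_mul, hL.proj e (h.base.sub he), hL.proj f (h.base.sub hf)]) hbw
            refine absurd ?_ hwne
            rcases hae with rfl | rfl <;> rcases hbe with rfl | rfl
            · exact absurd rfl hab
            · rw [Subgroup.coe_mul]
            · rw [(hL.comm _ (h.base.sub hb) _ (h.base.sub ha) (h.base.clique _ hb _ ha)).eq, Subgroup.coe_mul]
            · exact absurd rfl hab
      · rintro (rfl | ⟨e, he, rfl⟩)
        · refine Or.inr (Or.inr ⟨self_mem h, ?_, ?_, fun e' => ?_⟩)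
          · rw [← (hzcomm (L a)).eq]; exact hzL ha
          · rw [← (hzcomm (L b)).eq]; exact hzL hb
          · have := hLL ha hb hab
            have hp : π (L a * L b) = 1 := by
              rw [show L a * L b = z from Subtype.ext (by rw [Subgroup.coe_mul]; exact e'.symm), h.cover.one]
            rw [map_mul, hL.proj a (h.base.sub ha), hL.proj b (h.base.sub hb)] at hp
            exact hab (by rw [eq_inv_of_mul_eq_one_left hp, inv_eq S.hD.1 (h.base.sub hb)])
        · by_cases hea : e = a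
          · exact Or.inl (by rw [hea])
          by_cases heb : e = b
          · exact Or.inr (Or.inl (by rw [heb]))
          refine Or.inr (Or.inr ⟨(lift_in h hM he hL).1, hLL ha he (Ne.symm hea), hLL hb he (Ne.symm heb),
            fun e' => ?_⟩)
          have hp : π (L e) = π (L a * L b) := congrArg π (Subtype.ext (by rw [Subgroup.coe_mul]; exact e'))
          rw [hL.proj e (h.base.sub he), map_mul, hL.proj a (h.base.sub ha), hL.proj b (h.base.sub hb)] at hp
          exact absurd (m_unique S le_rfl (by norm_num) (by norm_num) (by norm_num)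
            (prod_one h.base he) (hp ▸ prod_two h.base ha hb hab)) (by norm_num)
  · intro n hn hnz
    have hnC : n ∈ Cg := (h.mem n).mpr (mul_inv_eq_iff_eq_mul.mp hnz)
    refine Set.eq_of_subset_of_ncard_le ?_ (by rw [Set.ncard_image_of_injective _ (MulAut.conj n).injective])
      (Set.toFinite _)
    rintro _ ⟨_, rfl | ⟨e, he, rfl⟩, rfl⟩
    · exact Or.inl (by simp only [MulAut.conj_apply]; exact hnz)
    · refine Or.inr ⟨π ⟨n, hnC⟩ * e * (π ⟨n, hnC⟩)⁻¹, ?_, ?_⟩
      · have he' : π ⟨n, hnC⟩ * e * (π ⟨n, hnC⟩)⁻¹ ∈ E := S.hD.2.1 _ e (h.base.sub he)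
        have hA : ((L (π ⟨n, hnC⟩ * e * (π ⟨n, hnC⟩)⁻¹) : ↥Cg) : G) ∈ A := by
          rw [← hL.conj e (h.base.sub he) ⟨n, hnC⟩]
          exact (Subgroup.mem_normalizer_iff.mp hn _).mp (lift_in h hM he hL).1.1
        rw [h.hA, hL.proj _ he'] at hA
        exact h.base.maximal S he' fun x hx => h.base.closure_comm x (Subgroup.subset_closure hx) _ hA
      · simp only [MulAut.conj_apply]
        rw [← hL.conj e (h.base.sub he) ⟨n, hnC⟩]
        rfl

theorem image_conj_conj (n m : G) (T : Set G) :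
    MulAut.conj n '' (MulAut.conj m '' T) = MulAut.conj (n * m) '' T := by
  rw [Set.image_image]
  simp [mul_assoc]

include h in
theorem image_star {n : G} (hn : n ∈ Subgroup.normalizer (A : Set G)) (u v : G) :
    MulAut.conj n '' star (conjIn A (z : G)) u v = star (conjIn A (z : G)) (MulAut.conj n u) (MulAut.conj n v) := by
  have hX : ∀ x, MulAut.conj n x ∈ conjIn A (z : G) ↔ x ∈ conjIn A (z : G) := fun x => by
    rw [MulAut.conj_apply]; exact conj_mem_iff h hn x
  ext w
  obtain ⟨w, rfl⟩ := (MulAut.conj n).surjective w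
  rw [(MulAut.conj n).injective.mem_set_image]
  simp only [star, Set.mem_insert_iff, Set.mem_ofPred_eq, ← map_mul, hX, (MulAut.conj n).injective.eq_iff,
    (MulAut.conj n).injective.ne_iff]

include S h hL hM in
/-- the sign in which the stars are cliques is impossible -/
theorem ne_cliques (hP : ∀ e ∈ B, ∀ f ∈ B, e ≠ f → IsConj (z : G) ((L e * L f : ↥Cg) : G))
    (hX : (conjIn A (z : G)).ncard = 276) : False := by
  classical
  set X := conjIn A (z : G) with hXdef
  set N := Subgroup.normalizer (A : Set G) with hN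
  have hzz : ∀ v : ↥Cg, z * (z * v) = v := fun v => by rw [← mul_assoc, h.cover.sq, one_mul]
  -- the other class of lifts
  have hL' := Sect.shift h.cover hL
  have hM' : Mixed E π z B (fun e => z * L e) := by
    refine ⟨fun e he => ?_, fun e he f hf hef => ?_, hM.three⟩
    · rw [← hM.one e he]
      exact cnt_conj h (by rw [map_mul, h.cover.one, one_mul])
    · rw [(show Commute (L e) z from (h.cover.central _).symm).mul_mul_mul_comm, h.cover.sq, one_mul]
      exact hM.two e he f hf hef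
  obtain ⟨sub1, card1, pair1, fix1⟩ := star_facts S h hL hM hP
  obtain ⟨sub2, card2, pair2, fix2⟩ := star_facts S h hL' hM' (fun e he f hf hef => by
    rw [(show Commute (L e) z from (h.cover.central _).symm).mul_mul_mul_comm, h.cover.sq, one_mul]
    exact hP e he f hf hef)
  set T1 := baseStar z B L with hT1
  set T2 := baseStar z B (fun e => z * L e) with hT2
  have zT : ∀ i : Bool, (z : G) ∈ cond i T1 T2 := fun i => by cases i <;> exact Or.inl rfl
  have through : ∀ m ∈ N, ∀ i : Bool, (z : G) ∈ MulAut.conj m '' cond i T1 T2 →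
      MulAut.conj m '' cond i T1 T2 = T1 ∨ MulAut.conj m '' cond i T1 T2 = T2 := by
    intro m hm i hz
    have hpair : ∀ u ∈ cond i T1 T2, ∀ v ∈ cond i T1 T2, u ≠ v → star X u v = cond i T1 T2 ∧ u * v ∈ X := by
      cases i <;> assumption
    have hcard : (cond i T1 T2).ncard = 23 := by cases i <;> assumption
    have hsub : cond i T1 T2 ⊆ X := by cases i <;> assumption
    obtain ⟨v, hv, hvz⟩ := Set.exists_ne_of_one_lt_ncard (s := MulAut.conj m '' cond i T1 T2)
      (by rw [Set.ncard_image_of_injective _ (MulAut.conj m).injective, hcard]; norm_num) (z : G)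
    obtain ⟨v', hv', hv'e⟩ := hv
    obtain ⟨u', hu', hu'e⟩ := hz
    obtain ⟨hstar, hadj⟩ := hpair u' hu' v' hv' (fun e => hvz (by rw [← hv'e, ← hu'e, e]))
    have hT : MulAut.conj m '' cond i T1 T2 = star X (z : G) v := by
      rw [← hstar, hXdef, image_star h hm, hu'e, hv'e]
    have hzv : (z : G) * v ∈ X := by
      rw [← hu'e, ← hv'e, ← map_mul, MulAut.conj_apply]; exact (conj_mem_iff h hm _).mpr hadj
    have hvX : v ∈ X := by
      rw [← hv'e, MulAut.conj_apply]; exact (conj_mem_iff h hm _).mpr (hsub hv')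
    rw [hT]
    obtain ⟨e, he, rfl | rfl⟩ := near S h hL hM hvX hzv
    · exact Or.inl (pair1 _ (Or.inl rfl) _ (Or.inr ⟨e, he, rfl⟩) (Ne.symm hvz)).1
    · exact Or.inr (pair2 _ (Or.inl rfl) _ (Or.inr ⟨e, he, rfl⟩) (Ne.symm hvz)).1
  have at_pt : ∀ n ∈ N, ∀ x, n * (z : G) * n⁻¹ = x → ∀ m ∈ N, ∀ i : Bool, x ∈ MulAut.conj m '' cond i T1 T2 →
      MulAut.conj m '' cond i T1 T2 = MulAut.conj n '' T1 ∨ MulAut.conj m '' cond i T1 T2 = MulAut.conj n '' T2 := by
    intro n hn x hnx m hm i hxm
    have hz : (z : G) ∈ MulAut.conj (n⁻¹ * m) '' cond i T1 T2 := by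
      rw [← image_conj_conj]
      exact ⟨x, hxm, by rw [MulAut.conj_apply, ← hnx]; group⟩
    have := through (n⁻¹ * m) (mul_mem (inv_mem hn) hm) i hz
    refine this.imp (fun e => ?_) (fun e => ?_) <;>
      (have h2 := congrArg (fun T => MulAut.conj n '' T) e
       simp only [image_conj_conj, mul_inv_cancel_left] at h2
       exact h2)
  obtain ⟨a, ha⟩ : B.Nonempty := Set.nonempty_of_ncard_ne_zero (by rw [h.base.card]; norm_num)
  have haT : (L a : G) ∈ T1 := Or.inr ⟨a, ha, rfl⟩
  have haT' : ((z * L a : ↥Cg) : G) ∈ T2 := Or.inr ⟨a, ha, rfl⟩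
  have hane : (L a : G) ∉ T2 := by
    rintro (e | ⟨b, hb, e⟩)
    · exact ne_one S.hD.1 (h.base.sub ha) (by rw [← hL.proj a (h.base.sub ha), Subtype.ext e, h.cover.one])
    · have e' : z * L b = L a := Subtype.ext e
      have hba : b = a := by
        rw [← hL.proj a (h.base.sub ha), ← e', map_mul, h.cover.one, one_mul, hL.proj b (h.base.sub hb)]
      rw [hba] at e'
      exact h.cover.ne (mul_eq_right.mp e')
  have hane' : ((z * L a : ↥Cg) : G) ∉ T1 := by
    rintro (e | ⟨b, hb, e⟩)
    · exact ne_one S.hD.1 (h.base.sub ha) (by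
        rw [← hL.proj a (h.base.sub ha), show L a = 1 from mul_eq_left.mp (Subtype.ext e), map_one])
    · have e' : L b = z * L a := Subtype.ext e
      have hba : b = a := by
        rw [← hL.proj b (h.base.sub hb), e', map_mul, h.cover.one, one_mul, hL.proj a (h.base.sub ha)]
      rw [hba] at e'
      exact h.cover.ne (mul_eq_right.mp e'.symm)
  let orb : Set G → Prop := fun T => ∃ n ∈ N, T = MulAut.conj n '' T1
  have horb : ∀ n ∈ N, ∀ T, orb (MulAut.conj n '' T) → orb T := by
    rintro n hn T ⟨m, hm, e⟩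
    refine ⟨n⁻¹ * m, mul_mem (inv_mem hn) hm, ?_⟩
    rw [← image_conj_conj, ← e, image_conj_conj, inv_mul_cancel, map_one]
    simp
  have hone : ∀ T : Set G, MulAut.conj (1 : G) '' T = T := fun T => by rw [map_one]; simp
  -- one orbit of stars
  have hsame : orb T2 := by
    by_contra hcon
    have hLaX := (lift_in h hM ha hL).1
    have hzLaX := (lift_in h hM ha hL).2
    obtain ⟨n, hn, hnx⟩ := h.move _ hLaX.1 hLaX.2
    obtain ⟨m, hm, hmx⟩ := h.move _ hzLaX.1 hzLaX.2
    have h1 : T1 = MulAut.conj n '' T1 := by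
      rcases at_pt n hn _ hnx 1 (one_mem _) true (by rw [hone]; exact haT) with e | e <;> rw [hone] at e
      · exact e
      · exact absurd (horb n hn T2 ⟨1, one_mem _, by rw [hone]; exact e.symm⟩) hcon
    have h2 : T2 = MulAut.conj m '' T2 := by
      rcases at_pt m hm _ hmx 1 (one_mem _) false (by rw [hone]; exact haT') with e | e <;> rw [hone] at e
      · exact absurd ⟨m, hm, e⟩ hcon
      · exact e
    set Sg := star X (L a : G) ((z * L a : ↥Cg) : G) with hSg
    -- it is a star
    obtain ⟨k, hk, i, hki⟩ : ∃ k ∈ N, ∃ i : Bool, Sg = MulAut.conj k '' cond i T1 T2 := by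
      set v := n⁻¹ * ((z * L a : ↥Cg) : G) * n with hv
      have hnv : MulAut.conj n v = ((z * L a : ↥Cg) : G) := by rw [MulAut.conj_apply, hv]; group
      have hnz : MulAut.conj n (z : G) = (L a : G) := by rw [MulAut.conj_apply, hnx]
      have hvX : v ∈ X := by
        rw [hXdef, ← conj_mem_iff h hn, ← MulAut.conj_apply, hnv]; exact hzLaX
      have hzv : (z : G) * v ∈ X := by
        rw [hXdef, ← conj_mem_iff h hn, ← MulAut.conj_apply, map_mul, hnz, hnv, ← Subgroup.coe_mul]
        rw [show L a * (z * L a) = z by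
          rw [← mul_assoc, ← h.cover.central, mul_assoc, hL.sq a (h.base.sub ha), mul_one]]
        exact self_mem h
      have hne : (z : G) ≠ v := fun e => hane' (by
        rw [← hnv, ← e, hnz]; exact haT)
      obtain ⟨e, he, hve | hve⟩ := near S h hL hM hvX hzv
      · refine ⟨n, hn, true, ?_⟩
        rw [hSg, ← hnz, ← hnv, hXdef, ← image_star h hn,
          (pair1 _ (Or.inl rfl) v (Or.inr ⟨e, he, hve.symm⟩) hne).1]
        rfl
      · refine ⟨n, hn, false, ?_⟩
        rw [hSg, ← hnz, ← hnv, hXdef, ← image_star h hn,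
          (pair2 _ (Or.inl rfl) v (Or.inr ⟨e, he, hve.symm⟩) hne).1]
        rfl
    have hin1 : (L a : G) ∈ MulAut.conj k '' cond i T1 T2 := hki ▸ Or.inl rfl
    have hin2 : ((z * L a : ↥Cg) : G) ∈ MulAut.conj k '' cond i T1 T2 := hki ▸ Or.inr (Or.inl rfl)
    have e1 : Sg = MulAut.conj n '' T2 := by
      rcases at_pt n hn _ hnx k hk i hin1 with e | e
      · exact absurd (show ((z * L a : ↥Cg) : G) ∈ T1 by rw [h1, ← e]; exact hin2) hane'
      · exact hki.trans e
    have e2 : Sg = MulAut.conj m '' T1 := by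
      rcases at_pt m hm _ hmx k hk i hin2 with e | e
      · exact hki.trans e
      · exact absurd (show (L a : G) ∈ T2 by rw [h2, ← e]; exact hin1) hane
    exact hcon (horb n hn T2 ⟨m, hm, e1.symm.trans e2⟩)
  obtain ⟨m₂, hm₂, hT2e⟩ := hsame
  let := Fintype.ofFinite G
  let 𝒮 : Finset (Set G) := Finset.univ.filter orb
  have h𝒮 : ∀ {T}, T ∈ 𝒮 ↔ orb T := by simp [𝒮]
  have horbcard : ∀ T ∈ 𝒮, T.ncard = 23 ∧ T ⊆ X := by
    intro T hT
    obtain ⟨n, hn, rfl⟩ := h𝒮.mp hT
    refine ⟨by rw [Set.ncard_image_of_injective _ (MulAut.conj n).injective, card1], ?_⟩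
    rintro _ ⟨x, hx, rfl⟩
    rw [MulAut.conj_apply]
    exact (conj_mem_iff h hn x).mpr (sub1 hx)
  have hT12 : T1 ≠ T2 := fun e => hane (e ▸ haT)
  have htwo : ∀ x ∈ X.toFinset, (𝒮.filter fun T => x ∈ T).card = 2 := by
    intro x hx
    rw [Set.mem_toFinset] at hx
    obtain ⟨n, hn, hnx⟩ := h.move x hx.1 hx.2
    have hxn : ∀ i, x ∈ MulAut.conj n '' cond i T1 T2 := fun i => ⟨z, zT i, by rw [MulAut.conj_apply, hnx]⟩
    rw [show (𝒮.filter fun T => x ∈ T) = {MulAut.conj n '' T1, MulAut.conj n '' T2} from ?_,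
      Finset.card_pair (fun e => hT12 ((MulAut.conj n).injective.image_injective e))]
    ext T
    simp only [Finset.mem_filter, h𝒮, Finset.mem_insert, Finset.mem_singleton]
    constructor
    · rintro ⟨⟨k, hk, rfl⟩, hxT⟩
      exact at_pt n hn x hnx k hk true hxT
    · rintro (rfl | rfl)
      · exact ⟨⟨n, hn, rfl⟩, hxn true⟩
      · exact ⟨⟨n * m₂, mul_mem hn hm₂, by rw [hT2e, image_conj_conj]⟩, hxn false⟩
  have hcount := Finset.sum_card_bipartiteAbove_eq_sum_card_bipartiteBelow
    (fun (x : G) (T : Set G) => x ∈ T) (s := X.toFinset) (t := 𝒮)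
  simp only [Finset.bipartiteAbove, Finset.bipartiteBelow] at hcount
  rw [Finset.sum_const_nat htwo, Finset.sum_const_nat (m := 23) ?_, ← Set.ncard_eq_toFinset_card', hX] at hcount
  swap
  · intro T hT
    rw [← (horbcard T hT).1, ← Set.ncard_coe_finset]
    congr 1
    ext x
    simpa using fun hx => (horbcard T hT).2 hx
  -- orientation
  let Out : G → Set G → Prop := fun x T => ∃ n ∈ N, n * (z : G) * n⁻¹ = x ∧ T = MulAut.conj n '' T1
  have hout : ∀ x ∈ X.toFinset, (𝒮.filter fun T => Out x T).card = 1 := by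
    intro x hx
    rw [Set.mem_toFinset] at hx
    obtain ⟨n, hn, hnx⟩ := h.move x hx.1 hx.2
    rw [Finset.card_eq_one]
    refine ⟨MulAut.conj n '' T1, ?_⟩
    ext T
    simp only [Finset.mem_filter, h𝒮, Finset.mem_singleton]
    constructor
    · rintro ⟨-, k, hk, hkx, rfl⟩
      have := fix1 (n⁻¹ * k) (mul_mem (inv_mem hn) hk) (by
        rw [show n⁻¹ * k * (z : G) * (n⁻¹ * k)⁻¹ = n⁻¹ * (k * (z : G) * k⁻¹) * n by group, hkx, ← hnx]; group)
      conv_rhs => rw [← this, image_conj_conj, mul_inv_cancel_left]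
    · rintro rfl
      exact ⟨⟨n, hn, rfl⟩, n, hn, hnx, rfl⟩
  set r := (X.toFinset.filter fun x => Out x T1).card with hr
  have hreg : ∀ T ∈ 𝒮, (X.toFinset.filter fun x => Out x T).card = r := by
    intro T hT
    obtain ⟨k, hk, rfl⟩ := h𝒮.mp hT
    rw [hr, ← Finset.card_image_of_injective (X.toFinset.filter fun x => Out x T1) (MulAut.conj k).injective]
    congr 1
    ext x
    simp only [Finset.mem_filter, Finset.mem_image, Set.mem_toFinset]
    constructor
    · rintro ⟨hx, n, hn, hnx, hT'⟩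
      refine ⟨k⁻¹ * x * k, ⟨?_, k⁻¹ * n, mul_mem (inv_mem hk) hn, ?_, ?_⟩, by rw [MulAut.conj_apply]; group⟩
      · rw [hXdef, ← conj_mem_iff h hk, show k * (k⁻¹ * x * k) * k⁻¹ = x by group]; exact hx
      · rw [← hnx]; group
      · rw [← image_conj_conj, ← hT', image_conj_conj, inv_mul_cancel, hone]
    · rintro ⟨w, ⟨hw, n, hn, hnw, hT'⟩, rfl⟩
      refine ⟨by rw [MulAut.conj_apply]; exact (conj_mem_iff h hk w).mpr hw, k * n, mul_mem hk hn, ?_, ?_⟩
      · rw [MulAut.conj_apply, ← hnw]; group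
      · rw [← image_conj_conj, ← hT']
  have hcount' := Finset.sum_card_bipartiteAbove_eq_sum_card_bipartiteBelow
    (fun (x : G) (T : Set G) => Out x T) (s := X.toFinset) (t := 𝒮)
  simp only [Finset.bipartiteAbove, Finset.bipartiteBelow] at hcount'
  rw [Finset.sum_const_nat hout, Finset.sum_const_nat hreg, ← Set.ncard_eq_toFinset_card', hX] at hcount'
  have h24 : 𝒮.card = 24 := by omega
  rw [h24] at hcount'
  omega

include S h hL hM in
/-- the other sign is impossible -/
theorem ne_bipartite (hP : ∀ e ∈ B, ∀ f ∈ B, e ≠ f → ¬ IsConj (z : G) ((L e * L f : ↥Cg) : G)) : False := by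
  set X := conjIn A (z : G) with hXdef
  have hz : ∀ w, Commute z w := h.cover.central
  have hz2 : ∀ v : ↥Cg, z * (z * v) = v := fun v => by rw [← mul_assoc, h.cover.sq, one_mul]
  have hW : ∀ x ∈ B, π (L x) ∈ Subgroup.closure B := fun x hx => lift_mem h hx (hL.proj x (h.base.sub hx))
  have hpz : ∀ e ∈ B, ∀ f ∈ B, e ≠ f → IsConj (z : G) ((z * (L e * L f) : ↥Cg) : G) := fun e he f hf hef => by
    by_contra hc
    exact hP e he f hf hef ((cnt_one (hM.two e he f hf hef)).mpr hc)
  have inX : ∀ {e f : Q} {w : ↥Cg}, e ∈ B → f ∈ B → π w = e * f → IsConj (z : G) (w : G) → (w : G) ∈ X :=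
    fun {e f w} he hf hw hp => (mem_conjIn h).mpr
      ⟨hw ▸ mul_mem (Subgroup.subset_closure he) (Subgroup.subset_closure hf), hp⟩
  -- at the central involution
  have key : ∀ u ∈ X, ∀ v ∈ X, ∀ w ∈ X, (z : G) * u ∈ X → (z : G) * v ∈ X → (z : G) * w ∈ X → u * v ∈ X →
      u * w ∈ X ∨ v * w ∈ X := by
    intro u hu v hv w hw hzu hzv hzw huv
    obtain ⟨e, he, hue0⟩ := near S h hL hM hu hzu
    obtain ⟨f, hf, hvf0⟩ := near S h hL hM hv hzv
    obtain ⟨g, hg, hwg0⟩ := near S h hL hM hw hzw
    obtain ⟨u, rfl, hue⟩ : ∃ u' : ↥Cg, (u' : G) = u ∧ (u' = L e ∨ u' = z * L e) := by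
      rcases hue0 with e' | e'
      exacts [⟨_, e'.symm, Or.inl rfl⟩, ⟨_, e'.symm, Or.inr rfl⟩]
    obtain ⟨v, rfl, hvf⟩ : ∃ u' : ↥Cg, (u' : G) = v ∧ (u' = L f ∨ u' = z * L f) := by
      rcases hvf0 with e' | e'
      exacts [⟨_, e'.symm, Or.inl rfl⟩, ⟨_, e'.symm, Or.inr rfl⟩]
    obtain ⟨w, rfl, hwg⟩ : ∃ u' : ↥Cg, (u' : G) = w ∧ (u' = L g ∨ u' = z * L g) := by
      rcases hwg0 with e' | e'
      exacts [⟨_, e'.symm, Or.inl rfl⟩, ⟨_, e'.symm, Or.inr rfl⟩]
    simp only [← Subgroup.coe_mul] at huv ⊢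
    have hself : (z : G) ∈ X := self_mem h
    have sqL : ∀ {x : Q} {y : ↥Cg}, x ∈ B → (y = L x ∨ y = z * L x) → y * y = 1 := by
      rintro x y hx (rfl | rfl)
      · exact hL.sq x (h.base.sub hx)
      · exact (Sect.shift h.cover hL).sq x (h.base.sub hx)
    have proj : ∀ {x : Q} {y : ↥Cg}, x ∈ B → (y = L x ∨ y = z * L x) → π y = x := by
      rintro x y hx (rfl | rfl)
      · exact hL.proj x (h.base.sub hx)
      · exact (Sect.shift h.cover hL).proj x (h.base.sub hx)
    have n0 : ∀ {a b : Q}, a ∈ B → b ∈ B → a ≠ b → ((L a * L b : ↥Cg) : G) ∉ X :=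
      fun {a b} ha hb hab hc => hP a ha b hb hab ((mem_conjIn h).mp hc).2
    have s1 : ∀ {a b : Q}, a ∈ B → b ∈ B → a ≠ b → ((z * (L a * L b) : ↥Cg) : G) ∈ X := fun {a b} ha hb hab =>
      inX ha hb (by rw [map_mul, map_mul, h.cover.one, one_mul, hL.proj a (h.base.sub ha),
        hL.proj b (h.base.sub hb)]) (hpz a ha b hb hab)
    by_cases hge : g = e
    · rcases h.cover.eq_or u w (by rw [proj hg hwg, proj he hue, hge]) with rfl | rfl
      · refine Or.inr ?_
        rwa [← (show Commute w v from by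
          rcases hue with rfl | rfl <;> rcases hvf with rfl | rfl
          · exact hL.comm e (h.base.sub he) f (h.base.sub hf) (h.base.clique e he f hf)
          · exact (hz _).symm.mul_right (hL.comm e (h.base.sub he) f (h.base.sub hf) (h.base.clique e he f hf))
          · exact (hz _).mul_left (hL.comm e (h.base.sub he) f (h.base.sub hf) (h.base.clique e he f hf))
          · exact (Sect.shift h.cover hL).comm e (h.base.sub he) f (h.base.sub hf) (h.base.clique e he f hf)).eq]
      · refine Or.inl ?_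
        rw [← mul_assoc, ← h.cover.central, mul_assoc, sqL he hue, mul_one]; exact hself
    by_cases hgf : g = f
    · rcases h.cover.eq_or v w (by rw [proj hg hwg, proj hf hvf, hgf]) with rfl | rfl
      · exact Or.inl huv
      · refine Or.inr ?_
        rw [← mul_assoc, ← h.cover.central, mul_assoc, sqL hf hvf, mul_one]; exact hself
    by_cases hef : e = f
    · subst hef
      rcases h.cover.eq_or u v (by rw [proj hf hvf, proj he hue]) with rfl | rfl
      · rw [sqL he hue] at huv
        exact absurd ((mem_conjIn h).mp huv).2 (not_isConj_one h)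
      · have hpw : π (u * w) = π (L e * L g) := by
          rw [map_mul, map_mul, proj he hue, proj hg hwg, hL.proj e (h.base.sub he), hL.proj g (h.base.sub hg)]
        have hc1 : cnt z (u * w) = 1 := by
          rw [cnt_conj h (u := u * w) (v := L e * L g) (by rw [hpw]), hM.two e he g hg (Ne.symm hge)]
        have hpe : π (u * w) = e * g := by rw [map_mul, proj he hue, proj hg hwg]
        by_cases hp : IsConj (z : G) ((u * w : ↥Cg) : G)
        · exact Or.inl (inX he hg hpe hp)
        · refine Or.inr (inX he hg (by rw [map_mul, map_mul, h.cover.one, one_mul, ← map_mul, hpe]) ?_)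
          by_contra hc
          rw [mul_assoc] at hc
          exact hp ((cnt_one hc1).mpr hc)
    rcases hue with rfl | rfl <;> rcases hvf with rfl | rfl
    · exact absurd huv (n0 he hf hef)
    · rcases hwg with rfl | rfl
      · exact Or.inr (by rw [mul_assoc]; exact s1 hf hg (Ne.symm hgf))
      · exact Or.inl (by rw [← mul_assoc, ← h.cover.central, mul_assoc]; exact s1 he hg (Ne.symm hge))
    · rcases hwg with rfl | rfl
      · exact Or.inl (by rw [mul_assoc]; exact s1 he hg (Ne.symm hge))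
      · exact Or.inr (by rw [← mul_assoc, ← h.cover.central, mul_assoc]; exact s1 hf hg (Ne.symm hgf))
    · rw [(hz (L e)).symm.mul_mul_mul_comm, h.cover.sq, one_mul] at huv
      exact absurd huv (n0 he hf hef)
  obtain ⟨a, ha⟩ : B.Nonempty := Set.nonempty_of_ncard_ne_zero (by rw [h.base.card]; norm_num)
  obtain ⟨b, c, -, hb, hc, -, n1, n2, n3, -⟩ := h.base.exists_fourth S ha
  obtain ⟨p, q, r, hpqr, hset, hnd, hprod, -⟩ := six_prod S h.cover hL h.perf (h.base.tri ha hb hc n1 n2 n3)
  have hB6 : ∀ x ∈ ({a, b, c, p, q, r} : Set Q), x ∈ B := fun x hx => h.base.closed S ha hb hc (hset ▸ hx)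
  have hp : p ∈ B := hB6 p (by simp)
  have hq : q ∈ B := hB6 q (by simp)
  have hr : r ∈ B := hB6 r (by simp)
  simp only [List.nodup_cons, List.mem_cons, List.not_mem_nil, or_false, not_or, List.nodup_nil, and_true,
    not_false_eq_true] at hnd
  have hab' : ∀ {x y : Q}, x ∈ B → y ∈ B → π (z * (L x * L y)) = x * y := fun hx hy => by
    rw [map_mul, map_mul, h.cover.one, one_mul, hL.proj _ (h.base.sub hx), hL.proj _ (h.base.sub hy)]
  set Y : ↥Cg := z * (L a * L b) with hY
  have hYX : (Y : G) ∈ X := inX ha hb (hab' ha hb) (hpz a ha b hb n1)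
  obtain ⟨n, hn, hnY⟩ := h.move _ hYX.1 hYX.2
  set W : ↥Cg := z * (L c * L p) with hWdef
  have hWX : (W : G) ∈ X := inX hc hp (hab' hc hp) (hpz c hc p hp hnd.2.2.1.1)
  have hcab := hL.comm a (h.base.sub ha) b (h.base.sub hb) (h.base.clique a ha b hb)
  have eYu : Y * L a = z * L b := by
    rw [hY, mul_assoc, hcab.eq, mul_assoc (L b), hL.sq a (h.base.sub ha), mul_one]
  have eYv : Y * (z * L a) = L b := by
    rw [← mul_assoc, ← h.cover.central, mul_assoc, eYu, hz2]
  have eYw : Y * W = z * (L q * L r) := by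
    rw [hY, hWdef, (show Commute (L a * L b) z from (h.cover.central _).symm).mul_mul_mul_comm, h.cover.sq, one_mul]
    calc L a * L b * (L c * L p) = L a * (L b * L c) * L p := by group
      _ = z * (L p * (L q * L r) * L p) := by rw [hprod, mul_assoc]
      _ = z * (L q * L r * (L p * L p)) := by
        rw [((hL.comm _ hpqr.ma _ hpqr.mb hpqr.cab).mul_right (hL.comm _ hpqr.ma _ hpqr.mc hpqr.cac)).eq,
          mul_assoc (L q * L r)]
      _ = _ := by rw [hL.sq _ hpqr.ma, mul_one]
  -- pull back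
  let g : G → G := fun x => n⁻¹ * x * n
  have hg : ∀ x, n * g x * n⁻¹ = x := fun x => by simp only [g]; group
  have hgX : ∀ x, g x ∈ X ↔ x ∈ X := fun x => by rw [hXdef, ← conj_mem_iff h hn, hg]
  have hgz : ∀ x, (z : G) * g x = g ((Y : G) * x) := fun x => by
    simp only [g]; rw [← hnY]; group
  have hgm : ∀ x y, g x * g y = g (x * y) := fun x y => by simp only [g]; group
  have := key (g (L a)) ((hgX _).mpr (lift_in h hM ha hL).1) (g ((z * L a : ↥Cg) : G))
    ((hgX _).mpr (lift_in h hM ha hL).2) (g W) ((hgX _).mpr hWX)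
    (by rw [hgz, hgX, ← Subgroup.coe_mul, eYu]; exact (lift_in h hM hb hL).2)
    (by rw [hgz, hgX, ← Subgroup.coe_mul, eYv]; exact (lift_in h hM hb hL).1)
    (by rw [hgz, hgX, ← Subgroup.coe_mul, eYw]; exact inX hq hr (hab' hq hr) (hpz q hq r hr hpqr.nbc))
    (by
      rw [hgm, hgX, ← Subgroup.coe_mul, ← mul_assoc, ← h.cover.central, mul_assoc, hL.sq a (h.base.sub ha), mul_one]
      exact self_mem h)
  rw [hgm, hgm, hgX, hgX] at this
  have hacp : a ≠ c ∧ a ≠ p ∧ c ≠ p := ⟨n2, hnd.1.2.2.1, hnd.2.2.1.1⟩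
  rcases this with t | t
  · exact three_out h hL hM ha hc hp hacp.1 hacp.2.1 hacp.2.2 (hL.proj a (h.base.sub ha)) (hab' hc hp) t
  · exact three_out h hL hM ha hc hp hacp.1 hacp.2.1 hacp.2.2
      (by rw [map_mul, h.cover.one, one_mul, hL.proj a (h.base.sub ha)]) (hab' hc hp) t

include S h hL hM in
/-- the pattern two, one, none is impossible -/
theorem ne_two_one_zero (hX : (conjIn A (z : G)).ncard = 276) : False := by
  by_cases hP : ∃ a ∈ B, ∃ b ∈ B, a ≠ b ∧ IsConj (z : G) ((L a * L b : ↥Cg) : G)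
  · obtain ⟨a, ha, b, hb, hab, hp⟩ := hP
    exact ne_cliques S h hL hM (fun e he f hf hef => pair_uniform S h hL ha hb hab he hf hef hp) hX
  · exact ne_bipartite S h hL hM fun e he f hf hef hp => hP ⟨e, he, f, hf, hef, hp⟩

end Cfsg.Agent.Lib.FischerMTypes90
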