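import Mathlib
import Cfsg.Prelude.Def_Transfer
import Cfsg.Agent.Lib.FischerMTypes90.JointPairs

/-!
A centraliser of an involution which is a double cover of a group of type M(22): the Thompson
subgroup of a Sylow 2-subgroup is elementary abelian of order 2^11 and carries exactly 23
conjugates of the involution, permuted transitively by its normaliser.
-/

set_option autoImplicit false
set_option linter.style.haveILetI false
set_option linter.unusedSectionVars false

namespace Cfsg.Agent.Lib.FischerMTypes90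

open Cfsg.Agent.Lib.FischerMTypes.Basic Cfsg.Agent.Lib.FischerMTypes.Primitive
  Cfsg.Agent.Lib.FischerMTypes.Aut22 Cfsg.Agent.Lib.FischerMTypes.Syl22
  Cfsg.Agent.Lib.FischerMTypes.InvolutionsM22
open Cfsg.Agent.Lib.FischerMTypes.TraceCounts (Sys)

variable {G : Type*} [Group G] [Finite G] {Q : Type*} [Group Q] [Finite Q]
variable {E : Set Q} {F : Type} [Field F] [Fintype F]

section Lift

variable {C : Type*} [Group C] [Finite C] {π : C →* Q} {z : C}

/-- the lift of the group generated by a base is elementary abelian -/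
theorem preimage_elementary (hC : Cover π z) {L : Q → C} (hL : Sect E π L) {B : Set Q}
    (hB : IsBase E B) :
    (∀ x y : C, π x ∈ Subgroup.closure B → π y ∈ Subgroup.closure B → Commute x y) ∧
      ∀ x : C, π x ∈ Subgroup.closure B → x * x = 1 := by
  have hz : ∀ w, Commute z w := hC.central
  have himg : π '' (L '' B) = B := by
    ext x
    constructor
    · rintro ⟨_, ⟨e, he, rfl⟩, rfl⟩
      rwa [hL.proj e (hB.sub he)]
    · exact fun hx => ⟨L x, ⟨x, hx, rfl⟩, hL.proj x (hB.sub hx)⟩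
  have hsplit : ∀ x : C, π x ∈ Subgroup.closure B → ∃ k ∈ Subgroup.closure (L '' B), x = k ∨ x = z * k := by
    intro x hx
    rw [← himg, ← MonoidHom.map_closure] at hx
    obtain ⟨k, hk, hkx⟩ := hx
    exact ⟨k, hk, hC.eq_or k x hkx.symm⟩
  have hcomm := closure_lifts_comm hL hB.sub hB.clique
  have hsq : ∀ k ∈ Subgroup.closure (L '' B), k * k = 1 := by
    intro k hk
    induction hk using Subgroup.closure_induction with
    | mem y hy => obtain ⟨e, he, rfl⟩ := hy; exact hL.sq e (hB.sub he)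
    | one => simp
    | mul u v hu hv hu2 hv2 => rw [(hcomm v hv u hu).mul_mul_mul_comm, hu2, hv2, one_mul]
    | inv u _ hu2 => rw [← mul_inv_rev, hu2, inv_one]
  refine ⟨fun x y hx hy => ?_, fun x hx => ?_⟩
  · obtain ⟨k, hk, rfl | rfl⟩ := hsplit x hx <;> obtain ⟨l, hl, rfl | rfl⟩ := hsplit y hy
    · exact hcomm _ hk _ hl
    · exact (hz _).symm.mul_right (hcomm _ hk _ hl)
    · exact (hz _).mul_left (hcomm _ hk _ hl)
    · exact ((Commute.refl z).mul_right (hz _)).mul_left ((hz _).symm.mul_right (hcomm _ hk _ hl))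
  · obtain ⟨k, hk, rfl | rfl⟩ := hsplit x hx
    · exact hsq _ hk
    · rw [(hz k).symm.mul_mul_mul_comm, hC.sq, one_mul, hsq k hk]

end Lift

/-- an odd prime dividing the number of conjugates moves an elementary abelian self-centralising group -/
theorem odd_prime_bound (A : Subgroup G) (hA : ∀ x ∈ A, x ^ 2 = 1) (hcard : Nat.card A = 2 ^ 11)
    (hcent : ∀ g : G, (∀ a ∈ A, Commute g a) → g ∈ A) {d : G} (hd : d ∈ A)
    (hAab : ∀ x ∈ A, ∀ y ∈ A, Commute x y)
    (hmove : ∀ x ∈ A, IsConj d x → ∃ n ∈ Subgroup.normalizer (A : Set G), n * d * n⁻¹ = x)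
    {p : ℕ} (hp : p.Prime) (hp2 : p ≠ 2) (hdiv : p ∣ (conjIn A d).ncard) :
    ∃ j < 11, p ∣ 2 ^ 11 - 2 ^ j := by
  classical
  haveI : Fact p.Prime := ⟨hp⟩
  haveI : Fact (Nat.Prime 2) := ⟨Nat.prime_two⟩
  set N := Subgroup.normalizer (A : Set G)
  have hdN : d ∈ N := Subgroup.mem_normalizer_iff.mpr fun x => by
    constructor
    · intro hx
      rwa [(hAab d hd x hx).eq, mul_inv_cancel_right]
    · intro hx
      have := mul_mem (mul_mem (inv_mem hd) hx) hd
      rwa [show d⁻¹ * (d * x * d⁻¹) * d = x by group] at this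
  have hcls : {y : ↥N | IsConj (⟨d, hdN⟩ : ↥N) y}.ncard = (conjIn A d).ncard := by
    rw [← Set.ncard_image_of_injective _ (Subtype.val_injective (p := (· ∈ N)))]
    congr 1
    ext y
    constructor
    · rintro ⟨y, hy, rfl⟩
      obtain ⟨k, rfl⟩ := isConj_iff.mp hy
      exact ⟨(Subgroup.mem_normalizer_iff.mp k.2 d).mp hd, isConj_iff.mpr ⟨k, rfl⟩⟩
    · rintro ⟨hy, hyc⟩
      obtain ⟨n, hn, rfl⟩ := hmove y hy hyc
      exact ⟨⟨n * d * n⁻¹, mul_mem (mul_mem hn hdN) (inv_mem hn)⟩, isConj_iff.mpr ⟨⟨n, hn⟩, rfl⟩, rfl⟩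
  have hdvd : p ∣ Nat.card ↥N := by
    rw [← FischerMTypes.TripleCentralizer.card_mul_card_class (⟨d, hdN⟩ : ↥N), hcls]
    exact hdiv.mul_left _
  obtain ⟨⟨n, hn⟩, ho⟩ := exists_prime_orderOf_dvd_card' (G := ↥N) p hdvd
  rw [← Subgroup.orderOf_coe] at ho
  let f : Function.End ↥A := fun a => ⟨n * a * n⁻¹, (Subgroup.mem_normalizer_iff.mp hn a).mp a.2⟩
  have hpow : ∀ (k : ℕ) (a : ↥A), (((f ^ k) a : ↥A) : G) = n ^ k * a * (n ^ k)⁻¹ := by
    intro k
    induction k with
    | zero => intro a; simp [Function.End.one_def]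
    | succ k ih =>
      intro a
      rw [pow_succ' f k]
      show n * ((f ^ k) a : G) * n⁻¹ = _
      rw [ih, pow_succ' n k]
      group
  have hf : f ^ p ^ 1 = 1 := by
    funext a
    refine Subtype.ext ?_
    show (((f ^ p ^ 1) a : ↥A) : G) = (a : G)
    rw [hpow, pow_one, ← ho, pow_orderOf_eq_one]
    simp
  let := Fintype.ofFinite ↥A
  have hmod := Equiv.Perm.card_fixedPoints_modEq (f := f) hf
  set Fx : Subgroup G := A ⊓ Subgroup.centralizer ({n} : Set G)
  have hFx : Fintype.card (Function.fixedPoints f) = Nat.card ↥Fx := by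
    rw [← Nat.card_eq_fintype_card]
    refine Nat.card_congr
      { toFun := fun a => ⟨(a.1 : G), a.1.2, Subgroup.mem_centralizer_singleton_iff.mpr ?_⟩
        invFun := fun a => ⟨⟨(a : G), a.2.1⟩, Subtype.ext ?_⟩
        left_inv := fun a => rfl
        right_inv := fun a => rfl }
    · exact (mul_inv_eq_iff_eq_mul.mp (congrArg Subtype.val a.2)).symm
    · show n * (a : G) * n⁻¹ = a
      rw [← Subgroup.mem_centralizer_singleton_iff.mp a.2.2, mul_inv_cancel_right]
  obtain ⟨j, hj11, hj⟩ : ∃ j ≤ 11, Nat.card ↥Fx = 2 ^ j :=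
    (Nat.dvd_prime_pow Nat.prime_two).mp (hcard ▸ Subgroup.card_dvd_of_le inf_le_left)
  have hj' : j ≠ 11 := by
    intro e
    have hle : Fx = A := SetLike.coe_injective (Set.eq_of_subset_of_ncard_le (show (Fx : Set G) ⊆ A from fun x hx => hx.1) (by
      rw [← Nat.card_coe_set_eq, ← Nat.card_coe_set_eq]
      show Nat.card A ≤ Nat.card Fx
      rw [hcard, hj, e]) (Set.toFinite _))
    have hnA : n ∈ A := hcent n fun a ha => by
      have : a ∈ Fx := hle ▸ ha
      exact (Subgroup.mem_centralizer_singleton_iff.mp this.2).symm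
    have h2 := orderOf_dvd_of_pow_eq_one (hA n hnA)
    rw [ho] at h2
    exact hp2 ((Nat.prime_dvd_prime_iff_eq hp Nat.prime_two).mp h2)
  rw [hFx, ← Nat.card_eq_fintype_card, hcard, hj] at hmod
  exact ⟨j, by omega, (Nat.modEq_iff_dvd' (Nat.pow_le_pow_right (by norm_num) hj11)).mp hmod.symm⟩

variable {Cg : Subgroup G} {π : ↥Cg →* Q} {z : ↥Cg}

set_option maxHeartbeats 800000 in
/-- the count of conjugates -/
theorem ncard_eq (S : Sys E F) {B : Set Q} {A : Subgroup G} (h : Frame E π z B A)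
    (hA : ∀ x ∈ A, x ^ 2 = 1) (hcard : Nat.card A = 2 ^ 11) (hAab : ∀ x ∈ A, ∀ y ∈ A, Commute x y)
    (hcent : ∀ g : G, (∀ a ∈ A, Commute g a) → g ∈ A) (hne : ∃ x ∈ conjIn A (z : G), x ≠ (z : G)) :
    (conjIn A (z : G)).ncard = 23 := by
  obtain ⟨e₀, he₀⟩ : B.Nonempty := Set.nonempty_of_ncard_ne_zero (by rw [h.base.card]; norm_num)
  obtain ⟨f₀, g₀, -, hf₀, hg₀, -, n1, n2, n3, -⟩ := h.base.exists_fourth S he₀
  obtain ⟨u₀, hu₀⟩ := h.cover.surj e₀
  obtain ⟨A₀, hA₀, hA₀X⟩ : ∃ A₀ : ↥Cg, π A₀ = e₀ ∧ (cnt z A₀ = 1 → IsConj (z : G) (A₀ : G)) := by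
    by_cases hp : IsConj (z : G) (u₀ : G)
    · exact ⟨u₀, hu₀, fun _ => hp⟩
    · refine ⟨z * u₀, by rw [map_mul, h.cover.one, one_mul, hu₀], fun hc => ?_⟩
      refine (cnt_one hc).mpr ?_
      rwa [← mul_assoc, h.cover.sq, one_mul]
  obtain ⟨L, hL, hLA⟩ := exists_sect S h.cover (A₀ := A₀) (hA₀ ▸ h.base.sub he₀)
  rw [hA₀] at hLA
  set a := cnt z (L e₀) with ha
  set b := cnt z (L e₀ * L f₀) with hb
  set c := cnt z (L e₀ * (L f₀ * L g₀)) with hc
  have hpart : ∀ u v : ↥Cg, ∀ m, 1 ≤ m → m ≤ 3 → IsProd E m (π u) → IsProd E m (π v) → cnt z u = cnt z v :=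
    fun u v m p q hu hv => cnt_conj h (isConj_prod S p q hu hv)
  have hp1 : IsProd E 1 (π (L e₀)) := by rw [hL.proj e₀ (h.base.sub he₀)]; exact prod_one h.base he₀
  have hp2 : IsProd E 2 (π (L e₀ * L f₀)) := by
    rw [map_mul, hL.proj e₀ (h.base.sub he₀), hL.proj f₀ (h.base.sub hf₀)]; exact prod_two h.base he₀ hf₀ n1
  have hp3 : IsProd E 3 (π (L e₀ * (L f₀ * L g₀))) := by
    rw [map_mul, map_mul, hL.proj e₀ (h.base.sub he₀), hL.proj f₀ (h.base.sub hf₀), hL.proj g₀ (h.base.sub hg₀)]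
    exact prod_three h.base he₀ hf₀ hg₀ n1 n2 n3
  have h1 : ∀ u : ↥Cg, π u ∈ part E B 1 → cnt z u = a := fun u hu => hpart u _ 1 le_rfl (by norm_num) hu.2 hp1
  have h2 : ∀ u : ↥Cg, π u ∈ part E B 2 → cnt z u = b :=
    fun u hu => hpart u _ 2 (by norm_num) (by norm_num) hu.2 hp2
  have h3 : ∀ u : ↥Cg, π u ∈ part E B 3 → cnt z u = c :=
    fun u hu => hpart u _ 3 (by norm_num) le_rfl hu.2 hp3
  have h1' : ∀ e ∈ B, cnt z (L e) = a := fun e he => h1 _ (by
    rw [hL.proj e (h.base.sub he)]; exact ⟨Subgroup.subset_closure he, prod_one h.base he⟩)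
  have h2' : ∀ e ∈ B, ∀ f ∈ B, e ≠ f → cnt z (L e * L f) = b := fun e he f hf hef => h2 _ (by
    rw [map_mul, hL.proj e (h.base.sub he), hL.proj f (h.base.sub hf), part_two_iff S h.base]
    exact ⟨e, he, f, hf, hef, rfl⟩)
  have hc1 : c ≠ 1 := cnt_three S h hL (u := L e₀ * (L f₀ * L g₀)) ⟨by
    rw [map_mul, map_mul, hL.proj e₀ (h.base.sub he₀), hL.proj f₀ (h.base.sub hf₀), hL.proj g₀ (h.base.sub hg₀)]
    exact mul_mem (Subgroup.subset_closure he₀)
      (mul_mem (Subgroup.subset_closure hf₀) (Subgroup.subset_closure hg₀)), hp3⟩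
  have hLX : a = 1 → ∀ e ∈ B, IsConj (z : G) (L e : G) := by
    intro ha1 e he
    obtain ⟨g, hg⟩ := S.hprim.1 e₀ (h.base.sub he₀) e (h.base.sub he)
    obtain ⟨Y, rfl⟩ := h.cover.surj g
    rw [← hg, ← hL.conj e₀ (h.base.sub he₀) Y, isConj_conj_iff, hLA]
    exact hA₀X (hLA ▸ ha1)
  have hX := ncard_conjIn S h h1 h2 h3
  have h2le : 2 ≤ (conjIn A (z : G)).ncard := by
    obtain ⟨x, hx, hxz⟩ := hne
    rw [← Set.ncard_pair (Ne.symm hxz)]
    exact Set.ncard_le_ncard (by rintro y (rfl | rfl); exacts [self_mem h, hx]) (Set.toFinite _)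
  have kill : ∀ p : ℕ, p.Prime → p ≠ 2 → (∀ j : Fin 11, ¬ p ∣ 2 ^ 11 - 2 ^ (j : ℕ)) →
      ¬ p ∣ (conjIn A (z : G)).ncard := fun p hp hp2 hj hdiv => by
    obtain ⟨j, hj11, hjd⟩ := odd_prime_bound A hA hcard hcent (self_mem h).1 hAab h.move hp hp2 hdiv
    exact hj ⟨j, hj11⟩ hjd
  have ha2 : a ≤ 2 := cnt_le _
  have hb2 : b ≤ 2 := cnt_le _
  have hc2 : c ≤ 2 := cnt_le _
  clear_value a b c
  have fac : ∀ p k : ℕ, (conjIn A (z : G)).ncard = p * k → p.Prime → p ≠ 2 →
      (∀ j : Fin 11, ¬ p ∣ 2 ^ 11 - 2 ^ (j : ℕ)) → False := fun p k e hp hp2 hj => kill p hp hp2 hj ⟨k, e⟩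
  interval_cases a <;> interval_cases b <;> interval_cases c <;>
    simp only [mul_zero, mul_one, add_zero, Nat.reduceMul, Nat.reduceAdd] at hX
  all_goals first
    | exact absurd rfl hc1
    | exact hX
    | omega
    | exact (fac 29 8 hX (by norm_num) (by norm_num) (by decide)).elim
    | exact (fac 463 1 hX (by norm_num) (by norm_num) (by decide)).elim
    | exact (fac 67 23 hX (by norm_num) (by norm_num) (by decide)).elim
    | exact (fac 443 4 hX (by norm_num) (by norm_num) (by decide)).elim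
    | exact (fac 2003 1 hX (by norm_num) (by norm_num) (by decide)).elim
    | exact (fac 97 5 hX (by norm_num) (by norm_num) (by decide)).elim
    | exact (fac 521 3 hX (by norm_num) (by norm_num) (by decide)).elim
    | exact (fac 13 138 hX (by norm_num) (by norm_num) (by decide)).elim
    | exact (fac 13 39 hX (by norm_num) (by norm_num) (by decide)).elim
    | exact (fac 317 5 hX (by norm_num) (by norm_num) (by decide)).elim
    | exact (fac 227 8 hX (by norm_num) (by norm_num) (by decide)).elim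
    | exact (ne_two_zero_zero S h hL h1' h2' h3).elim
    | exact (ne_one_one_zero S h hL h1' (hLX rfl) h2' h3).elim
    | exact (ne_one_two_two S h hL h1' (hLX rfl) h2' h3).elim
    | exact (ne_two_one_zero S h hL ⟨h1', h2', h3⟩ hX).elim
    | exact (ne_two_two_two S h hL h1 h2 h3).elim

/-- the Thompson subgroup of the centraliser and the conjugates it carries -/
theorem thompson_main (S : Sys E F) (hmem : ∀ g, g ∈ Cg ↔ Commute g (z : G)) (hC : Cover π z)
    (hperf : commutator ↥Cg = ⊤) (hnwc : ∃ g : G, g * (z : G) * g⁻¹ ∈ Cg ∧ g * (z : G) * g⁻¹ ≠ (z : G))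
    (T : Sylow 2 ↥Cg) (A : Subgroup G)
    (hA : A = (Cfsg.thompsonSubgroupOf 2 (T : Subgroup ↥Cg)).map Cg.subtype) :
    Cfsg.IsElementaryAbelian 2 A ∧ Nat.card A = 2 ^ 11 ∧ (conjIn A (z : G)).ncard = 23 ∧
      ∀ x ∈ A, ∀ y ∈ A, IsConj (z : G) x → IsConj (z : G) y →
        ∃ n ∈ Subgroup.normalizer (A : Set G), n * x * n⁻¹ = y := by
  classical
  haveI : Fact (Nat.Prime 2) := ⟨Nat.prime_two⟩
  set Tb : Sylow 2 Q := T.mapSurjective hC.surj with hTb
  have hB := sylow_base S Tb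
  set B := {x : Q | x ∈ E ∧ x ∈ (Tb : Subgroup Q)} with hBdef
  obtain ⟨e, he⟩ : B.Nonempty := Set.nonempty_of_ncard_ne_zero (by rw [hB.card]; norm_num)
  obtain ⟨u, hu⟩ := hC.surj e
  obtain ⟨L, hL, -⟩ := exists_sect S hC (A₀ := u) (hu ▸ hB.sub he)
  obtain ⟨hab, hsq⟩ := preimage_elementary hC hL hB
  set A0 := (Subgroup.closure B).comap π with hA0
  have hWT : Subgroup.closure B ≤ (Tb : Subgroup Q) := (Subgroup.closure_le _).mpr fun x hx => hx.2
  have hzc : Subgroup.zpowers z ≤ Subgroup.center ↥Cg := by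
    rw [Subgroup.zpowers_le, Subgroup.mem_center_iff]
    exact fun y => (hC.central y).symm
  have hzT : z ∈ (T : Subgroup ↥Cg) := by
    haveI : (Subgroup.zpowers z).Normal := ⟨fun n hn g => by
      rw [Subgroup.mem_center_iff.mp (hzc hn) g, mul_inv_cancel_right]; exact hn⟩
    have h2 : IsPGroup 2 (Subgroup.zpowers z) := by
      refine IsPGroup.of_card (n := 1) ?_
      rw [Nat.card_zpowers, orderOf_eq_prime (p := 2) (by rw [sq, hC.sq]) hC.ne, pow_one]
    exact T.is_maximal' (IsPGroup.to_sup_of_normal_right T.isPGroup' h2) le_sup_left ▸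
      Subgroup.mem_sup_right (Subgroup.mem_zpowers z)
  have hA0T : A0 ≤ (T : Subgroup ↥Cg) := by
    intro x hx
    have hx' : π x ∈ (Tb : Subgroup Q) := hWT hx
    rw [hTb, Sylow.coe_mapSurjective] at hx'
    obtain ⟨s, hs, hsx⟩ := hx'
    rcases hC.eq_or s x hsx.symm with e' | e' <;> rw [e']
    exacts [hs, mul_mem hzT hs]
  have hcard0 : Nat.card A0 = 2048 := by
    rw [← SetLike.coe_sort_coe, Nat.card_coe_set_eq]
    show {x : ↥Cg | π x ∈ (Subgroup.closure B : Set Q)}.ncard = 2048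
    rw [hC.ncard_preimage, ← Nat.card_coe_set_eq]
    show 2 * Nat.card ↥(Subgroup.closure B) = 2048
    rw [card_closure_base S hB]
  have key : ∀ U : Subgroup ↥Cg, U ≤ (T : Subgroup ↥Cg) → (∀ x ∈ U, ∀ y ∈ U, Commute x y) →
      (∀ x ∈ U, x * x = 1) → U ≤ A0 ∨ Nat.card U < 2048 := by
    intro U hUT hUc hUs
    refine (eq_or_lt S hB (U.map π) ?_ ?_ ?_).imp (fun hle x hx => hle ⟨x, hx, rfl⟩) (fun hlt => ?_)
    · rintro _ ⟨x, hx, rfl⟩ _ ⟨y, hy, rfl⟩; exact (hUc x hx y hy).map π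
    · rintro _ ⟨x, hx, rfl⟩; rw [← map_mul, hUs x hx, map_one]
    · rintro _ ⟨x, hx, rfl⟩ y hy
      have hxT : π x ∈ (Tb : Subgroup Q) := by
        rw [hTb, Sylow.coe_mapSurjective]; exact ⟨x, hUT hx, rfl⟩
      exact ⟨S.hD.2.1 _ y hy.1, mul_mem (mul_mem hxT hy.2) (inv_mem hxT)⟩
    · have hle := Set.ncard_le_ncard (s := (U : Set ↥Cg)) (t := {x | π x ∈ ((U.map π : Subgroup Q) : Set Q)})
        (fun x hx => ⟨x, hx, rfl⟩) (Set.toFinite _)
      rw [hC.ncard_preimage, ← Nat.card_coe_set_eq, ← Nat.card_coe_set_eq] at hle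
      change Nat.card U ≤ 2 * Nat.card (U.map π) at hle
      rw [card_closure_base S hB] at hlt
      omega
  have hJ : Cfsg.thompsonSubgroupOf 2 (T : Subgroup ↥Cg) = A0 := by
    set E' := A0.subgroupOf (T : Subgroup ↥Cg) with hE'
    have hcE : Nat.card E' = 2048 := by
      rw [Nat.card_congr (Subgroup.subgroupOfEquivOfLe hA0T).toEquiv, hcard0]
    have helem : Cfsg.IsElementaryAbelian 2 E' :=
      ⟨⟨⟨fun x y => Subtype.ext (Subtype.ext (hab _ _ (Subgroup.mem_subgroupOf.mp x.2)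
        (Subgroup.mem_subgroupOf.mp y.2)).eq)⟩⟩,
        fun x hx => Subtype.ext (by
          show (x : ↥Cg) ^ 2 = 1
          rw [sq]
          exact hsq _ (Subgroup.mem_subgroupOf.mp hx))⟩
    have key' : ∀ U : Subgroup ↥(T : Subgroup ↥Cg), Cfsg.IsElementaryAbelian 2 U →
        U ≤ E' ∨ Nat.card U < Nat.card E' := by
      intro U hU
      have hc : Nat.card ↥(U.map (T : Subgroup ↥Cg).subtype) = Nat.card U :=
        Nat.card_congr (U.equivMapOfInjective _ Subtype.val_injective).toEquiv.symm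
      refine (key (U.map (T : Subgroup ↥Cg).subtype) (Subgroup.map_subtype_le U) ?_ ?_).imp
        (fun hle x hx => Subgroup.mem_subgroupOf.mpr (hle ⟨x, hx, rfl⟩)) (fun hlt => by rwa [hc, ← hcE] at hlt)
      · rintro _ ⟨x, hx, rfl⟩ _ ⟨y, hy, rfl⟩
        exact Commute.map (show Commute x y from congrArg Subtype.val (hU.1.is_comm.comm ⟨x, hx⟩ ⟨y, hy⟩))
          (T : Subgroup ↥Cg).subtype
      · rintro _ ⟨x, hx, rfl⟩
        rw [← map_mul, ← sq, hU.2 x hx, map_one]
    have hmax : Cfsg.maxElementaryAbelianSubgroups 2 ↥(T : Subgroup ↥Cg) = {E'} := by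
      ext U
      refine ⟨fun hU => ?_, fun hU => ?_⟩
      · rcases key' U hU.1 with hl | hl
        · exact SetLike.coe_injective (Set.eq_of_subset_of_ncard_le hl
            (by rw [← Nat.card_coe_set_eq, ← Nat.card_coe_set_eq]; exact hU.2 E' helem) (Set.toFinite _))
        · exact absurd (hU.2 E' helem) (not_le.mpr hl)
      · rw [Set.mem_singleton_iff] at hU
        subst hU
        refine ⟨helem, fun U hU => ?_⟩
        rcases key' U hU with hl | hl
        · exact Subgroup.card_le_of_le hl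
        · exact hl.le
    rw [Cfsg.thompsonSubgroupOf, Cfsg.thompsonSubgroup, hmax, sSup_singleton, hE',
      Subgroup.map_subgroupOf_eq_of_le hA0T]
  rw [hJ] at hA
  have hAle : A ≤ Cg := hA ▸ Subgroup.map_subtype_le A0
  have hAmem : ∀ x : ↥Cg, (x : G) ∈ A ↔ π x ∈ Subgroup.closure B := fun x => by
    rw [hA]
    exact ⟨fun ⟨y, hy, hyx⟩ => Subtype.ext hyx ▸ hy, fun hx => ⟨x, hx, rfl⟩⟩
  have hAab : ∀ x ∈ A, ∀ y ∈ A, Commute x y := fun x hx y hy =>
    (hab ⟨x, hAle hx⟩ ⟨y, hAle hy⟩ ((hAmem _).mp hx) ((hAmem _).mp hy)).map Cg.subtype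
  have hA2 : ∀ x ∈ A, x ^ 2 = 1 := fun x hx => by
    rw [sq]; exact congrArg Subtype.val (hsq ⟨x, hAle hx⟩ ((hAmem _).mp hx))
  have hcardA : Nat.card A = 2 ^ 11 := by
    rw [hA, Nat.card_congr (A0.equivMapOfInjective _ Subtype.val_injective).toEquiv.symm, hcard0]
    norm_num
  have hcent : ∀ g : G, (∀ a ∈ A, Commute g a) → g ∈ A := by
    intro g hg
    have hgC : g ∈ Cg := (hmem g).mpr (hg _ ((hAmem z).mpr (by rw [hC.one]; exact one_mem _)))
    refine (hAmem ⟨g, hgC⟩).mpr ?_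
    rw [← centralizer_base S hB, Subgroup.mem_centralizer_iff]
    intro b hb
    have hb' : (L b : G) ∈ A := (hAmem _).mpr (by rw [hL.proj b (hB.sub hb)]; exact Subgroup.subset_closure hb)
    have hc' : Commute (⟨g, hgC⟩ : ↥Cg) (L b) := Subtype.ext (hg _ hb').eq
    have := hc'.map π
    rw [hL.proj b (hB.sub hb)] at this
    exact this.eq.symm
  have hmove : ∀ x ∈ A, IsConj (z : G) x → ∃ n ∈ Subgroup.normalizer (A : Set G), n * (z : G) * n⁻¹ = x := by
    intro x hx hxc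
    obtain ⟨g, hg⟩ := isConj_iff.mp hxc
    set φ : ↥Cg →* G := (MulAut.conj g).toMonoidHom.comp Cg.subtype with hφdef
    have hφ : ∀ w : ↥Cg, φ w = g * (w : G) * g⁻¹ := fun w => rfl
    have hφi : Function.Injective φ := fun v w e => Subtype.ext (by
      rw [hφ, hφ] at e; exact mul_left_cancel (mul_right_cancel e))
    set U := A.comap φ with hU
    have hback : ∀ y ∈ A, g⁻¹ * y * g ∈ Cg := fun y hy => by
      rw [hmem, ← show g⁻¹ * x * g = (z : G) by rw [← hg]; group]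
      have := (commute_conj_iff g⁻¹ y x).mpr (hAab y hy x hx)
      simpa only [MulAut.conj_apply, inv_inv] using this
    have hcardU : Nat.card U = 2048 := by
      rw [show (2048 : ℕ) = 2 ^ 11 by norm_num, ← hcardA]
      refine Nat.card_congr
        { toFun := fun w => ⟨φ w.1, w.2⟩
          invFun := fun y => ⟨⟨g⁻¹ * y * g, hback y y.2⟩, ?_⟩
          left_inv := fun w => Subtype.ext (Subtype.ext ?_)
          right_inv := fun y => Subtype.ext ?_ }
      · show φ _ ∈ A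
        rw [hφ]
        show g * (g⁻¹ * (y : G) * g) * g⁻¹ ∈ A
        rw [show g * (g⁻¹ * (y : G) * g) * g⁻¹ = y by group]
        exact y.2
      · show g⁻¹ * φ w.1 * g = _
        rw [hφ]; group
      · show φ _ = _
        rw [hφ]; group
    have hU2 : IsPGroup 2 U := IsPGroup.of_card (n := 11) (by rw [hcardU]; norm_num)
    obtain ⟨T', hT'⟩ := hU2.exists_le_sylow
    obtain ⟨c, hc⟩ := MulAction.exists_smul_eq ↥Cg T' T
    set U' := U.map (MulAut.conj c).toMonoidHom with hU'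
    have hU'T : U' ≤ (T : Subgroup ↥Cg) := by
      rintro _ ⟨w, hw, rfl⟩
      rw [← hc]
      exact Subgroup.smul_mem_pointwise_smul _ (MulAut.conj c) _ (hT' hw)
    have hUc : ∀ v ∈ U, ∀ w ∈ U, Commute v w := fun v hv w hw => by
      refine hφi ?_
      rw [map_mul, map_mul, (hAab _ hv _ hw).eq]
    have hcU' : Nat.card U' = 2048 := by
      rw [hU', Nat.card_congr (U.equivMapOfInjective _ (MulAut.conj c).injective).toEquiv.symm, hcardU]
    have hle : U' ≤ A0 := by
      refine (key U' hU'T ?_ ?_).resolve_right (by rw [hcU']; exact lt_irrefl _)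
      · rintro _ ⟨v, hv, rfl⟩ _ ⟨w, hw, rfl⟩
        exact (hUc v hv w hw).map _
      · rintro _ ⟨v, hv, rfl⟩
        have hv1 : v * v = 1 := hφi (by rw [map_mul, map_one, ← sq]; exact hA2 _ hv)
        rw [← map_mul, hv1, map_one]
    have heq : U' = A0 := SetLike.coe_injective (Set.eq_of_subset_of_ncard_le hle (by
      rw [← Nat.card_coe_set_eq, ← Nat.card_coe_set_eq]
      exact (hcard0.trans hcU'.symm).le) (Set.toFinite _))
    set k := (c : G) * g⁻¹ with hk
    have hfwd : ∀ y ∈ A, k * y * k⁻¹ ∈ A := by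
      intro y hy
      have hw : (⟨g⁻¹ * y * g, hback y hy⟩ : ↥Cg) ∈ U := by
        show φ _ ∈ A
        rw [hφ]
        show g * (g⁻¹ * y * g) * g⁻¹ ∈ A
        rwa [show g * (g⁻¹ * y * g) * g⁻¹ = y by group]
      have hw' : MulAut.conj c ⟨g⁻¹ * y * g, hback y hy⟩ ∈ A0 := heq ▸ ⟨_, hw, rfl⟩
      have := (hAmem _).mpr hw'
      simp only [MulAut.conj_apply, Subgroup.coe_mul, Subgroup.coe_inv] at this
      rwa [hk, show (c : G) * g⁻¹ * y * ((c : G) * g⁻¹)⁻¹ = (c : G) * (g⁻¹ * y * g) * (c : G)⁻¹ by group]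
    have hkN : k ∈ Subgroup.normalizer (A : Set G) := by
      refine Subgroup.mem_normalizer_iff.mpr fun y => ⟨hfwd y, fun hy => ?_⟩
      obtain ⟨w, hwA, hw⟩ : ∃ w ∈ A, k * w * k⁻¹ = k * y * k⁻¹ := by
        have hbij : (fun w => k * w * k⁻¹) '' (A : Set G) = A := Set.eq_of_subset_of_ncard_le
          (by rintro _ ⟨w, hw, rfl⟩; exact hfwd w hw)
          (by rw [Set.ncard_image_of_injective _ fun v w e => mul_left_cancel (mul_right_cancel e)]) (Set.toFinite _)
        have hy' : k * y * k⁻¹ ∈ (fun w => k * w * k⁻¹) '' (A : Set G) := hbij.symm ▸ hy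
        exact hy'
      rwa [← mul_left_cancel (mul_right_cancel hw)]
    have hkx : k * x * k⁻¹ = (z : G) := by
      rw [hk, ← hg, show (c : G) * g⁻¹ * (g * (z : G) * g⁻¹) * ((c : G) * g⁻¹)⁻¹ = c * (z : G) * (c : G)⁻¹ by group,
        ((hmem (c : G)).mp c.2).eq, mul_inv_cancel_right]
    exact ⟨k⁻¹, inv_mem hkN, by rw [← hkx]; group⟩
  have hframe : Frame E π z B A := ⟨hmem, hC, hperf, hB, hAle, hAmem, hmove⟩
  refine ⟨⟨⟨⟨fun x y => Subtype.ext (hAab x x.2 y y.2).eq⟩⟩, hA2⟩, hcardA, ?_, ?_⟩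
  · refine ncard_eq S hframe hA2 hcardA hAab hcent ?_
    obtain ⟨g, hgC, hgne⟩ := hnwc
    generalize hw : (⟨g * (z : G) * g⁻¹, hgC⟩ : ↥Cg) = w
    have hwc : IsConj (z : G) (w : G) := hw ▸ isConj_iff.mpr ⟨g, rfl⟩
    have hwz : w ≠ z := fun e' => hgne (by
      have := congrArg Subtype.val (hw.trans e'); exact this)
    have hw1 : w ≠ 1 := fun e' => not_isConj_one hframe (e' ▸ hwc)
    have hπ1 : π w ≠ 1 := fun e' => (hC.ker w e').elim hw1 hwz
    have hπ2 : π w * π w = 1 := by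
      rw [← map_mul]
      have hh : w * w = 1 := Subtype.ext (by
        rw [← hw]
        show g * (z : G) * g⁻¹ * (g * (z : G) * g⁻¹) = 1
        rw [show g * (z : G) * g⁻¹ * (g * (z : G) * g⁻¹) = g * ((z * z : ↥Cg) : G) * g⁻¹ by push_cast; group,
          hC.sq, OneMemClass.coe_one, mul_one, mul_inv_cancel])
      rw [hh, map_one]
    obtain ⟨m, hm1, hm3, hm⟩ := (three_classes S).1 (π w) (orderOf_eq_prime (by rw [sq, hπ2]) hπ1)
    obtain ⟨b, hb, hbm⟩ : (part E B m).Nonempty := Set.nonempty_of_ncard_ne_zero (by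
      interval_cases m
      · rw [part_one S hB, hB.card]; norm_num
      · rw [ncard_part_two S hB]; norm_num
      · rw [ncard_part_three S hB]; norm_num)
    obtain ⟨q, hq⟩ := isConj_iff.mp (isConj_prod S hm1 hm3 hm hbm)
    obtain ⟨Y, rfl⟩ := hC.surj q
    refine ⟨((Y * w * Y⁻¹ : ↥Cg) : G), (mem_conjIn hframe).mpr ⟨?_, (isConj_conj_iff Y w).mpr hwc⟩, fun e' => hwz ?_⟩
    · rw [map_mul, map_mul, map_inv, hq]; exact hb
    · have h' : Y * w * Y⁻¹ = z := Subtype.ext e'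
      calc w = Y⁻¹ * (Y * w * Y⁻¹) * Y := by group
        _ = Y⁻¹ * (z * Y) := by rw [h', mul_assoc]
        _ = z := by rw [hC.central Y, inv_mul_cancel_left]
  · intro x hx y hy hxc hyc
    obtain ⟨n, hn, rfl⟩ := hmove x hx hxc
    obtain ⟨k, hk, rfl⟩ := hmove y hy hyc
    exact ⟨k * n⁻¹, mul_mem hk (inv_mem hn), by group⟩

end Cfsg.Agent.Lib.FischerMTypes90
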